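import Groth.Agent.Lib.Fibred.EquivOver

/-!
# The 2-fibre product over the base: API and cartesian morphisms
-/

set_option autoImplicit false
set_option backward.isDefEq.respectTransparency false
set_option backward.isDefEq.respectTransparency.types false

universe v₄ u₄ v₃ u₃ v₂ u₂ v u

open CategoryTheory CategoryTheory.Functor CategoryTheory.Limits Groth.Agent.Lib.Fibred.Basic
  Groth.Agent.Lib.Fibred.EquivOver

namespace Groth.Agent.Lib.Fibred.Fp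

variable {C : Type u} [Category.{v} C] {𝒳 : BasedCategory.{v₂, u₂} C} {𝒴 : BasedCategory.{v₃, u₃} C}
  {𝒮 : BasedCategory.{v₄, u₄} C} {F : 𝒳 ⥤ᵇ 𝒮} {G : 𝒴 ⥤ᵇ 𝒮}

/-- Build an object of the fibre product. -/
def mkObj (x : 𝒳.obj) (y : 𝒴.obj) (e : F.obj x ≅ G.obj y)
    (he : 𝒮.p.IsHomLift (𝟙 (𝒳.p.obj x)) e.hom) : (FibCat.fp F G).obj :=
  ⟨{ fst := x, snd := y, iso := e }, he⟩

/-- Build a morphism of the fibre product. -/
def mkHom {z w : (FibCat.fp F G).obj} (a : z.obj.fst ⟶ w.obj.fst) (b : z.obj.snd ⟶ w.obj.snd)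
    (h : F.map a ≫ w.obj.iso.hom = z.obj.iso.hom ≫ G.map b) : z ⟶ w :=
  ObjectProperty.homMk { fst := a, snd := b, w := h }

@[simp] theorem mkHom_fst {z w : (FibCat.fp F G).obj} (a : z.obj.fst ⟶ w.obj.fst) (b : z.obj.snd ⟶ w.obj.snd)
    (h : F.map a ≫ w.obj.iso.hom = z.obj.iso.hom ≫ G.map b) : (mkHom a b h).hom.fst = a := rfl

@[simp] theorem mkHom_snd {z w : (FibCat.fp F G).obj} (a : z.obj.fst ⟶ w.obj.fst) (b : z.obj.snd ⟶ w.obj.snd)
    (h : F.map a ≫ w.obj.iso.hom = z.obj.iso.hom ≫ G.map b) : (mkHom a b h).hom.snd = b := rfl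

/-- Morphisms of the fibre product are determined by their components. -/
theorem hom_ext {z w : (FibCat.fp F G).obj} {φ ψ : z ⟶ w} (h₁ : φ.hom.fst = ψ.hom.fst)
    (h₂ : φ.hom.snd = ψ.hom.snd) : φ = ψ :=
  ObjectProperty.hom_ext _ (CategoricalPullback.hom_ext h₁ h₂)

@[simp] theorem comp_fst {z w t : (FibCat.fp F G).obj} (φ : z ⟶ w) (ψ : w ⟶ t) :
    (φ ≫ ψ).hom.fst = φ.hom.fst ≫ ψ.hom.fst := rfl

@[simp] theorem comp_snd {z w t : (FibCat.fp F G).obj} (φ : z ⟶ w) (ψ : w ⟶ t) :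
    (φ ≫ ψ).hom.snd = φ.hom.snd ≫ ψ.hom.snd := rfl

@[simp] theorem id_fst (z : (FibCat.fp F G).obj) : (𝟙 z : z ⟶ z).hom.fst = 𝟙 z.obj.fst := rfl

@[simp] theorem id_snd (z : (FibCat.fp F G).obj) : (𝟙 z : z ⟶ z).hom.snd = 𝟙 z.obj.snd := rfl

/-- The compatibility square of a morphism. -/
theorem w {z w : (FibCat.fp F G).obj} (φ : z ⟶ w) :
    F.map φ.hom.fst ≫ w.obj.iso.hom = z.obj.iso.hom ≫ G.map φ.hom.snd :=
  φ.hom.w

/-- Build an isomorphism of the fibre product. -/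
def isoMk {z w : (FibCat.fp F G).obj} (a : z.obj.fst ≅ w.obj.fst) (b : z.obj.snd ≅ w.obj.snd)
    (h : F.map a.hom ≫ w.obj.iso.hom = z.obj.iso.hom ≫ G.map b.hom) : z ≅ w :=
  ObjectProperty.isoMk _ (CategoricalPullback.mkIso a b h)

/-- The two components of an object lie over the same object. -/
theorem p_snd (z : (FibCat.fp F G).obj) : 𝒴.p.obj z.obj.snd = 𝒳.p.obj z.obj.fst :=
  (FibCat.fpSnd F G).w_obj z

/-- The structure isomorphism lies over the identity of any name of the base object. -/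
theorem iso_isHomLift (z : (FibCat.fp F G).obj) {R : C} (h : 𝒳.p.obj z.obj.fst = R) :
    𝒮.p.IsHomLift (𝟙 R) z.obj.iso.hom := by
  subst h; exact z.property

/-- Lifting in the fibre product is lifting of the first component. -/
theorem isHomLift_iff {z w : (FibCat.fp F G).obj} (φ : z ⟶ w) {R S : C} (f : R ⟶ S) :
    (FibCat.fp F G).p.IsHomLift f φ ↔ 𝒳.p.IsHomLift f φ.hom.fst :=
  (BasedFunctor.isHomLift_iff (FibCat.fpFst F G) f φ).symm

/-- The second component of a lift is a lift. -/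
theorem isHomLift_snd {z w : (FibCat.fp F G).obj} (φ : z ⟶ w) {R S : C} (f : R ⟶ S)
    [(FibCat.fp F G).p.IsHomLift f φ] : 𝒴.p.IsHomLift f φ.hom.snd :=
  BasedFunctor.preserves_isHomLift (FibCat.fpSnd F G) f φ

/-- Componentwise isomorphisms are isomorphisms. -/
theorem isIso_of_components {z w : (FibCat.fp F G).obj} (φ : z ⟶ w) [IsIso φ.hom.fst] [IsIso φ.hom.snd] :
    IsIso φ :=
  (isoMk (asIso φ.hom.fst) (asIso φ.hom.snd) (Fp.w φ)).isIso_hom

section Cartesian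

variable {R S : C} (f : R ⟶ S)

/-- Componentwise strongly cartesian morphisms are strongly cartesian. -/
theorem isStronglyCartesian {z w : (FibCat.fp F G).obj} (φ : z ⟶ w) [𝒳.p.IsStronglyCartesian f φ.hom.fst]
    [𝒴.p.IsStronglyCartesian f φ.hom.snd] (hS : 𝒮.p.IsStronglyCartesian f (G.map φ.hom.snd)) :
    (FibCat.fp F G).p.IsStronglyCartesian f φ := by
  have hl : (FibCat.fp F G).p.IsHomLift f φ := (isHomLift_iff φ f).mpr inferInstance
  refine { universal_property' := fun {u} g ψ hψ => ?_ }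
  have h1 : 𝒳.p.IsHomLift (g ≫ f) ψ.hom.fst := (isHomLift_iff ψ _).mp hψ
  have h2 : 𝒴.p.IsHomLift (g ≫ f) ψ.hom.snd := isHomLift_snd ψ _
  obtain ⟨a, ⟨ha, ha'⟩, hau⟩ :=
    IsStronglyCartesian.universal_property 𝒳.p f φ.hom.fst g (g ≫ f) rfl ψ.hom.fst
  obtain ⟨b, ⟨hb, hb'⟩, hbu⟩ :=
    IsStronglyCartesian.universal_property 𝒴.p f φ.hom.snd g (g ≫ f) rfl ψ.hom.snd
  have hz : 𝒳.p.obj z.obj.fst = R := IsHomLift.domain_eq 𝒳.p f φ.hom.fst
  have := iso_isHomLift z hz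
  have := iso_isHomLift u (rfl : 𝒳.p.obj u.obj.fst = _)
  have h : F.map a ≫ z.obj.iso.hom = u.obj.iso.hom ≫ G.map b := by
    have hl₁ : 𝒮.p.IsHomLift g (u.obj.iso.hom ≫ G.map b) :=
      IsHomLift.comp_lift_id_left' 𝒮.p (𝒳.p.obj u.obj.fst) u.obj.iso.hom g (G.map b)
    apply IsStronglyCartesian.ext 𝒮.p f (G.map φ.hom.snd) g
    simp only [Category.assoc, ← Fp.w φ, ← G.toFunctor.map_comp, hb']
    rw [← Category.assoc, ← F.toFunctor.map_comp, ha', Fp.w ψ]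
  refine ⟨mkHom a b h, ⟨(isHomLift_iff _ _).mpr ha, hom_ext ha' hb'⟩, ?_⟩
  rintro χ ⟨hχ, rfl⟩
  exact hom_ext (hau _ ⟨(isHomLift_iff _ _).mp hχ, rfl⟩) (hbu _ ⟨isHomLift_snd χ g, rfl⟩)

/-- Over a category with faithful structure functor componentwise cartesian morphisms are cartesian. -/
theorem isCartesian_of_faithful [𝒮.p.Faithful] {z w : (FibCat.fp F G).obj} (φ : z ⟶ w)
    [𝒳.p.IsCartesian f φ.hom.fst] [𝒴.p.IsCartesian f φ.hom.snd] : (FibCat.fp F G).p.IsCartesian f φ := by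
  have hl : (FibCat.fp F G).p.IsHomLift f φ := (isHomLift_iff φ f).mpr inferInstance
  refine { universal_property := fun {u} ψ hψ => ?_ }
  have h1 : 𝒳.p.IsHomLift f ψ.hom.fst := (isHomLift_iff ψ _).mp hψ
  have h2 : 𝒴.p.IsHomLift f ψ.hom.snd := isHomLift_snd ψ _
  have hu : 𝒳.p.obj u.obj.fst = R := IsHomLift.domain_eq 𝒳.p f ψ.hom.fst
  have hz : 𝒳.p.obj z.obj.fst = R := IsHomLift.domain_eq 𝒳.p f φ.hom.fst
  obtain ⟨a, ⟨ha, ha'⟩, hau⟩ := IsCartesian.universal_property (p := 𝒳.p) (f := f) (φ := φ.hom.fst) ψ.hom.fst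
  obtain ⟨b, ⟨hb, hb'⟩, hbu⟩ := IsCartesian.universal_property (p := 𝒴.p) (f := f) (φ := φ.hom.snd) ψ.hom.snd
  have := iso_isHomLift z hz
  have := iso_isHomLift u hu
  have h : F.map a ≫ z.obj.iso.hom = u.obj.iso.hom ≫ G.map b :=
    𝒮.p.map_injective (map_eq_of_isHomLift 𝒮.p (𝟙 R) _ _)
  refine ⟨mkHom a b h, ⟨(isHomLift_iff _ _).mpr ha, hom_ext ha' hb'⟩, ?_⟩
  rintro χ ⟨hχ, rfl⟩
  exact hom_ext (hau _ ⟨(isHomLift_iff _ _).mp hχ, rfl⟩) (hbu _ ⟨isHomLift_snd χ _, rfl⟩)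

end Cartesian

/-- A lift of the fibre product from lifts of the components. -/
theorem exists_lift {R : C} (z : (FibCat.fp F G).obj) (f : R ⟶ 𝒳.p.obj z.obj.fst) {x : 𝒳.obj} {y : 𝒴.obj}
    (a : x ⟶ z.obj.fst) (b : y ⟶ z.obj.snd) [𝒳.p.IsHomLift f a]
    [𝒮.p.IsCartesian f (F.map a)] [𝒮.p.IsCartesian f (G.map b)] :
    ∃ (z' : (FibCat.fp F G).obj) (φ : z' ⟶ z) (h₁ : z'.obj.fst = x) (h₂ : z'.obj.snd = y),
      φ.hom.fst = eqToHom h₁ ≫ a ∧ φ.hom.snd = eqToHom h₂ ≫ b := by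
  have := iso_isHomLift z (rfl : 𝒳.p.obj z.obj.fst = _)
  let e := IsCartesian.domainUniqueUpToIso 𝒮.p f (G.map b) (F.map a ≫ z.obj.iso.hom)
  have he : 𝒮.p.IsHomLift (𝟙 (𝒳.p.obj x)) e.hom := by
    rw [IsHomLift.domain_eq 𝒳.p f a]
    exact IsCartesian.domainUniqueUpToIso_inv_isHomLift _ _ _ _
  refine ⟨mkObj x y e he, mkHom a b ?_, rfl, rfl, (Category.id_comp _).symm, (Category.id_comp _).symm⟩
  exact (IsCartesian.fac 𝒮.p f (G.map b) (F.map a ≫ z.obj.iso.hom)).symm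

/-- The fibre product of fibred categories along functors preserving strongly cartesian morphisms is fibred. -/
theorem isFibered [𝒳.p.IsFibered] [𝒴.p.IsFibered]
    (hF : ∀ {R S : C} (f : R ⟶ S) {a b : 𝒳.obj} (φ : a ⟶ b),
      𝒳.p.IsStronglyCartesian f φ → 𝒮.p.IsStronglyCartesian f (F.map φ))
    (hG : ∀ {R S : C} (f : R ⟶ S) {a b : 𝒴.obj} (φ : a ⟶ b),
      𝒴.p.IsStronglyCartesian f φ → 𝒮.p.IsStronglyCartesian f (G.map φ)) :
    (FibCat.fp F G).p.IsFibered := by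
  refine IsFibered.of_exists_isStronglyCartesian fun z R f => ?_
  obtain ⟨x, a, ha⟩ := IsPreFibered.exists_isCartesian 𝒳.p (rfl : 𝒳.p.obj z.obj.fst = _) f
  obtain ⟨y, b, hb⟩ := IsPreFibered.exists_isCartesian 𝒴.p (p_snd z) f
  have := hF f a inferInstance
  have := hG f b inferInstance
  obtain ⟨z', φ, h₁, h₂, e₁, e₂⟩ := exists_lift z f a b
  subst h₁ h₂
  simp only [eqToHom_refl, Category.id_comp] at e₁ e₂
  subst e₁ e₂
  exact ⟨z', φ, isStronglyCartesian f φ (hG f φ.hom.snd inferInstance)⟩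

/-- The fibre product of categories fibred in groupoids is fibred in groupoids. -/
theorem isFibGrpd (h𝒳 : FibCat.IsFibGrpd 𝒳.p) (h𝒴 : FibCat.IsFibGrpd 𝒴.p) (h𝒮 : FibCat.IsFibGrpd 𝒮.p) :
    FibCat.IsFibGrpd (FibCat.fp F G).p := by
  have := isFibered_of_grpd h𝒳
  have := isFibered_of_grpd h𝒴
  have hfib := isFibered (F := F) (G := G) (fun f _ _ φ _ => stronglyCartesian_of_grpd h𝒮 f _)
    (fun f _ _ φ _ => stronglyCartesian_of_grpd h𝒮 f _)
  refine grpd_of_isFibered fun U => ⟨fun {z w} φ => ?_⟩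
  have hφ : (FibCat.fp F G).p.IsHomLift (𝟙 U) (Fiber.fiberInclusion.map φ) := inferInstance
  have := (isHomLift_iff _ _).mp hφ
  have := isHomLift_snd (Fiber.fiberInclusion.map φ) (𝟙 U)
  have := isIso_of_grpd_lift h𝒳 U (Fiber.fiberInclusion.map φ).hom.fst
  have := isIso_of_grpd_lift h𝒴 U (Fiber.fiberInclusion.map φ).hom.snd
  have := isIso_of_components (Fiber.fiberInclusion.map φ)
  exact isIso_fiber φ

/-- Pullback of a category fibred in setoids along a faithful functor is fibred in setoids. -/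
theorem isFibSetoid_of_faithful (h𝒳 : FibCat.IsFibGrpd 𝒳.p) (h𝒴 : FibCat.IsFibSetoid 𝒴.p)
    (h𝒮 : FibCat.IsFibGrpd 𝒮.p) [F.toFunctor.Faithful] : FibCat.IsFibSetoid (FibCat.fp F G).p := by
  refine setoid_iff.mpr ⟨isFibGrpd h𝒳 h𝒴.1 h𝒮, ⟨fun {z w} φ ψ e => ?_⟩⟩
  have := faithful_of_setoid h𝒴
  have := isHomLift_snd φ ((FibCat.fp F G).p.map φ)
  have := isHomLift_snd ψ ((FibCat.fp F G).p.map ψ)
  have h₂ : φ.hom.snd = ψ.hom.snd := by
    apply 𝒴.p.map_injective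
    have : 𝒴.p.IsHomLift ((FibCat.fp F G).p.map φ) ψ.hom.snd := by rw [e]; infer_instance
    exact map_eq_of_isHomLift 𝒴.p ((FibCat.fp F G).p.map φ) _ _
  refine hom_ext (F.toFunctor.map_injective ?_) h₂
  rw [← cancel_mono w.obj.iso.hom, Fp.w φ, Fp.w ψ, h₂]

end Groth.Agent.Lib.Fibred.Fp
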