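import Groth.Agent.Lib.Fibred.StackLemmas
import Groth.Agent.Lib.Fibred.Fp

/-!
# Stacks: gluing cocones, local essential surjectivity, subcategories
-/

set_option autoImplicit false
set_option backward.isDefEq.respectTransparency false
set_option backward.isDefEq.respectTransparency.types false

universe v₂ u₂ v₃ u₃ v₄ u₄ v u

open CategoryTheory CategoryTheory.Functor Groth.Agent.Lib.Fibred.Basic Groth.Agent.Lib.Fibred.EquivOver
  Groth.Agent.Lib.Fibred.Descent Groth.Agent.Lib.Fibred.StackLemmas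

namespace Groth.Agent.Lib.Fibred.StackLocal

variable {C : Type u} [Category.{v} C] {U : C} {R : Sieve U} {𝒳 : BasedCategory.{v₂, u₂} C}
  {𝒴 : BasedCategory.{v₃, u₃} C}

/-- The object of the sieve category of an arrow. -/
abbrev arr {V : C} (f : V ⟶ U) (hf : R f) : (Stk.sieveCat R).obj := ⟨Over.mk f, hf⟩

/-- Two morphisms out of a glued object agreeing on the cocone are equal. -/
theorem hom_ext_glued (h : FibCat.IsFibGrpd 𝒳.p) (hS : Sep R 𝒳) {H : Stk.sieveCat R ⥤ᵇ 𝒳} (g : Glued H)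
    {η : 𝒳.obj} (a b : g.pt ⟶ η) (ha : 𝒳.p.IsHomLift (𝟙 U) a) (hb : 𝒳.p.IsHomLift (𝟙 U) b)
    (e : ∀ i, g.ι i ≫ a = g.ι i ≫ b) : a = b := by
  refine hS a b ha hb fun V f hf z ψ hψ => ?_
  obtain ⟨θ, -, rfl⟩ := exists_factor h (g.ι (arr f hf)) (g.lifts (arr f hf)) ψ hψ
  rw [Category.assoc, Category.assoc, e]

/-- Two cocones on the same functor are related by a vertical morphism. -/
theorem exists_desc (h : FibCat.IsFibGrpd 𝒳.p) (hG : GlueHom R 𝒳) {H : Stk.sieveCat R ⥤ᵇ 𝒳} (g g' : Glued H) :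
    ∃ a : g.pt ⟶ g'.pt, 𝒳.p.IsHomLift (𝟙 U) a ∧ ∀ i, g.ι i ≫ a = g'.ι i := by
  choose θ hθ hθe using fun {V : C} (f : V ⟶ U) (hf : R f) {z : 𝒳.obj} (ψ : z ⟶ g.pt)
    (hψ : 𝒳.p.IsHomLift f ψ) => exists_factor (f := f) h (g.ι (arr f hf)) (g.lifts (arr f hf)) ψ hψ
  let c : Fam R 𝒳 g.pt g'.pt := fun V f hf z ψ hψ => θ f hf ψ hψ ≫ g'.ι (arr f hf)
  have hc : c.Compatible := by
    refine ⟨fun V f hf z ψ hψ => ?_, fun V f hf z ψ hψ V' k z' ρ hρ hψ' => ?_⟩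
    · have := hθ f hf ψ hψ
      have : 𝒳.p.IsHomLift f (g'.ι (arr f hf)) := g'.lifts (arr f hf)
      exact IsHomLift.comp_lift_id_left' 𝒳.p V (θ f hf ψ hψ) f (g'.ι (arr f hf))
    · let m : arr (k ≫ f) (R.downward_closed hf k) ⟶ arr f hf := ObjectProperty.homMk (Over.homMk k rfl)
      change θ (k ≫ f) _ _ hψ' ≫ g'.ι _ = ρ ≫ θ f hf ψ hψ ≫ g'.ι _
      rw [← g'.w m]
      have hm : 𝒳.p.IsHomLift k (H.map m) := by
        have : (Stk.sieveCat R).p.IsHomLift k m := sieveCat_isHomLift m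
        infer_instance
      have e : θ (k ≫ f) (R.downward_closed hf k) (ρ ≫ ψ) hψ' ≫ H.map m = ρ ≫ θ f hf ψ hψ := by
        have := hθ (k ≫ f) (R.downward_closed hf k) (ρ ≫ ψ) hψ'
        have := hθ f hf ψ hψ
        refine ext_lift h _ (g.lifts (arr f hf)) (g := k) inferInstance inferInstance ?_
        rw [Category.assoc, g.w m, hθe, Category.assoc, hθe]
      rw [reassoc_of% e]
  obtain ⟨a, ha, hae⟩ := hG g.proj g'.proj c hc
  refine ⟨a, ha, fun i => ?_⟩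
  rw [hae i.obj.hom i.property (g.ι i) (g.lifts i)]
  change θ _ _ _ _ ≫ g'.ι i = g'.ι i
  rw [ext_lift h (g.ι i) (g.lifts i) (hθ i.obj.hom i.property (g.ι i) (g.lifts i))
    (IsHomLift.id (H.w_obj i)) ((hθe _ _ _ _).trans (Category.id_comp _).symm), Category.id_comp]

/-- Transport a cocone along a functor over the base. -/
def mapGlued (F : 𝒳 ⥤ᵇ 𝒴) {H : Stk.sieveCat R ⥤ᵇ 𝒳} (g : Glued H) : Glued (BasedFunctor.comp H F) where
  pt := F.obj g.pt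
  proj := by rw [F.w_obj, g.proj]
  ι i := F.map (g.ι i)
  lifts i := haveI := g.lifts i; inferInstance
  w a b m := by
    change F.map (H.map m) ≫ F.map (g.ι b) = F.map (g.ι a)
    rw [← F.toFunctor.map_comp, g.w m]

variable (F : 𝒳 ⥤ᵇ 𝒴) [F.toFunctor.Full] [F.toFunctor.Faithful]

/-- Objects glue in the source of a fully faithful functor when glued objects lie in its essential image. -/
theorem glueObj_of_ff (hG : GlueObj R 𝒴)
    (hE : ∀ (H : Stk.sieveCat R ⥤ᵇ 𝒳) (g : Glued (BasedFunctor.comp H F)),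
      ∃ (ξ : 𝒳.obj) (e : F.obj ξ ≅ g.pt), 𝒴.p.IsHomLift (𝟙 U) e.hom) : GlueObj R 𝒳 := by
  intro H
  obtain ⟨g⟩ := hG (BasedFunctor.comp H F)
  obtain ⟨ξ, e, he⟩ := hE H g
  have hξ : 𝒳.p.obj ξ = U := by rw [← F.w_obj ξ]; exact IsHomLift.domain_eq 𝒴.p (𝟙 U) e.hom
  choose φ hφ using fun a : (Stk.sieveCat R).obj => F.toFunctor.map_surjective (g.ι a ≫ e.inv)
  refine ⟨⟨ξ, hξ, φ, fun a => (F.isHomLift_iff a.obj.hom (φ a)).mp ?_, fun a b m => F.toFunctor.map_injective ?_⟩⟩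
  · rw [hφ]
    have := g.lifts a
    infer_instance
  · rw [F.toFunctor.map_comp, hφ, hφ]
    exact (Category.assoc _ _ _).symm.trans (congrArg (fun t => t ≫ e.inv) (g.w m))

/-- A fully faithful functor with a family of lifts into an object gives a functor on the sieve. -/
theorem exists_functor (h𝒴 : FibCat.IsFibGrpd 𝒴.p) (y : 𝒴.obj) (hy : 𝒴.p.obj y = U)
    (hloc : ∀ ⦃V : C⦄ (f : V ⟶ U), R f → ∃ (x : 𝒳.obj) (φ : F.obj x ⟶ y), 𝒴.p.IsHomLift f φ) :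
    ∃ (H : Stk.sieveCat R ⥤ᵇ 𝒳) (g : Glued (BasedFunctor.comp H F)), g.pt = y := by
  choose x φ hφ using fun a : (Stk.sieveCat R).obj => hloc a.obj.hom a.property
  have ex : ∀ {a b : (Stk.sieveCat R).obj} (m : a ⟶ b),
      ∃ k : x a ⟶ x b, 𝒴.p.IsHomLift m.hom.left (F.map k) ∧ F.map k ≫ φ b = φ a := fun {a b} m => by
    have := cart h𝒴 (φ b) (hφ b)
    have := hφ a
    obtain ⟨ν, ⟨hν, hνe⟩, -⟩ := IsStronglyCartesian.universal_property 𝒴.p b.obj.hom (φ b) m.hom.left a.obj.hom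
      (Over.w m.hom).symm (φ a)
    obtain ⟨k, rfl⟩ := F.toFunctor.map_surjective ν
    exact ⟨k, hν, hνe⟩
  choose k hk hke using @ex
  let H₀ : (Stk.sieveCat R).obj ⥤ 𝒳.obj :=
    { obj := x
      map := fun m => k m
      map_id := fun a => F.toFunctor.map_injective (by
        have : 𝒴.p.IsHomLift (𝟙 a.obj.left) (F.map (k (𝟙 a))) := hk (𝟙 a)
        refine ext_lift h𝒴 (φ a) (hφ a) this ?_ ?_
        · rw [F.toFunctor.map_id]
          have := hφ a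
          exact IsHomLift.id (IsHomLift.domain_eq 𝒴.p a.obj.hom (φ a))
        · rw [hke, F.toFunctor.map_id, Category.id_comp])
      map_comp := fun {a b c} m n => F.toFunctor.map_injective (by
        have := hk m
        have := hk n
        refine ext_lift h𝒴 (φ c) (hφ c) (g := m.hom.left ≫ n.hom.left) (hk (m ≫ n)) ?_ ?_
        · rw [F.toFunctor.map_comp]; infer_instance
        · rw [hke, F.toFunctor.map_comp, Category.assoc, hke, hke]) }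
  let H : Stk.sieveCat R ⥤ᵇ 𝒳 :=
    { toFunctor := H₀
      w := CategoryTheory.Functor.ext
        (fun a => by
          have := hφ a
          change 𝒳.p.obj (x a) = a.obj.left
          rw [← F.w_obj (x a)]; exact IsHomLift.domain_eq 𝒴.p a.obj.hom (φ a))
        (fun a b m => by
          have : 𝒳.p.IsHomLift m.hom.left (k m) := (F.isHomLift_iff m.hom.left (k m)).mp (hk m)
          exact IsHomLift.fac' 𝒳.p m.hom.left (k m)) }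
  exact ⟨H, ⟨y, hy, φ, hφ, fun a b m => hke m⟩, rfl⟩

/-- A fully faithful functor of stacks which is locally essentially surjective is an equivalence. -/
theorem essSurjOver_of_locally (J : GrothendieckTopology C) (h𝒳 : Stk.IsStack J 𝒳) (h𝒴 : Stk.IsStack J 𝒴)
    (hloc : ∀ y : 𝒴.obj, ∃ R ∈ J (𝒴.p.obj y), ∀ ⦃V : C⦄ (f : V ⟶ 𝒴.p.obj y), R f →
      ∃ (x : 𝒳.obj) (φ : F.obj x ⟶ y), 𝒴.p.IsHomLift f φ) : EssSurjOver F := by
  intro y
  obtain ⟨R, hR, hl⟩ := hloc y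
  obtain ⟨H, g', hg'⟩ := exists_functor F h𝒴.1 y rfl hl
  obtain ⟨-, -, hobj⟩ := (isStackFor_iff h𝒳.1).mp (h𝒳.2 R hR)
  obtain ⟨g⟩ := hobj H
  obtain ⟨-, hhom, -⟩ := (isStackFor_iff h𝒴.1).mp (h𝒴.2 R hR)
  obtain ⟨a, ha, -⟩ := exists_desc h𝒴.1 hhom (mapGlued F g) g'
  have := isIso_of_vertical h𝒴.1 a ha
  refine ⟨g.pt, asIso a ≪≫ eqToIso hg', ?_⟩
  have : 𝒴.p.IsHomLift (𝟙 (𝒴.p.obj y)) (eqToHom hg') := IsHomLift.eqToHom_codomain_lift_id hg' rfl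
  simp only [Iso.trans_hom, asIso_hom, eqToIso.hom]
  infer_instance

omit [F.toFunctor.Full] [F.toFunctor.Faithful]

/-- An equivalence over the base is locally essentially surjective. -/
theorem locally_of_isEquivOver (J : GrothendieckTopology C) (h𝒳 : FibCat.IsFibGrpd 𝒳.p)
    (hF : FibCat.IsEquivOver F) (y : 𝒴.obj) :
    ∃ R ∈ J (𝒴.p.obj y), ∀ ⦃V : C⦄ (f : V ⟶ 𝒴.p.obj y), R f →
      ∃ (x : 𝒳.obj) (φ : F.obj x ⟶ y), 𝒴.p.IsHomLift f φ := by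
  obtain ⟨ξ, e, he⟩ := essSurjOver_of_isEquivOver hF y
  have hξ : 𝒳.p.obj ξ = 𝒴.p.obj y := by
    rw [← F.w_obj ξ]; exact IsHomLift.domain_eq 𝒴.p (𝟙 (𝒴.p.obj y)) e.hom
  refine ⟨⊤, J.top_mem _, fun V f _ => ?_⟩
  obtain ⟨z, ψ, hψ⟩ := Descent.exists_lift h𝒳 hξ f
  exact ⟨z, F.map ψ ≫ e.hom, inferInstance⟩

section Subcategory

variable (Q : ObjectProperty 𝒳.obj)

/-- The inclusion of a full subcategory over the base. -/
def subIncl : BasedCategory.ofFunctor (Q.ι ⋙ 𝒳.p) ⥤ᵇ 𝒳 where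
  toFunctor := Q.ι
  w := rfl

/-- A locally defined full subcategory of a stack is a stack. -/
theorem isStack_sub (J : GrothendieckTopology C) (h𝒳 : Stk.IsStack J 𝒳)
    (h1 : ∀ ⦃y x : 𝒳.obj⦄ (φ : y ⟶ x), Q x →
      ∃ (y' : 𝒳.obj) (e : y ≅ y'), Q y' ∧ 𝒳.p.IsHomLift (𝟙 (𝒳.p.obj y)) e.hom)
    (h3 : ∀ ⦃U : C⦄ (R : Sieve U), R ∈ J U → ∀ (x : 𝒳.obj), 𝒳.p.obj x = U →
      (∀ ⦃V : C⦄ (f : V ⟶ U), R f → ∀ (y : 𝒳.obj) (φ : y ⟶ x), 𝒳.p.IsHomLift f φ →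
        ∃ (y' : 𝒳.obj) (e : y ≅ y'), Q y' ∧ 𝒳.p.IsHomLift (𝟙 V) e.hom) →
      ∃ (x' : 𝒳.obj) (e : x ≅ x'), Q x' ∧ 𝒳.p.IsHomLift (𝟙 U) e.hom) :
    Stk.IsStack J (BasedCategory.ofFunctor (Q.ι ⋙ 𝒳.p)) := by
  let F := subIncl Q
  have : F.toFunctor.Full := inferInstanceAs Q.ι.Full
  have : F.toFunctor.Faithful := inferInstanceAs Q.ι.Faithful
  have hg : FibCat.IsFibGrpd (BasedCategory.ofFunctor (Q.ι ⋙ 𝒳.p)).p := by
    refine ⟨fun {x} {V} f => ?_, fun {a b} φ => ?_⟩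
    · obtain ⟨z, ψ, hψ⟩ := Descent.exists_lift h𝒳.1 (rfl : 𝒳.p.obj x.1 = _) f
      obtain ⟨y', e, hy', he⟩ := h1 ψ x.2
      have hz : 𝒳.p.obj z = V := IsHomLift.domain_eq 𝒳.p f ψ
      have : 𝒳.p.IsHomLift (𝟙 V) e.hom := hz ▸ he
      exact ⟨⟨y', hy'⟩, ObjectProperty.homMk (e.inv ≫ ψ),
        (F.isHomLift_iff f _).mp (inferInstanceAs (𝒳.p.IsHomLift f (e.inv ≫ ψ)))⟩
    · have : 𝒳.p.IsStronglyCartesian ((Q.ι ⋙ 𝒳.p).map φ) (F.map φ) :=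
        cart h𝒳.1 (F.map φ) (IsHomLift.map 𝒳.p (Q.ι.map φ))
      exact isStronglyCartesian_of_map F ((Q.ι ⋙ 𝒳.p).map φ) φ
  refine ⟨hg, fun U R hR => (isStackFor_iff hg).2 ?_⟩
  obtain ⟨hs, hh, ho⟩ := (isStackFor_iff h𝒳.1).mp (h𝒳.2 R hR)
  refine ⟨sep_of_faithful F hg h𝒳.1 hs, glueHom_of_ff F hg h𝒳.1 hh, glueObj_of_ff F ho fun H g => ?_⟩
  obtain ⟨x', e, hx', he⟩ := h3 R hR g.pt g.proj fun V f hf y φ hφ => by
    obtain ⟨θ, hθ, -⟩ := exists_factor (f := f) h𝒳.1 (g.ι (arr f hf)) (g.lifts (arr f hf)) φ hφ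
    have := isIso_of_vertical h𝒳.1 θ hθ
    exact ⟨_, asIso θ, (H.obj (arr f hf)).2, hθ⟩
  exact ⟨⟨x', hx'⟩, e.symm, (inferInstanceAs (𝒳.p.IsHomLift (𝟙 U) e.inv))⟩

end Subcategory

section Detect

variable {𝒯 : BasedCategory.{v₄, u₄} C}

/-- A category fibred in groupoids maps faithfully as soon as it has no vertical automorphism killed. -/
theorem faithful_of_vertical (h : FibCat.IsFibGrpd 𝒳.p) (h' : FibCat.IsFibGrpd 𝒴.p)
    (hv : ∀ ⦃x : 𝒳.obj⦄ (θ : x ⟶ x), 𝒳.p.IsHomLift (𝟙 (𝒳.p.obj x)) θ → F.map θ = 𝟙 _ → θ = 𝟙 x) :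
    F.toFunctor.Faithful := by
  refine ⟨fun {x y a b} hab => ?_⟩
  have hp : 𝒳.p.map a = 𝒳.p.map b := by
    have ha := F.isHomLift_iff (𝒳.p.map b) a
    have : 𝒳.p.IsHomLift (𝒳.p.map b) a := ha.mp (by rw [hab]; infer_instance)
    simpa using (IsHomLift.fac' 𝒳.p (𝒳.p.map b) a)
  have hb : 𝒳.p.IsHomLift (𝒳.p.map a) b := hp ▸ inferInstance
  obtain ⟨θ, hθ, rfl⟩ := exists_factor h a (IsHomLift.map 𝒳.p a) b hb
  have e : F.map θ = 𝟙 (F.obj x) := by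
    refine ext_lift h' (F.map a) (f := 𝒳.p.map a) inferInstance
      (g := 𝟙 (𝒳.p.obj x)) inferInstance (IsHomLift.id (F.w_obj x)) ?_
    rw [← F.toFunctor.map_comp, ← hab, Category.id_comp]
  rw [hv θ hθ e, Category.id_comp]

variable (G : 𝒯 ⥤ᵇ 𝒴)

/-- Local essential surjectivity produces, over a covering, objects of the fibre product. -/
theorem exists_fp_obj (h𝒴 : FibCat.IsFibGrpd 𝒴.p) (h𝒯 : FibCat.IsFibGrpd 𝒯.p) {t : 𝒯.obj} {V : C}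
    (f : V ⟶ 𝒯.p.obj t) (hl : ∃ (x : 𝒳.obj) (φ : F.obj x ⟶ G.obj t), 𝒴.p.IsHomLift f φ) :
    ∃ (o : (FibCat.fp F G).obj) (ψ : o.obj.snd ⟶ t), 𝒯.p.IsHomLift f ψ ∧ 𝒯.p.obj o.obj.snd = V := by
  obtain ⟨x, φ, hφ⟩ := hl
  obtain ⟨z, ψ, hψ⟩ := Descent.exists_lift h𝒯 rfl f
  obtain ⟨θ, hθ, -⟩ := exists_factor h𝒴 (G.map ψ) inferInstance φ hφ
  have := isIso_of_vertical h𝒴 θ hθ
  have hx : 𝒳.p.obj x = V := by rw [← F.w_obj x]; exact IsHomLift.domain_eq 𝒴.p f φ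
  exact ⟨Fp.mkObj x z (asIso θ) (by rw [hx]; exact hθ), ψ, hψ, IsHomLift.domain_eq 𝒯.p f ψ⟩

/-- A vertical endomorphism is trivial if it is so after restriction along a covering. -/
theorem eq_id_of_locally (h𝒯 : FibCat.IsFibGrpd 𝒯.p) {t : 𝒯.obj} {R : Sieve (𝒯.p.obj t)} (hS : Sep R 𝒯)
    (θ : t ⟶ t) (hθ : 𝒯.p.IsHomLift (𝟙 (𝒯.p.obj t)) θ)
    (hl : ∀ ⦃V : C⦄ (f : V ⟶ 𝒯.p.obj t), R f → ∃ (z : 𝒯.obj) (ψ : z ⟶ t), 𝒯.p.IsHomLift f ψ ∧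
      ∀ (θ' : z ⟶ z), 𝒯.p.IsHomLift (𝟙 V) θ' → θ' ≫ ψ = ψ ≫ θ → θ' = 𝟙 z) : θ = 𝟙 t := by
  refine hS θ (𝟙 t) hθ (IsHomLift.id rfl) fun V f hf w χ hχ => ?_
  obtain ⟨z, ψ, hψ, hz⟩ := hl f hf
  obtain ⟨ν, -, rfl⟩ := exists_factor h𝒯 ψ hψ χ hχ
  obtain ⟨θ', hθ', e⟩ := exists_factor h𝒯 ψ hψ (ψ ≫ θ) inferInstance
  rw [Category.comp_id, Category.assoc, ← e, hz θ' hθ' e, Category.id_comp]

end Detect

end Groth.Agent.Lib.Fibred.StackLocal
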