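import Groth.Agent.Lib.Fibred.Basic

/-!
# Equivalences over a base category: criterion, transfer of properties
-/

set_option autoImplicit false
set_option backward.isDefEq.respectTransparency false
set_option backward.isDefEq.respectTransparency.types false

universe v₄ u₄ v₃ u₃ v₂ u₂ v u

open CategoryTheory CategoryTheory.Functor Groth.Agent.Lib.Fibred.Basic

namespace Groth.Agent.Lib.Fibred.EquivOver

variable {C : Type u} [Category.{v} C] {𝒳 : BasedCategory.{v₂, u₂} C} {𝒴 : BasedCategory.{v₃, u₃} C}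
  {𝒵 : BasedCategory.{v₄, u₄} C}

/-- The image in the base of the image of a morphism. -/
theorem map_p (F : 𝒳 ⥤ᵇ 𝒴) {a b : 𝒳.obj} (φ : a ⟶ b) :
    𝒴.p.map (F.map φ) = eqToHom (F.w_obj a) ≫ 𝒳.p.map φ ≫ eqToHom (F.w_obj b).symm :=
  IsHomLift.fac' 𝒴.p (𝒳.p.map φ) (F.map φ)

/-- The component of a 2-isomorphism. -/
def appIso {F G : 𝒳 ⥤ᵇ 𝒴} (e : F ≅ G) (x : 𝒳.obj) : F.obj x ≅ G.obj x :=
  ((BasedNatTrans.forgetful _ _).mapIso e).app x

theorem appIso_isHomLift {F G : 𝒳 ⥤ᵇ 𝒴} (e : F ≅ G) (x : 𝒳.obj) {S : C} (hx : 𝒳.p.obj x = S) :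
    𝒴.p.IsHomLift (𝟙 S) (appIso e x).hom :=
  BasedNatTrans.isHomLift e.hom hx

/-- Naturality of the component of a 2-isomorphism. -/
theorem appIso_naturality {F G : 𝒳 ⥤ᵇ 𝒴} (e : F ≅ G) {x y : 𝒳.obj} (φ : x ⟶ y) :
    F.map φ ≫ (appIso e y).hom = (appIso e x).hom ≫ G.map φ :=
  e.hom.toNatTrans.naturality φ

/-- Each object of the target is, over the identity, isomorphic to the image of an object. -/
def EssSurjOver (F : 𝒳 ⥤ᵇ 𝒴) : Prop :=
  ∀ η : 𝒴.obj, ∃ (ξ : 𝒳.obj) (e : F.obj ξ ≅ η), 𝒴.p.IsHomLift (𝟙 (𝒴.p.obj η)) e.hom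

/-- Components give an equivalence over the base. -/
theorem isEquivOver_of_ff_essSurj (F : 𝒳 ⥤ᵇ 𝒴) [F.toFunctor.Full] [F.toFunctor.Faithful]
    (h : EssSurjOver F) : FibCat.IsEquivOver F := by
  classical
  choose ξ e he using h
  have hξ : ∀ η, 𝒳.p.obj (ξ η) = 𝒴.p.obj η := fun η => by
    rw [← F.w_obj (ξ η)]
    have := he η
    exact IsHomLift.domain_eq 𝒴.p (𝟙 (𝒴.p.obj η)) (e η).hom
  let G₀ : 𝒴.obj ⥤ 𝒳.obj :=
    { obj := ξ
      map := fun {η η'} g => F.toFunctor.preimage ((e η).hom ≫ g ≫ (e η').inv)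
      map_id := fun η => F.toFunctor.map_injective (by simp)
      map_comp := fun g g' => F.toFunctor.map_injective (by simp) }
  have hG : G₀ ⋙ 𝒳.p = 𝒴.p := by
    refine CategoryTheory.Functor.ext hξ (fun η η' g => ?_)
    have := he η
    have := he η'
    have : 𝒴.p.IsHomLift (𝟙 (𝒴.p.obj η) ≫ 𝒴.p.map g ≫ 𝟙 (𝒴.p.obj η'))
        (F.toFunctor.map (G₀.map g)) := by
      simp only [G₀, Functor.map_preimage]
      infer_instance
    have h2 : 𝒴.p.IsHomLift (𝒴.p.map g) (F.toFunctor.map (G₀.map g)) := by simpa using this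
    have := BasedFunctor.isHomLift_map F (𝒴.p.map g) (G₀.map g)
    exact IsHomLift.fac' 𝒳.p (𝒴.p.map g) (G₀.map g)
  let G : 𝒴 ⥤ᵇ 𝒳 := ⟨G₀, hG⟩
  refine ⟨G, ⟨?_⟩, ⟨?_⟩⟩
  · refine BasedNatIso.mkNatIso
      (NatIso.ofComponents (fun x => F.toFunctor.preimageIso (e (F.obj x))) ?_) ?_
    · intro x y φ
      apply F.toFunctor.map_injective
      simp only [Functor.map_comp, Functor.preimageIso_hom, Functor.map_preimage]
      change F.map (F.toFunctor.preimage ((e (F.obj x)).hom ≫ F.map φ ≫ (e (F.obj y)).inv)) ≫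
        (e (F.obj y)).hom = (e (F.obj x)).hom ≫ F.map φ
      simp
    · intro x
      rw [← BasedFunctor.isHomLift_iff F]
      have hlift := he (F.obj x)
      rw [← F.w_obj x]
      simpa using hlift
  · refine BasedNatIso.mkNatIso (NatIso.ofComponents (fun η => e η) ?_) ?_
    · intro η η' g
      change F.map (F.toFunctor.preimage ((e η).hom ≫ g ≫ (e η').inv)) ≫ (e η').hom = (e η).hom ≫ g
      simp
    · intro η
      exact he η

/-- An equivalence over the base is, on underlying categories, an equivalence. -/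
theorem isEquivalence_of_isEquivOver {F : 𝒳 ⥤ᵇ 𝒴} (h : FibCat.IsEquivOver F) :
    F.toFunctor.IsEquivalence := by
  obtain ⟨G, ⟨e₁⟩, ⟨e₂⟩⟩ := h
  exact (CategoryTheory.Equivalence.mk F.toFunctor G.toFunctor
    ((BasedNatTrans.forgetful _ _).mapIso e₁).symm
    ((BasedNatTrans.forgetful _ _).mapIso e₂)).isEquivalence_functor

theorem full_of_isEquivOver {F : 𝒳 ⥤ᵇ 𝒴} (h : FibCat.IsEquivOver F) : F.toFunctor.Full := by
  have := isEquivalence_of_isEquivOver h; infer_instance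

theorem faithful_of_isEquivOver {F : 𝒳 ⥤ᵇ 𝒴} (h : FibCat.IsEquivOver F) : F.toFunctor.Faithful := by
  have := isEquivalence_of_isEquivOver h; infer_instance

theorem essSurjOver_of_isEquivOver {F : 𝒳 ⥤ᵇ 𝒴} (h : FibCat.IsEquivOver F) : EssSurjOver F := by
  obtain ⟨G, -, ⟨e₂⟩⟩ := h
  exact fun η => ⟨G.obj η, appIso e₂ η, appIso_isHomLift e₂ η rfl⟩

/-- The criterion. -/
theorem isEquivOver_iff (F : 𝒳 ⥤ᵇ 𝒴) :
    FibCat.IsEquivOver F ↔ (F.toFunctor.Full ∧ F.toFunctor.Faithful) ∧ EssSurjOver F :=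
  ⟨fun h => ⟨⟨full_of_isEquivOver h, faithful_of_isEquivOver h⟩, essSurjOver_of_isEquivOver h⟩,
    fun ⟨⟨_, _⟩, h⟩ => isEquivOver_of_ff_essSurj F h⟩

theorem isEquivOver_id (𝒳 : BasedCategory.{v₂, u₂} C) : FibCat.IsEquivOver (BasedFunctor.id 𝒳) :=
  ⟨BasedFunctor.id 𝒳, ⟨Iso.refl _⟩, ⟨Iso.refl _⟩⟩

theorem isEquivOver_inverse {F : 𝒳 ⥤ᵇ 𝒴} (h : FibCat.IsEquivOver F) :
    ∃ G : 𝒴 ⥤ᵇ 𝒳, FibCat.IsEquivOver G ∧ Nonempty (BasedFunctor.comp F G ≅ BasedFunctor.id 𝒳) ∧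
      Nonempty (BasedFunctor.comp G F ≅ BasedFunctor.id 𝒴) :=
  let ⟨G, h₁, h₂⟩ := h
  ⟨G, ⟨F, h₂, h₁⟩, h₁, h₂⟩

theorem isEquivOver_comp {F : 𝒳 ⥤ᵇ 𝒴} {G : 𝒴 ⥤ᵇ 𝒵} (hF : FibCat.IsEquivOver F)
    (hG : FibCat.IsEquivOver G) : FibCat.IsEquivOver (BasedFunctor.comp F G) := by
  have := full_of_isEquivOver hF
  have := faithful_of_isEquivOver hF
  have := full_of_isEquivOver hG
  have := faithful_of_isEquivOver hG
  have : (BasedFunctor.comp F G).toFunctor.Full := inferInstanceAs (F.toFunctor ⋙ G.toFunctor).Full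
  have : (BasedFunctor.comp F G).toFunctor.Faithful :=
    inferInstanceAs (F.toFunctor ⋙ G.toFunctor).Faithful
  refine isEquivOver_of_ff_essSurj _ fun ζ => ?_
  obtain ⟨η, e, he⟩ := essSurjOver_of_isEquivOver hG ζ
  obtain ⟨ξ, e', he'⟩ := essSurjOver_of_isEquivOver hF η
  refine ⟨ξ, G.toFunctor.mapIso e' ≪≫ e, ?_⟩
  have h1 : 𝒴.p.obj η = 𝒵.p.obj ζ := by
    rw [← G.w_obj η]; exact IsHomLift.domain_eq 𝒵.p (𝟙 (𝒵.p.obj ζ)) e.hom
  have h2 : 𝒴.p.IsHomLift (𝟙 (𝒵.p.obj ζ)) e'.hom := h1 ▸ he'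
  change 𝒵.p.IsHomLift (𝟙 (𝒵.p.obj ζ)) (G.map e'.hom ≫ e.hom)
  infer_instance

/-- A functor 2-isomorphic to an equivalence over the base is one. -/
theorem isEquivOver_of_iso {F F' : 𝒳 ⥤ᵇ 𝒴} (α : F ≅ F') (h : FibCat.IsEquivOver F) :
    FibCat.IsEquivOver F' := by
  have := full_of_isEquivOver h
  have := faithful_of_isEquivOver h
  have : F'.toFunctor.Full := Functor.Full.of_iso (F := F.toFunctor) ((BasedNatTrans.forgetful _ _).mapIso α)
  have : F'.toFunctor.Faithful := Functor.Faithful.of_iso (F := F.toFunctor) ((BasedNatTrans.forgetful _ _).mapIso α)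
  refine isEquivOver_of_ff_essSurj _ fun η => ?_
  obtain ⟨ξ, e, he⟩ := essSurjOver_of_isEquivOver h η
  refine ⟨ξ, (appIso α ξ).symm ≪≫ e, ?_⟩
  have := appIso_isHomLift α ξ (S := 𝒴.p.obj η)
    (by rw [← F.w_obj ξ]; exact IsHomLift.domain_eq 𝒴.p (𝟙 (𝒴.p.obj η)) e.hom)
  change 𝒴.p.IsHomLift (𝟙 (𝒴.p.obj η)) ((appIso α ξ).inv ≫ e.hom)
  infer_instance

section Transfer

variable {F : 𝒳 ⥤ᵇ 𝒴}

/-- An equivalence over the base preserves strongly cartesian morphisms. -/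
theorem map_isStronglyCartesian (hF : FibCat.IsEquivOver F) {R S : C} (f : R ⟶ S) {a b : 𝒳.obj}
    (φ : a ⟶ b) [𝒳.p.IsStronglyCartesian f φ] : 𝒴.p.IsStronglyCartesian f (F.map φ) := by
  refine { universal_property' := fun {c} g ψ hψ => ?_ }
  have := full_of_isEquivOver hF
  have := faithful_of_isEquivOver hF
  obtain ⟨ξ, e, he⟩ := essSurjOver_of_isEquivOver hF c
  let ψ' := F.toFunctor.preimage (e.hom ≫ ψ)
  have h1 : 𝒴.p.IsHomLift (g ≫ f) (F.map ψ') := by simp only [ψ', Functor.map_preimage]; infer_instance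
  have := BasedFunctor.isHomLift_map F (g ≫ f) ψ'
  obtain ⟨χ, ⟨hχ₁, hχ₂⟩, huniq⟩ := IsStronglyCartesian.universal_property 𝒳.p f φ g (g ≫ f) rfl ψ'
  refine ⟨e.inv ≫ F.map χ, ⟨inferInstance, ?_⟩, ?_⟩
  · rw [Category.assoc, ← F.toFunctor.map_comp, hχ₂, Functor.map_preimage, Iso.inv_hom_id_assoc]
  · rintro χ' ⟨hχ'₁, hχ'₂⟩
    rw [Iso.eq_inv_comp]
    have h2 : 𝒴.p.IsHomLift g (F.map (F.toFunctor.preimage (e.hom ≫ χ'))) := by
      simp only [Functor.map_preimage]; infer_instance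
    have := BasedFunctor.isHomLift_map F g (F.toFunctor.preimage (e.hom ≫ χ'))
    rw [← huniq (F.toFunctor.preimage (e.hom ≫ χ'))
      ⟨inferInstance, F.toFunctor.map_injective (by simp [ψ', hχ'₂])⟩, Functor.map_preimage]

/-- An equivalence over the base preserves cartesian morphisms. -/
theorem map_isCartesian (hF : FibCat.IsEquivOver F) {R S : C} (f : R ⟶ S) {a b : 𝒳.obj} (φ : a ⟶ b)
    [𝒳.p.IsCartesian f φ] : 𝒴.p.IsCartesian f (F.map φ) := by
  refine { universal_property := fun {c} ψ hψ => ?_ }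
  have := full_of_isEquivOver hF
  have := faithful_of_isEquivOver hF
  obtain ⟨ξ, e, he⟩ := essSurjOver_of_isEquivOver hF c
  have hc : 𝒴.p.obj c = R := IsHomLift.domain_eq 𝒴.p f ψ
  have he' : 𝒴.p.IsHomLift (𝟙 R) e.hom := hc ▸ he
  let ψ' := F.toFunctor.preimage (e.hom ≫ ψ)
  have h1 : 𝒴.p.IsHomLift f (F.map ψ') := by simp only [ψ', Functor.map_preimage]; infer_instance
  have := BasedFunctor.isHomLift_map F f ψ'
  obtain ⟨χ, ⟨hχ₁, hχ₂⟩, huniq⟩ := IsCartesian.universal_property (p := 𝒳.p) (f := f) (φ := φ) ψ'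
  refine ⟨e.inv ≫ F.map χ, ⟨inferInstance, ?_⟩, ?_⟩
  · rw [Category.assoc, ← F.toFunctor.map_comp, hχ₂, Functor.map_preimage, Iso.inv_hom_id_assoc]
  · rintro χ' ⟨hχ'₁, hχ'₂⟩
    rw [Iso.eq_inv_comp]
    have h2 : 𝒴.p.IsHomLift (𝟙 R) (F.map (F.toFunctor.preimage (e.hom ≫ χ'))) := by
      simp only [Functor.map_preimage]; infer_instance
    have := BasedFunctor.isHomLift_map F (𝟙 R) (F.toFunctor.preimage (e.hom ≫ χ'))
    rw [← huniq (F.toFunctor.preimage (e.hom ≫ χ'))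
      ⟨inferInstance, F.toFunctor.map_injective (by simp [ψ', hχ'₂])⟩, Functor.map_preimage]

/-- A fully faithful functor over the base reflects cartesian morphisms. -/
theorem isCartesian_of_map (F : 𝒳 ⥤ᵇ 𝒴) [F.toFunctor.Full] [F.toFunctor.Faithful] {R S : C} (f : R ⟶ S)
    {a b : 𝒳.obj} (φ : a ⟶ b) [𝒴.p.IsCartesian f (F.map φ)] : 𝒳.p.IsCartesian f φ := by
  have := BasedFunctor.isHomLift_map F f φ
  refine { universal_property := fun {c} ψ hψ => ?_ }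
  obtain ⟨χ, ⟨hχ₁, hχ₂⟩, huniq⟩ :=
    IsCartesian.universal_property (p := 𝒴.p) (f := f) (φ := F.map φ) (F.map ψ)
  have h2 : 𝒴.p.IsHomLift (𝟙 R) (F.map (F.toFunctor.preimage χ)) := by simpa using hχ₁
  refine ⟨F.toFunctor.preimage χ, ⟨BasedFunctor.isHomLift_map F _ _,
    F.toFunctor.map_injective (by simp [hχ₂])⟩, ?_⟩
  rintro χ' ⟨hχ'₁, rfl⟩
  apply F.toFunctor.map_injective
  rw [huniq (F.map χ') ⟨inferInstance, by simp⟩, Functor.map_preimage]

/-- A fully faithful functor over the base reflects strongly cartesian morphisms. -/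
theorem isStronglyCartesian_of_map (F : 𝒳 ⥤ᵇ 𝒴) [F.toFunctor.Full] [F.toFunctor.Faithful] {R S : C}
    (f : R ⟶ S) {a b : 𝒳.obj} (φ : a ⟶ b) [𝒴.p.IsStronglyCartesian f (F.map φ)] :
    𝒳.p.IsStronglyCartesian f φ := by
  have := BasedFunctor.isHomLift_map F f φ
  refine { universal_property' := fun {c} g ψ hψ => ?_ }
  obtain ⟨χ, ⟨hχ₁, hχ₂⟩, huniq⟩ :=
    IsStronglyCartesian.universal_property 𝒴.p f (F.map φ) g (g ≫ f) rfl (F.map ψ)
  have h2 : 𝒴.p.IsHomLift g (F.map (F.toFunctor.preimage χ)) := by simpa using hχ₁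
  refine ⟨F.toFunctor.preimage χ, ⟨BasedFunctor.isHomLift_map F _ _,
    F.toFunctor.map_injective (by simp [hχ₂])⟩, ?_⟩
  rintro χ' ⟨hχ'₁, rfl⟩
  apply F.toFunctor.map_injective
  rw [huniq (F.map χ') ⟨inferInstance, by simp⟩, Functor.map_preimage]

/-- The target of an equivalence over the base with fibred source is fibred. -/
theorem isFibered_target (hF : FibCat.IsEquivOver F) [𝒳.p.IsFibered] : 𝒴.p.IsFibered := by
  refine IsFibered.of_exists_isStronglyCartesian fun η V f => ?_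
  obtain ⟨ξ, e, he⟩ := essSurjOver_of_isEquivOver hF η
  have hξ : 𝒳.p.obj ξ = 𝒴.p.obj η := by
    rw [← F.w_obj ξ]; exact IsHomLift.domain_eq 𝒴.p (𝟙 (𝒴.p.obj η)) e.hom
  obtain ⟨x, φ, hφ⟩ := IsPreFibered.exists_isCartesian 𝒳.p hξ f
  have := map_isStronglyCartesian hF f φ
  have := IsStronglyCartesian.of_iso 𝒴.p (𝟙 (𝒴.p.obj η)) e
  refine ⟨F.obj x, F.map φ ≫ e.hom, ?_⟩
  simpa using (inferInstance :
    𝒴.p.IsStronglyCartesian (f ≫ 𝟙 (𝒴.p.obj η)) (F.map φ ≫ e.hom))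

/-- The target of an equivalence over the base with source fibred in groupoids is fibred in groupoids. -/
theorem grpd_target (hF : FibCat.IsEquivOver F) (h : FibCat.IsFibGrpd 𝒳.p) : FibCat.IsFibGrpd 𝒴.p := by
  have := isFibered_of_grpd h
  have := isFibered_target hF
  refine grpd_of_isFibered fun U => ⟨fun {a b} φ => ?_⟩
  obtain ⟨G, hG, ⟨e₁⟩, ⟨e₂⟩⟩ := isEquivOver_inverse hF
  have := isIso_of_grpd_lift h U (G.map (Fiber.fiberInclusion.map φ))
  have := isEquivalence_of_isEquivOver hG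
  have : IsIso (Fiber.fiberInclusion.map φ) :=
    isIso_of_reflects_iso (Fiber.fiberInclusion.map φ) G.toFunctor
  exact isIso_fiber φ

/-- The target of an equivalence over the base with source fibred in setoids is fibred in setoids. -/
theorem setoid_target (hF : FibCat.IsEquivOver F) (h : FibCat.IsFibSetoid 𝒳.p) :
    FibCat.IsFibSetoid 𝒴.p := by
  refine setoid_iff.mpr ⟨grpd_target hF h.1, ?_⟩
  obtain ⟨G, hG, ⟨e₁⟩, ⟨e₂⟩⟩ := isEquivOver_inverse hF
  have := faithful_of_setoid h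
  have := faithful_of_isEquivOver hG
  have : (G.toFunctor ⋙ 𝒳.p).Faithful := inferInstance
  rwa [G.w] at this

end Transfer

end Groth.Agent.Lib.Fibred.EquivOver
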