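import Groth.Agent.Lib.Fibred.EquivOver
import Groth.Prelude.Def_W4stkcategoriessitesFib

/-!
# Functors over the base versus their functors on fibre categories
-/

set_option autoImplicit false
set_option backward.isDefEq.respectTransparency false
set_option backward.isDefEq.respectTransparency.types false

universe v₃ u₃ v₂ u₂ v u

open CategoryTheory CategoryTheory.Functor Groth.Agent.Lib.Fibred.Basic Groth.Agent.Lib.Fibred.EquivOver

namespace Groth.Agent.Lib.Fibred.FiberFunctor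

variable {C : Type u} [Category.{v} C] {𝒳 : BasedCategory.{v₂, u₂} C} {𝒴 : BasedCategory.{v₃, u₃} C}

/-- Functors into a category fibred in groupoids preserve strongly cartesian morphisms. -/
theorem preserves_of_grpd (G : 𝒳 ⥤ᵇ 𝒴) (h : FibCat.IsFibGrpd 𝒴.p) :
    FibCat.PreservesStronglyCartesian G := fun _ _ f _ _ φ _ => stronglyCartesian_of_grpd h f (G.map φ)

/-- The form with images only. -/
theorem preserves_of_self (G : 𝒳 ⥤ᵇ 𝒴)
    (hG : ∀ ⦃a b : 𝒳.obj⦄ (φ : a ⟶ b), 𝒳.p.IsStronglyCartesian (𝒳.p.map φ) φ →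
      𝒴.p.IsStronglyCartesian (𝒳.p.map φ) (G.map φ)) :
    FibCat.PreservesStronglyCartesian G := fun R S f a b φ hφ => by
  obtain rfl := IsHomLift.domain_eq 𝒳.p f φ
  obtain rfl := IsHomLift.codomain_eq 𝒳.p f φ
  obtain rfl := IsHomLift.eq_of_isHomLift 𝒳.p f φ
  exact hG φ hφ

/-- An equivalence over the base preserves strongly cartesian morphisms. -/
theorem preserves_of_isEquivOver {G : 𝒳 ⥤ᵇ 𝒴} (h : FibCat.IsEquivOver G) :
    FibCat.PreservesStronglyCartesian G := fun _ _ f _ _ φ _ => map_isStronglyCartesian h f φ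

variable (G : 𝒳 ⥤ᵇ 𝒴)

theorem fiberFunctor_faithful [G.toFunctor.Faithful] (U : C) : (FibCat.fiberFunctor G U).Faithful where
  map_injective {a b φ ψ} e := Fiber.hom_ext (G.toFunctor.map_injective (congrArg Subtype.val e))

theorem fiberFunctor_full [G.toFunctor.Full] (U : C) : (FibCat.fiberFunctor G U).Full where
  map_surjective {a b} g := by
    refine ⟨⟨G.toFunctor.preimage g.1, ?_⟩, Fiber.hom_ext (G.toFunctor.map_preimage g.1)⟩
    rw [← BasedFunctor.isHomLift_iff G, G.toFunctor.map_preimage]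
    exact g.2

/-- Faithfulness on all fibres gives faithfulness. -/
theorem faithful_of_fibers [𝒳.p.IsFibered] (hG : FibCat.PreservesStronglyCartesian G)
    (h : ∀ U : C, (FibCat.fiberFunctor G U).Faithful) : G.toFunctor.Faithful where
  map_injective {a b φ ψ} e := by
    have e1 : 𝒳.p.map φ = 𝒳.p.map ψ := by
      have h1 := congrArg 𝒴.p.map e
      rw [map_p, map_p] at h1
      rwa [cancel_epi, cancel_mono] at h1
    obtain ⟨c, χ, hχ⟩ := IsPreFibered.exists_isCartesian 𝒳.p (rfl : 𝒳.p.obj b = _) (𝒳.p.map φ)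
    have : 𝒳.p.IsHomLift (𝒳.p.map φ) ψ := e1 ▸ inferInstance
    have := hG (𝒳.p.map φ) χ inferInstance
    let A : 𝒳.p.Fiber (𝒳.p.obj a) := ⟨a, rfl⟩
    let Z : 𝒳.p.Fiber (𝒳.p.obj a) := ⟨c, IsHomLift.domain_eq 𝒳.p (𝒳.p.map φ) χ⟩
    let φ' : A ⟶ Z := ⟨IsCartesian.map 𝒳.p (𝒳.p.map φ) χ φ, IsCartesian.map_isHomLift _ _ _ _⟩
    let ψ' : A ⟶ Z := ⟨IsCartesian.map 𝒳.p (𝒳.p.map φ) χ ψ, IsCartesian.map_isHomLift _ _ _ _⟩
    have h2 : G.map φ'.1 = G.map ψ'.1 := by
      refine IsCartesian.ext 𝒴.p (𝒳.p.map φ) (G.map χ) _ _ ?_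
      rw [← G.toFunctor.map_comp, ← G.toFunctor.map_comp]
      simpa [φ', ψ'] using e
    have := h (𝒳.p.obj a)
    have h3 : φ' = ψ' := (FibCat.fiberFunctor G _).map_injective (Fiber.hom_ext h2)
    have h4 := congrArg Subtype.val h3
    simpa [φ', ψ'] using congrArg (fun t => t ≫ χ) h4

/-- Fullness on all fibres gives fullness. -/
theorem full_of_fibers [𝒳.p.IsFibered] (hG : FibCat.PreservesStronglyCartesian G)
    (h : ∀ U : C, (FibCat.fiberFunctor G U).Full) : G.toFunctor.Full where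
  map_surjective {a b} g := by
    let f : 𝒳.p.obj a ⟶ 𝒳.p.obj b :=
      eqToHom (G.w_obj a).symm ≫ 𝒴.p.map g ≫ eqToHom (G.w_obj b)
    have : 𝒴.p.IsHomLift f g := IsHomLift.of_fac _ _ _ (G.w_obj a) (G.w_obj b) rfl
    obtain ⟨c, χ, hχ⟩ := IsPreFibered.exists_isCartesian 𝒳.p (rfl : 𝒳.p.obj b = _) f
    have := hG f χ inferInstance
    let A : 𝒳.p.Fiber (𝒳.p.obj a) := ⟨a, rfl⟩
    let Z : 𝒳.p.Fiber (𝒳.p.obj a) := ⟨c, IsHomLift.domain_eq 𝒳.p f χ⟩
    let g' : (FibCat.fiberFunctor G _).obj A ⟶ (FibCat.fiberFunctor G _).obj Z :=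
      ⟨IsCartesian.map 𝒴.p f (G.map χ) g, IsCartesian.map_isHomLift _ _ _ _⟩
    have := h (𝒳.p.obj a)
    obtain ⟨φ', hφ'⟩ := (FibCat.fiberFunctor G _).map_surjective g'
    refine ⟨φ'.1 ≫ χ, ?_⟩
    rw [G.toFunctor.map_comp]
    have h5 : G.map φ'.1 = IsCartesian.map 𝒴.p f (G.map χ) g := congrArg Subtype.val hφ'
    rw [h5, IsCartesian.fac]

/-- Faithful iff faithful on fibres. -/
theorem faithful_iff [𝒳.p.IsFibered] (hG : FibCat.PreservesStronglyCartesian G) :
    G.toFunctor.Faithful ↔ ∀ U : C, (FibCat.fiberFunctor G U).Faithful :=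
  ⟨fun _ U => fiberFunctor_faithful G U, faithful_of_fibers G hG⟩

/-- Fully faithful iff fully faithful on fibres. -/
theorem full_faithful_iff [𝒳.p.IsFibered] (hG : FibCat.PreservesStronglyCartesian G) :
    (G.toFunctor.Full ∧ G.toFunctor.Faithful) ↔
      ∀ U : C, (FibCat.fiberFunctor G U).Full ∧ (FibCat.fiberFunctor G U).Faithful :=
  ⟨fun ⟨_, _⟩ U => ⟨fiberFunctor_full G U, fiberFunctor_faithful G U⟩,
    fun h => ⟨full_of_fibers G hG fun U => (h U).1, faithful_of_fibers G hG fun U => (h U).2⟩⟩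

theorem essSurjOver_of_fibers (h : ∀ U : C, (FibCat.fiberFunctor G U).EssSurj) : EssSurjOver G := by
  intro η
  have := h (𝒴.p.obj η)
  obtain ⟨x, ⟨e⟩⟩ := (h (𝒴.p.obj η)).mem_essImage ⟨η, rfl⟩
  exact ⟨x.1, Fiber.fiberInclusion.mapIso e, e.hom.2⟩

theorem fiberFunctor_essSurj (h : EssSurjOver G) (U : C) : (FibCat.fiberFunctor G U).EssSurj where
  mem_essImage η := by
    obtain ⟨η, rfl⟩ := η
    obtain ⟨ξ, e, he⟩ := h η
    have hξ : 𝒳.p.obj ξ = 𝒴.p.obj η :=
      (G.w_obj ξ).symm.trans (IsHomLift.domain_eq 𝒴.p (𝟙 (𝒴.p.obj η)) e.hom)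
    exact ⟨⟨ξ, hξ⟩, ⟨fiberIso (a := (FibCat.fiberFunctor G _).obj ⟨ξ, hξ⟩) (b := ⟨η, rfl⟩) e he⟩⟩

/-- An equivalence over the base is an equivalence on each fibre. -/
theorem fiberFunctor_isEquivalence {G : 𝒳 ⥤ᵇ 𝒴} (h : FibCat.IsEquivOver G) (U : C) :
    (FibCat.fiberFunctor G U).IsEquivalence := by
  have := full_of_isEquivOver h
  have := faithful_of_isEquivOver h
  exact { faithful := fiberFunctor_faithful G U
          full := fiberFunctor_full G U
          essSurj := fiberFunctor_essSurj G (essSurjOver_of_isEquivOver h) U }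

/-- Equivalences on all fibres give an equivalence over the base. -/
theorem isEquivOver_of_fibers [𝒳.p.IsFibered] (hG : FibCat.PreservesStronglyCartesian G)
    (h : ∀ U : C, (FibCat.fiberFunctor G U).IsEquivalence) : FibCat.IsEquivOver G := by
  have := full_of_fibers G hG fun U => (h U).full
  have := faithful_of_fibers G hG fun U => (h U).faithful
  exact isEquivOver_of_ff_essSurj G (essSurjOver_of_fibers G fun U => (h U).essSurj)

/-- Isomorphisms of the base lift to the source with prescribed source. -/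
def Transportable (𝒳 : BasedCategory.{v₂, u₂} C) : Prop :=
  ∀ ⦃T S : C⦄ (α : T ≅ S) (ξ : 𝒳.obj), 𝒳.p.obj ξ = T →
    ∃ (ξ' : 𝒳.obj) (e : ξ ≅ ξ'), 𝒳.p.IsHomLift α.hom e.hom

theorem transportable_of_isFibered [𝒳.p.IsFibered] : Transportable 𝒳 := by
  intro T S α ξ hξ
  obtain ⟨ξ', φ, hφ⟩ := IsPreFibered.exists_isCartesian 𝒳.p hξ α.inv
  have := IsStronglyCartesian.isIso_of_base_isIso 𝒳.p α.inv φ
  refine ⟨ξ', (asIso φ).symm, ?_⟩
  change 𝒳.p.IsHomLift α.hom (inv φ)
  simpa using (inferInstance : 𝒳.p.IsHomLift (inv α.inv) (inv φ))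

/-- An equivalence of underlying categories with transportable source is an equivalence over the base. -/
theorem isEquivOver_of_isEquivalence (h : Transportable 𝒳) [G.toFunctor.IsEquivalence] :
    FibCat.IsEquivOver G := by
  refine isEquivOver_of_ff_essSurj G fun η => ?_
  let ξ := G.toFunctor.objPreimage η
  let e : G.obj ξ ≅ η := G.toFunctor.objObjPreimageIso η
  let α : 𝒳.p.obj ξ ≅ 𝒴.p.obj η := eqToIso (G.w_obj ξ).symm ≪≫ 𝒴.p.mapIso e
  obtain ⟨ξ', e', he'⟩ := h α ξ rfl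
  refine ⟨ξ', (G.toFunctor.mapIso e').symm ≪≫ e, ?_⟩
  have h1 : 𝒴.p.IsHomLift α.hom e.hom :=
    IsHomLift.of_fac _ _ _ (G.w_obj ξ) rfl (by simp [α])
  have h2 : 𝒴.p.IsHomLift α.hom (G.toFunctor.mapIso e').hom := BasedFunctor.preserves_isHomLift G α.hom e'.hom
  simpa using (inferInstance : 𝒴.p.IsHomLift (α.inv ≫ α.hom) ((G.toFunctor.mapIso e').inv ≫ e.hom))

/-- A functor whose composite with the inclusion of fibres is the given one is `fiberFunctor`. -/
theorem eq_fiberFunctor {U : C} (GU : 𝒳.p.Fiber U ⥤ 𝒴.p.Fiber U)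
    (hGU : GU ⋙ Fiber.fiberInclusion = Fiber.fiberInclusion ⋙ G.toFunctor) :
    GU = FibCat.fiberFunctor G U := by
  refine CategoryTheory.Functor.ext (fun a => Subtype.ext (Functor.congr_obj hGU a)) fun a b φ => ?_
  apply Fiber.hom_ext
  have := Functor.congr_hom hGU φ
  simp only [Functor.map_comp, eqToHom_map]
  exact this

end Groth.Agent.Lib.Fibred.FiberFunctor
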