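import Groth.Agent.Lib.Fibred.Fp
import Groth.Agent.Lib.Fibred.FiberFunctor

/-!
# The base over itself, and the inertia
-/

set_option autoImplicit false
set_option backward.isDefEq.respectTransparency false
set_option backward.isDefEq.respectTransparency.types false

universe v₃ u₃ v₂ u₂ v u

open CategoryTheory CategoryTheory.Functor Groth.Agent.Lib.Fibred.Basic Groth.Agent.Lib.Fibred.EquivOver

namespace Groth.Agent.Lib.Fibred.SelfOver

variable {C : Type u} [Category.{v} C]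

/-- The identity functor is fibred in groupoids. -/
theorem grpd : FibCat.IsFibGrpd (𝟭 C) where
  exists_lift {x V} f := ⟨V, f, IsHomLift.map (𝟭 C) f⟩
  isStronglyCartesian {y x} φ :=
    { universal_property' := fun {a} g ψ hψ => by
        refine ⟨g, ⟨IsHomLift.map (𝟭 C) g, ?_⟩, ?_⟩
        · exact IsHomLift.eq_of_isHomLift (𝟭 C) (g ≫ (𝟭 C).map φ) ψ
        · rintro χ ⟨hχ, -⟩
          exact (IsHomLift.eq_of_isHomLift (𝟭 C) g χ).symm }

/-- The base over itself is fibred in groupoids. -/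
theorem selfOver_grpd : FibCat.IsFibGrpd (FibCat.selfOver C).p := grpd

theorem selfOver_faithful : (FibCat.selfOver C).p.Faithful :=
  inferInstanceAs (𝟭 C).Faithful

theorem selfOver_setoid : FibCat.IsFibSetoid (FibCat.selfOver C).p :=
  setoid_iff.mpr ⟨grpd, selfOver_faithful⟩

variable {𝒳 : BasedCategory.{v₂, u₂} C} {𝒴 : BasedCategory.{v₃, u₃} C}

/-- A morphism of the strict fibre product lifts to the first component. -/
theorem fp_isHomLift_self {z w : (FibCat.fp (FibCat.toSelf 𝒳) (FibCat.toSelf 𝒴)).obj} (φ : z ⟶ w) :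
    𝒴.p.IsHomLift ((FibCat.fp (FibCat.toSelf 𝒳) (FibCat.toSelf 𝒴)).p.map φ) φ.hom.snd :=
  Fp.isHomLift_snd φ _

section Inertia

variable {F : 𝒳 ⥤ᵇ 𝒴}

theorem inertia_isHomLift_iff {z w : (FibCat.inertia F).obj} (φ : z ⟶ w) {R S : C} (f : R ⟶ S) :
    (FibCat.inertia F).p.IsHomLift f φ ↔ 𝒳.p.IsHomLift f φ.hom :=
  (BasedFunctor.isHomLift_iff (FibCat.inertiaToBase F) f φ).symm

theorem aut_isHomLift (z : (FibCat.inertia F).obj) {R : C} (h : 𝒳.p.obj z.pt = R) :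
    𝒳.p.IsHomLift (𝟙 R) z.aut.hom := by
  subst h
  rw [← BasedFunctor.isHomLift_iff F, z.map_aut]
  infer_instance

/-- A morphism of the inertia over a strongly cartesian morphism is strongly cartesian. -/
theorem inertia_isStronglyCartesian {z w : (FibCat.inertia F).obj} (φ : z ⟶ w) {R S : C} (f : R ⟶ S)
    [𝒳.p.IsStronglyCartesian f φ.hom] : (FibCat.inertia F).p.IsStronglyCartesian f φ := by
  have hl : (FibCat.inertia F).p.IsHomLift f φ := (inertia_isHomLift_iff φ f).mpr inferInstance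
  refine { universal_property' := fun {u} g ψ hψ => ?_ }
  have := (inertia_isHomLift_iff ψ _).mp hψ
  obtain ⟨χ, ⟨hχ, hχ'⟩, hu⟩ :=
    IsStronglyCartesian.universal_property 𝒳.p f φ.hom g (g ≫ f) rfl ψ.hom
  have hz : 𝒳.p.obj z.pt = R := IsHomLift.domain_eq 𝒳.p f φ.hom
  have := aut_isHomLift z hz
  have := aut_isHomLift u (rfl : 𝒳.p.obj u.pt = _)
  have h : u.aut.hom ≫ χ = χ ≫ z.aut.hom := by
    have h1 : 𝒳.p.IsHomLift g (u.aut.hom ≫ χ) :=
      IsHomLift.comp_lift_id_left' 𝒳.p (𝒳.p.obj u.pt) u.aut.hom g χ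
    apply IsStronglyCartesian.ext 𝒳.p f φ.hom g
    calc (u.aut.hom ≫ χ) ≫ φ.hom = u.aut.hom ≫ ψ.hom := by rw [Category.assoc, hχ']
      _ = (χ ≫ φ.hom) ≫ w.aut.hom := by rw [ψ.comm, hχ']
      _ = (χ ≫ z.aut.hom) ≫ φ.hom := by rw [Category.assoc, ← φ.comm, Category.assoc]
  refine ⟨⟨χ, h⟩, ⟨(inertia_isHomLift_iff _ _).mpr hχ, FibCat.InertiaObj.hom_ext hχ'⟩, ?_⟩
  rintro χ' ⟨hχ'₁, rfl⟩
  exact FibCat.InertiaObj.hom_ext (hu _ ⟨(inertia_isHomLift_iff _ _).mp hχ'₁, rfl⟩)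

/-- The inertia of a fibred category is fibred. -/
theorem inertia_isFibered [𝒳.p.IsFibered] (hF : FibCat.PreservesStronglyCartesian F) :
    (FibCat.inertia F).p.IsFibered := by
  refine IsFibered.of_exists_isStronglyCartesian fun z R f => ?_
  obtain ⟨x, φ, hφ⟩ := IsPreFibered.exists_isCartesian 𝒳.p (rfl : 𝒳.p.obj z.pt = _) f
  have := aut_isHomLift z (rfl : 𝒳.p.obj z.pt = _)
  have h1 : 𝒳.p.IsHomLift f (φ ≫ z.aut.hom) := IsHomLift.comp_lift_id_right' 𝒳.p f φ (𝒳.p.obj z.pt) z.aut.hom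
  have h2 : 𝒳.p.IsHomLift f (φ ≫ z.aut.inv) := IsHomLift.comp_lift_id_right' 𝒳.p f φ (𝒳.p.obj z.pt) z.aut.inv
  let a : x ≅ x :=
    { hom := IsCartesian.map 𝒳.p f φ (φ ≫ z.aut.hom)
      inv := IsCartesian.map 𝒳.p f φ (φ ≫ z.aut.inv)
      hom_inv_id := by
        have : 𝒳.p.IsHomLift (𝟙 R) (𝟙 x) := IsHomLift.id (IsHomLift.domain_eq 𝒳.p f φ)
        apply IsCartesian.ext 𝒳.p f φ
        simp
      inv_hom_id := by
        have : 𝒳.p.IsHomLift (𝟙 R) (𝟙 x) := IsHomLift.id (IsHomLift.domain_eq 𝒳.p f φ)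
        apply IsCartesian.ext 𝒳.p f φ
        simp }
  have ha : F.map a.hom = 𝟙 (F.obj x) := by
    have := hF f φ inferInstance
    have : 𝒴.p.IsHomLift (𝟙 R) (𝟙 (F.obj x)) :=
      IsHomLift.id ((F.w_obj x).trans (IsHomLift.domain_eq 𝒳.p f φ))
    apply IsCartesian.ext 𝒴.p f (F.map φ)
    rw [← F.toFunctor.map_comp, IsCartesian.fac, F.toFunctor.map_comp, z.map_aut]
    simp
  let ψ : (⟨x, a, ha⟩ : FibCat.InertiaObj F) ⟶ z := ⟨φ, IsCartesian.fac 𝒳.p f φ (φ ≫ z.aut.hom)⟩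
  have : 𝒳.p.IsStronglyCartesian f ψ.hom := (inferInstance : 𝒳.p.IsStronglyCartesian f φ)
  exact ⟨_, ψ, inertia_isStronglyCartesian ψ f⟩

/-- The inertia of a category fibred in groupoids is fibred in groupoids. -/
theorem inertia_grpd (h : FibCat.IsFibGrpd 𝒳.p) (h' : FibCat.IsFibGrpd 𝒴.p) :
    FibCat.IsFibGrpd (FibCat.inertia F).p := by
  have := isFibered_of_grpd h
  have := inertia_isFibered (FiberFunctor.preserves_of_grpd F h')
  refine ⟨fun {z V} f => ?_, fun φ => ?_⟩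
  · obtain ⟨y, ψ, hψ⟩ := IsPreFibered.exists_isCartesian (FibCat.inertia F).p
      (rfl : (FibCat.inertia F).p.obj z = _) f
    exact ⟨y, ψ, inferInstance⟩
  · have : 𝒳.p.IsStronglyCartesian ((FibCat.inertia F).p.map φ) φ.hom := h.isStronglyCartesian φ.hom
    exact inertia_isStronglyCartesian φ _

end Inertia

end Groth.Agent.Lib.Fibred.SelfOver
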