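import Groth.Agent.Lib.Fibred.Fp

/-!
# Invariance of the fibre product over the base
-/

set_option autoImplicit false
set_option backward.isDefEq.respectTransparency false
set_option backward.isDefEq.respectTransparency.types false

universe v₆ u₆ v₅ u₅ v₄ u₄ v₃ u₃ v₂ u₂ v u

open CategoryTheory CategoryTheory.Functor CategoryTheory.Limits Groth.Agent.Lib.Fibred.Basic
  Groth.Agent.Lib.Fibred.EquivOver

namespace Groth.Agent.Lib.Fibred.FpEquiv

variable {C : Type u} [Category.{v} C] {𝒳 : BasedCategory.{v₂, u₂} C} {𝒴 : BasedCategory.{v₃, u₃} C}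
  {𝒮 : BasedCategory.{v₄, u₄} C} {𝒜 : BasedCategory.{v₅, u₅} C} {ℬ : BasedCategory.{v₆, u₆} C}

/-- Whiskering a 2-isomorphism on the left. -/
def wl (K : 𝒳 ⥤ᵇ 𝒴) {G H : 𝒴 ⥤ᵇ 𝒮} (e : G ≅ H) : BasedFunctor.comp K G ≅ BasedFunctor.comp K H where
  hom := BasedCategory.whiskerLeft K e.hom
  inv := BasedCategory.whiskerLeft K e.inv
  hom_inv_id := by
    apply BasedNatTrans.homCategory.ext
    ext x
    exact (appIso e (K.obj x)).hom_inv_id
  inv_hom_id := by
    apply BasedNatTrans.homCategory.ext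
    ext x
    exact (appIso e (K.obj x)).inv_hom_id

/-- Whiskering a 2-isomorphism on the right. -/
def wr {G H : 𝒳 ⥤ᵇ 𝒴} (e : G ≅ H) (K : 𝒴 ⥤ᵇ 𝒮) : BasedFunctor.comp G K ≅ BasedFunctor.comp H K where
  hom := BasedCategory.whiskerRight e.hom K
  inv := BasedCategory.whiskerRight e.inv K
  hom_inv_id := by
    apply BasedNatTrans.homCategory.ext
    ext x
    exact (K.toFunctor.mapIso (appIso e x)).hom_inv_id
  inv_hom_id := by
    apply BasedNatTrans.homCategory.ext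
    ext x
    exact (K.toFunctor.mapIso (appIso e x)).inv_hom_id

theorem isHomLift_id_of_eq {z w : 𝒳.obj} (φ : z ≅ w) (h : 𝒳.p.IsHomLift (𝟙 (𝒳.p.obj z)) φ.hom) :
    𝒳.p.IsHomLift (𝟙 (𝒳.p.obj w)) φ.hom := by
  rwa [IsHomLift.codomain_eq 𝒳.p (𝟙 (𝒳.p.obj z)) φ.hom]

variable {F : 𝒳 ⥤ᵇ 𝒮} {G : 𝒴 ⥤ᵇ 𝒮}

/-- An isomorphism of the fibre product whose first component is an identity lies over an identity. -/
theorem isHomLift_isoMk {z w : (FibCat.fp F G).obj} (a : z.obj.fst ≅ w.obj.fst) (b : z.obj.snd ≅ w.obj.snd)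
    (h : F.map a.hom ≫ w.obj.iso.hom = z.obj.iso.hom ≫ G.map b.hom)
    (ha : 𝒳.p.IsHomLift (𝟙 (𝒳.p.obj w.obj.fst)) a.hom) :
    (FibCat.fp F G).p.IsHomLift (𝟙 ((FibCat.fp F G).p.obj w)) (Fp.isoMk a b h).hom :=
  (Fp.isHomLift_iff (Fp.isoMk a b h).hom _).mpr ha

section ChangeIso

variable {F' : 𝒳 ⥤ᵇ 𝒮} {G' : 𝒴 ⥤ᵇ 𝒮} (α : F ≅ F') (β : G ≅ G')

/-- Replace both functors by 2-isomorphic ones. -/
def changeIso : FibCat.fp F G ⥤ᵇ FibCat.fp F' G' :=
  FibCat.fpLift (FibCat.fpFst F G) (FibCat.fpSnd F G)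
    (wl (FibCat.fpFst F G) α.symm ≪≫ FibCat.fpIso F G ≪≫ wl (FibCat.fpSnd F G) β)

theorem changeIso_iso (z : (FibCat.fp F G).obj) : ((changeIso α β).obj z).obj.iso.hom =
    (appIso α z.obj.fst).inv ≫ z.obj.iso.hom ≫ (appIso β z.obj.snd).hom :=
  rfl

theorem changeIso_square {x x' : 𝒳.obj} {y y' : 𝒴.obj} (c : x ⟶ x') (d : y ⟶ y') (i : F.obj x ≅ G.obj y)
    (i' : F.obj x' ≅ G.obj y')
    (h : F'.map c ≫ (appIso α x').inv ≫ i'.hom ≫ (appIso β y').hom =
      ((appIso α x).inv ≫ i.hom ≫ (appIso β y).hom) ≫ G'.map d) :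
    F.map c ≫ i'.hom = i.hom ≫ G.map d := by
  rw [Category.assoc, Category.assoc, ← appIso_naturality β d] at h
  have e : F'.map c ≫ (appIso α x').inv = (appIso α x).inv ≫ F.map c := by
    rw [Iso.eq_inv_comp, ← Category.assoc, Iso.comp_inv_eq]
    exact (appIso_naturality α c).symm
  rw [← Category.assoc, e, Category.assoc, cancel_epi, ← Category.assoc, ← Category.assoc, cancel_mono] at h
  exact h

theorem changeIso_isEquivOver : FibCat.IsEquivOver (changeIso α β) := by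
  have : (changeIso α β).toFunctor.Faithful := ⟨fun {z w φ ψ} h => Fp.hom_ext
    (congrArg (fun t => t.hom.fst) h) (congrArg (fun t => t.hom.snd) h)⟩
  have : (changeIso α β).toFunctor.Full := ⟨fun {z w} g => ⟨Fp.mkHom g.hom.fst g.hom.snd
    (changeIso_square α β g.hom.fst g.hom.snd z.obj.iso w.obj.iso (Fp.w g)), rfl⟩⟩
  refine isEquivOver_of_ff_essSurj _ fun η => ?_
  have h1 := appIso_isHomLift α η.obj.fst (rfl : 𝒳.p.obj η.obj.fst = _)
  have h2 := appIso_isHomLift β η.obj.snd (Fp.p_snd η)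
  have h3 : 𝒮.p.IsHomLift (𝟙 (𝒳.p.obj η.obj.fst)) η.obj.iso.hom := η.property
  let ξ : (FibCat.fp F G).obj := Fp.mkObj η.obj.fst η.obj.snd
    (appIso α η.obj.fst ≪≫ η.obj.iso ≪≫ (appIso β η.obj.snd).symm)
    (by simp only [Iso.trans_hom, Iso.symm_hom]; infer_instance)
  refine ⟨ξ, Fp.isoMk (z := (changeIso α β).obj ξ) (w := η) (Iso.refl _) (Iso.refl _) ?_,
    isHomLift_isoMk (z := (changeIso α β).obj ξ) (w := η) _ _ _ (IsHomLift.id rfl)⟩
  rw [changeIso_iso]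
  simp [ξ, Fp.mkObj]

end ChangeIso

section Postcomp

variable (b : 𝒮 ⥤ᵇ 𝒜)

/-- Compose both functors with a functor. -/
def postcomp : FibCat.fp F G ⥤ᵇ FibCat.fp (BasedFunctor.comp F b) (BasedFunctor.comp G b) :=
  FibCat.fpLift (FibCat.fpFst F G) (FibCat.fpSnd F G) (wr (FibCat.fpIso F G) b)

theorem postcomp_isEquivOver [b.toFunctor.Full] [b.toFunctor.Faithful] :
    FibCat.IsEquivOver (postcomp (F := F) (G := G) b) := by
  have : (postcomp (F := F) (G := G) b).toFunctor.Faithful := ⟨fun {z w φ ψ} h => Fp.hom_ext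
    (congrArg (fun t => t.hom.fst) h) (congrArg (fun t => t.hom.snd) h)⟩
  have : (postcomp (F := F) (G := G) b).toFunctor.Full := ⟨fun {z w} g => ⟨Fp.mkHom g.hom.fst g.hom.snd
    (b.toFunctor.map_injective (by
      rw [b.toFunctor.map_comp, b.toFunctor.map_comp]
      exact Fp.w g)), rfl⟩⟩
  refine isEquivOver_of_ff_essSurj _ fun η => ?_
  let ξ : (FibCat.fp F G).obj := Fp.mkObj η.obj.fst η.obj.snd (b.toFunctor.preimageIso η.obj.iso)
    (by
      rw [← BasedFunctor.isHomLift_iff b]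
      simp only [Functor.preimageIso_hom, Functor.map_preimage]
      exact η.property)
  refine ⟨ξ, Fp.isoMk (z := (postcomp b).obj ξ) (w := η) (Iso.refl _) (Iso.refl _) ?_,
    isHomLift_isoMk (z := (postcomp b).obj ξ) (w := η) _ _ _ (IsHomLift.id rfl)⟩
  change (BasedFunctor.comp F b).map (𝟙 _) ≫ η.obj.iso.hom =
    b.map (b.toFunctor.preimage η.obj.iso.hom) ≫ (BasedFunctor.comp G b).map (𝟙 _)
  simp
  exact (Category.comp_id _).symm

end Postcomp

section Precomp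

variable (a : 𝒜 ⥤ᵇ 𝒳) (b : ℬ ⥤ᵇ 𝒴) (F G)

/-- Compose the two functors with functors on the left. -/
def precomp : FibCat.fp (BasedFunctor.comp a F) (BasedFunctor.comp b G) ⥤ᵇ FibCat.fp F G :=
  FibCat.fpLift (BasedFunctor.comp (FibCat.fpFst (BasedFunctor.comp a F) (BasedFunctor.comp b G)) a)
    (BasedFunctor.comp (FibCat.fpSnd (BasedFunctor.comp a F) (BasedFunctor.comp b G)) b)
    (FibCat.fpIso (BasedFunctor.comp a F) (BasedFunctor.comp b G))

variable {F G a b}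

theorem precomp_isEquivOver (ha : FibCat.IsEquivOver a) (hb : FibCat.IsEquivOver b) :
    FibCat.IsEquivOver (precomp F G a b) := by
  have := full_of_isEquivOver ha
  have := faithful_of_isEquivOver ha
  have := full_of_isEquivOver hb
  have := faithful_of_isEquivOver hb
  have : (precomp F G a b).toFunctor.Faithful := ⟨fun {z w φ ψ} h => Fp.hom_ext
    (a.toFunctor.map_injective (congrArg (fun t => t.hom.fst) h))
    (b.toFunctor.map_injective (congrArg (fun t => t.hom.snd) h))⟩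
  have : (precomp F G a b).toFunctor.Full := ⟨fun {z w} g => ⟨Fp.mkHom (a.toFunctor.preimage g.hom.fst)
      (b.toFunctor.preimage g.hom.snd) (by
        change F.map (a.map (a.toFunctor.preimage g.hom.fst)) ≫ w.obj.iso.hom =
          z.obj.iso.hom ≫ G.map (b.map (b.toFunctor.preimage g.hom.snd))
        rw [Functor.map_preimage, Functor.map_preimage]
        exact Fp.w g),
      Fp.hom_ext (a.toFunctor.map_preimage g.hom.fst) (b.toFunctor.map_preimage g.hom.snd)⟩⟩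
  refine isEquivOver_of_ff_essSurj _ fun η => ?_
  obtain ⟨x, e, he⟩ := essSurjOver_of_isEquivOver ha η.obj.fst
  obtain ⟨y, e', he'⟩ := essSurjOver_of_isEquivOver hb η.obj.snd
  rw [Fp.p_snd η] at he'
  have h3 : 𝒮.p.IsHomLift (𝟙 (𝒳.p.obj η.obj.fst)) η.obj.iso.hom := η.property
  have hx : 𝒜.p.obj x = 𝒳.p.obj η.obj.fst :=
    (a.w_obj x).symm.trans (IsHomLift.domain_eq 𝒳.p (𝟙 (𝒳.p.obj η.obj.fst)) e.hom)
  let ξ : (FibCat.fp (BasedFunctor.comp a F) (BasedFunctor.comp b G)).obj := Fp.mkObj x y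
    (F.toFunctor.mapIso e ≪≫ η.obj.iso ≪≫ (G.toFunctor.mapIso e').symm)
    (by
      rw [hx]
      change 𝒮.p.IsHomLift (𝟙 _) (F.map e.hom ≫ η.obj.iso.hom ≫ G.map e'.inv)
      infer_instance)
  refine ⟨ξ, Fp.isoMk (z := (precomp F G a b).obj ξ) (w := η) e e' ?_,
    isHomLift_isoMk (z := (precomp F G a b).obj ξ) (w := η) _ _ _ he⟩
  change F.map e.hom ≫ η.obj.iso.hom = (F.map e.hom ≫ η.obj.iso.hom ≫ G.map e'.inv) ≫ G.map e'.hom
  simp [← G.toFunctor.map_comp]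

end Precomp

section Symm

variable (F G)

/-- Exchange the factors. -/
def symm : FibCat.fp F G ⥤ᵇ FibCat.fp G F :=
  FibCat.fpLift (FibCat.fpSnd F G) (FibCat.fpFst F G) (FibCat.fpIso F G).symm

theorem symm_isEquivOver : FibCat.IsEquivOver (symm F G) := by
  have : (symm F G).toFunctor.Faithful := ⟨fun {z w φ ψ} h => Fp.hom_ext
    (congrArg (fun t => t.hom.snd) h) (congrArg (fun t => t.hom.fst) h)⟩
  have : (symm F G).toFunctor.Full := ⟨fun {z w} g => ⟨Fp.mkHom g.hom.snd g.hom.fst (by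
    have h := Fp.w g
    change G.map g.hom.fst ≫ w.obj.iso.inv = z.obj.iso.inv ≫ F.map g.hom.snd at h
    rw [Iso.eq_inv_comp, ← Category.assoc, Iso.comp_inv_eq] at h
    exact h.symm), rfl⟩⟩
  refine isEquivOver_of_ff_essSurj _ fun η => ?_
  have h3 : 𝒮.p.IsHomLift (𝟙 (𝒳.p.obj η.obj.snd)) η.obj.iso.hom :=
    Fp.iso_isHomLift η (Fp.p_snd η).symm
  let ξ : (FibCat.fp F G).obj := Fp.mkObj η.obj.snd η.obj.fst η.obj.iso.symm
    (by simp only [Iso.symm_hom]; infer_instance)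
  refine ⟨ξ, Fp.isoMk (z := (symm F G).obj ξ) (w := η) (Iso.refl _) (Iso.refl _) ?_,
    isHomLift_isoMk (z := (symm F G).obj ξ) (w := η) _ _ _ (IsHomLift.id rfl)⟩
  change G.map (𝟙 _) ≫ η.obj.iso.hom = η.obj.iso.hom ≫ F.map (𝟙 _)
  simp

end Symm

section Paste

variable (F G) (a : 𝒜 ⥤ᵇ 𝒴)

/-- The pasting of two cartesian squares. -/
def paste : FibCat.fp (FibCat.fpSnd F G) a ⥤ᵇ FibCat.fp F (BasedFunctor.comp a G) :=
  FibCat.fpLift (BasedFunctor.comp (FibCat.fpFst (FibCat.fpSnd F G) a) (FibCat.fpFst F G))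
    (FibCat.fpSnd (FibCat.fpSnd F G) a)
    (wl (FibCat.fpFst (FibCat.fpSnd F G) a) (FibCat.fpIso F G) ≪≫ wr (FibCat.fpIso (FibCat.fpSnd F G) a) G)

theorem paste_iso (z : (FibCat.fp (FibCat.fpSnd F G) a).obj) :
    ((paste F G a).obj z).obj.iso.hom = z.obj.fst.obj.iso.hom ≫ G.map z.obj.iso.hom :=
  rfl

theorem paste_isEquivOver : FibCat.IsEquivOver (paste F G a) := by
  have : (paste F G a).toFunctor.Faithful := ⟨fun {z w φ ψ} h => by
    have h1 : φ.hom.fst.hom.fst = ψ.hom.fst.hom.fst := congrArg (fun t => t.hom.fst) h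
    have h2 : φ.hom.snd = ψ.hom.snd := congrArg (fun t => t.hom.snd) h
    refine Fp.hom_ext (Fp.hom_ext h1 ?_) h2
    have e1 : φ.hom.fst.hom.snd ≫ w.obj.iso.hom = z.obj.iso.hom ≫ a.map φ.hom.snd := Fp.w φ
    have e2 : ψ.hom.fst.hom.snd ≫ w.obj.iso.hom = z.obj.iso.hom ≫ a.map ψ.hom.snd := Fp.w ψ
    rw [← cancel_mono w.obj.iso.hom]
    exact e1.trans ((congrArg (fun t => z.obj.iso.hom ≫ a.map t) h2).trans e2.symm)⟩
  have : (paste F G a).toFunctor.Full := ⟨fun {z w} g => by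
    have h := Fp.w g
    rw [paste_iso, paste_iso] at h
    let m : z.obj.fst.obj.snd ⟶ w.obj.fst.obj.snd := z.obj.iso.hom ≫ a.map g.hom.snd ≫ w.obj.iso.inv
    have hm : F.map g.hom.fst ≫ w.obj.fst.obj.iso.hom = z.obj.fst.obj.iso.hom ≫ G.map m := by
      rw [← cancel_mono (G.toFunctor.mapIso w.obj.iso).hom]
      change (F.map g.hom.fst ≫ w.obj.fst.obj.iso.hom) ≫ G.map w.obj.iso.hom =
        (z.obj.fst.obj.iso.hom ≫ G.map m) ≫ G.map w.obj.iso.hom
      have e : m ≫ w.obj.iso.hom = z.obj.iso.hom ≫ a.map g.hom.snd := by simp [m]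
      calc (F.map g.hom.fst ≫ w.obj.fst.obj.iso.hom) ≫ G.map w.obj.iso.hom
          = F.map g.hom.fst ≫ w.obj.fst.obj.iso.hom ≫ G.map w.obj.iso.hom := Category.assoc _ _ _
        _ = (z.obj.fst.obj.iso.hom ≫ G.map z.obj.iso.hom) ≫ G.map (a.map g.hom.snd) := h
        _ = z.obj.fst.obj.iso.hom ≫ G.map (z.obj.iso.hom ≫ a.map g.hom.snd) := by
              rw [G.toFunctor.map_comp]; exact Category.assoc _ _ _
        _ = z.obj.fst.obj.iso.hom ≫ G.map (m ≫ w.obj.iso.hom) := by rw [e]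
        _ = (z.obj.fst.obj.iso.hom ≫ G.map m) ≫ G.map w.obj.iso.hom := by
              rw [G.toFunctor.map_comp]; exact (Category.assoc _ _ _).symm
    let m₁ : z.obj.fst ⟶ w.obj.fst := Fp.mkHom g.hom.fst m hm
    have hw : (FibCat.fpSnd F G).map m₁ ≫ w.obj.iso.hom = z.obj.iso.hom ≫ a.map g.hom.snd := by
      change m ≫ w.obj.iso.hom = z.obj.iso.hom ≫ a.map g.hom.snd
      simp [m]
    exact ⟨Fp.mkHom m₁ g.hom.snd hw, rfl⟩⟩
  refine isEquivOver_of_ff_essSurj _ fun η => ?_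
  let ξ₁ : (FibCat.fp F G).obj := Fp.mkObj η.obj.fst (a.obj η.obj.snd) η.obj.iso η.property
  have hs : 𝒴.p.IsHomLift (𝟙 ((FibCat.fp F G).p.obj ξ₁)) (Iso.refl (a.obj η.obj.snd)).hom :=
    IsHomLift.id ((a.w_obj η.obj.snd).trans (Fp.p_snd η))
  let ξ : (FibCat.fp (FibCat.fpSnd F G) a).obj := Fp.mkObj ξ₁ η.obj.snd (Iso.refl _) hs
  refine ⟨ξ, Fp.isoMk (z := (paste F G a).obj ξ) (w := η) (Iso.refl _) (Iso.refl _) ?_,
    isHomLift_isoMk (z := (paste F G a).obj ξ) (w := η) _ _ _ (IsHomLift.id rfl)⟩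
  change F.map (𝟙 _) ≫ η.obj.iso.hom = (η.obj.iso.hom ≫ G.map (𝟙 _)) ≫ G.map (a.map (𝟙 _))
  simp
  exact (Category.comp_id _).symm

end Paste

end Groth.Agent.Lib.Fibred.FpEquiv
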