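import Groth.Agent.Lib.Fibred.Yoneda
import Groth.Agent.Lib.Fibred.SelfOver
import Groth.Agent.Lib.Fibred.FpEquiv
import Mathlib.CategoryTheory.Limits.Shapes.BinaryProducts
import Mathlib.CategoryTheory.Limits.Shapes.Pullback.HasPullback

/-!
# Slices as categories over the base, functors between slices, functors to the base
-/

set_option autoImplicit false
set_option backward.isDefEq.respectTransparency false
set_option backward.isDefEq.respectTransparency.types false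

universe v₅ u₅ v₄ u₄ v₃ u₃ v₂ u₂ v u

open CategoryTheory CategoryTheory.Functor CategoryTheory.Limits Groth.Agent.Lib.Fibred.Basic
  Groth.Agent.Lib.Fibred.EquivOver

namespace Groth.Agent.Lib.Fibred.Slice

variable {C : Type u} [Category.{v} C]

theorem overCat_grpd (U : C) : FibCat.IsFibGrpd (FibCat.overCat U).p := (FibSet.overForget_isFibSet U).1

theorem overCat_set (U : C) : FibCat.IsFibSet (FibCat.overCat U).p := FibSet.overForget_isFibSet U

theorem overCat_faithful (U : C) : (FibCat.overCat U).p.Faithful :=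
  inferInstanceAs (Over.forget U).Faithful

/-- Post-composition with a morphism, as a functor over the base. -/
def overFun {X Y : C} (φ : X ⟶ Y) : FibCat.overCat X ⥤ᵇ FibCat.overCat Y :=
  ⟨Over.map φ, Over.mapForget_eq φ⟩

@[simp] theorem overFun_obj_hom {X Y : C} (φ : X ⟶ Y) (f : Over X) :
    ((overFun φ).obj f).hom = f.hom ≫ φ := rfl

@[simp] theorem overFun_map_left {X Y : C} (φ : X ⟶ Y) {f g : Over X} (h : f ⟶ g) :
    ((overFun φ).map h).left = h.left := rfl

/-- Two functors into a slice agreeing at the identity are isomorphic. -/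
theorem nonempty_iso_of_id {U Y : C} (G H : FibCat.overCat U ⥤ᵇ FibCat.overCat Y)
    (e : G.obj (Over.mk (𝟙 U)) ≅ H.obj (Over.mk (𝟙 U)))
    (he : (FibCat.overCat Y).p.IsHomLift (𝟙 U) e.hom) : Nonempty (G ≅ H) :=
  ⟨Yoneda.extendIso (Yoneda.cartAt_of_grpd (overCat_grpd Y) G) (Yoneda.cartAt_of_grpd (overCat_grpd Y) H) e he⟩

/-- Every functor between slices over the base is post-composition with a morphism. -/
theorem exists_overFun {X Y : C} (K : FibCat.overCat X ⥤ᵇ FibCat.overCat Y) :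
    ∃ φ : X ⟶ Y, Nonempty (K ≅ overFun φ) := by
  let k : Over Y := K.obj (Over.mk (𝟙 X))
  have hk : k.left = X := K.w_obj (Over.mk (𝟙 X))
  let φ : X ⟶ Y := eqToHom hk.symm ≫ k.hom
  refine ⟨φ, nonempty_iso_of_id K (overFun φ) (Over.isoMk (eqToIso hk) ?_) ?_⟩
  · change eqToHom hk ≫ 𝟙 X ≫ φ = k.hom
    simp [φ]
  · exact IsHomLift.of_fac' (Over.forget Y) _ _ hk rfl (by simp)

/-- Composition of functors between slices. -/
theorem overFun_comp {X Y Z : C} (φ : X ⟶ Y) (ψ : Y ⟶ Z) :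
    Nonempty (BasedFunctor.comp (overFun φ) (overFun ψ) ≅ overFun (φ ≫ ψ)) := by
  refine nonempty_iso_of_id _ _ (Over.isoMk (Iso.refl X) ?_) ?_
  · change 𝟙 X ≫ 𝟙 X ≫ φ ≫ ψ = (𝟙 X ≫ φ) ≫ ψ
    simp
  · exact IsHomLift.of_fac' (Over.forget Z) _ _ rfl rfl (by simp; rfl)

theorem overFun_id (X : C) : Nonempty (overFun (𝟙 X) ≅ BasedFunctor.id (FibCat.overCat X)) := by
  refine nonempty_iso_of_id _ _ (Over.isoMk (Iso.refl X) ?_) ?_
  · change 𝟙 X ≫ 𝟙 X = 𝟙 X ≫ 𝟙 X
    simp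
  · exact IsHomLift.of_fac' (Over.forget X) _ _ rfl rfl (by simp; rfl)

/-- Isomorphic functors between slices come from equal morphisms. -/
theorem eq_of_iso {X Y : C} {φ ψ : X ⟶ Y} (e : overFun φ ≅ overFun ψ) : φ = ψ := by
  have h := appIso_isHomLift e (Over.mk (𝟙 X)) (rfl : (FibCat.overCat X).p.obj (Over.mk (𝟙 X)) = X)
  have h' : (Over.forget Y).IsHomLift (𝟙 X) (appIso e (Over.mk (𝟙 X))).hom := h
  have hl : (appIso e (Over.mk (𝟙 X))).hom.left = 𝟙 X := by
    have h2 := IsHomLift.fac' (Over.forget Y) (𝟙 X) (appIso e (Over.mk (𝟙 X))).hom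
    exact h2.trans ((Category.id_comp _).trans (Category.id_comp _))
  have hw : (appIso e (Over.mk (𝟙 X))).hom.left ≫ ((overFun ψ).obj (Over.mk (𝟙 X))).hom =
      ((overFun φ).obj (Over.mk (𝟙 X))).hom := Over.w (appIso e (Over.mk (𝟙 X))).hom
  rw [hl, overFun_obj_hom, overFun_obj_hom] at hw
  simp at hw
  exact hw.symm.trans (Category.id_comp _)

variable {𝒳 : BasedCategory.{v₂, u₂} C} {𝒴 : BasedCategory.{v₃, u₃} C} {𝒮 : BasedCategory.{v₄, u₄} C}

/-- Any two functors to the base over itself are uniquely isomorphic. -/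
def selfIso (a b : 𝒳 ⥤ᵇ FibCat.selfOver C) : a ≅ b :=
  BasedNatIso.mkNatIso
    (NatIso.ofComponents (fun x => eqToIso ((a.w_obj x).trans (b.w_obj x).symm)) (fun {x y} φ => by
      have h₁ : (a.map φ : _ ⟶ _) = eqToHom (a.w_obj x) ≫ 𝒳.p.map φ ≫ eqToHom (a.w_obj y).symm := map_p a φ
      have h₂ : (b.map φ : _ ⟶ _) = eqToHom (b.w_obj x) ≫ 𝒳.p.map φ ≫ eqToHom (b.w_obj y).symm := map_p b φ
      simp [h₁, h₂]))
    (fun x => IsHomLift.eqToHom_domain_lift_id (p := (FibCat.selfOver C).p)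
      ((a.w_obj x).trans (b.w_obj x).symm) (a.w_obj x))

section FpIsoMk

variable {F : 𝒳 ⥤ᵇ 𝒮} {G : 𝒴 ⥤ᵇ 𝒮} {𝒲 : BasedCategory.{v₅, u₅} C} {K L : 𝒲 ⥤ᵇ FibCat.fp F G}

/-- A 2-isomorphism between functors into a fibre product from its two components. -/
def fpIsoMk (e₁ : BasedFunctor.comp K (FibCat.fpFst F G) ≅ BasedFunctor.comp L (FibCat.fpFst F G))
    (e₂ : BasedFunctor.comp K (FibCat.fpSnd F G) ≅ BasedFunctor.comp L (FibCat.fpSnd F G))
    (h : ∀ w, F.map (appIso e₁ w).hom ≫ (L.obj w).obj.iso.hom = (K.obj w).obj.iso.hom ≫ G.map (appIso e₂ w).hom) :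
    K ≅ L :=
  BasedNatIso.mkNatIso
    (NatIso.ofComponents (fun w => Fp.isoMk (appIso e₁ w) (appIso e₂ w) (h w))
      (fun {w w'} φ => Fp.hom_ext (appIso_naturality e₁ φ) (appIso_naturality e₂ φ)))
    (fun w => (Fp.isHomLift_iff _ _).mpr (appIso_isHomLift e₁ w rfl))

end FpIsoMk


/-- Squares in the base over itself commute. -/
theorem square_w {F : 𝒳 ⥤ᵇ 𝒮} {G : 𝒴 ⥤ᵇ 𝒮} [𝒮.p.Faithful] {z w : (FibCat.fp F G).obj}
    (a : z.obj.fst ⟶ w.obj.fst) (b : z.obj.snd ⟶ w.obj.snd) {R S : C} (f : R ⟶ S)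
    [𝒳.p.IsHomLift f a] [𝒴.p.IsHomLift f b] :
    F.map a ≫ w.obj.iso.hom = z.obj.iso.hom ≫ G.map b := by
  have := Fp.iso_isHomLift w (IsHomLift.codomain_eq 𝒳.p f a)
  have := Fp.iso_isHomLift z (IsHomLift.domain_eq 𝒳.p f a)
  exact 𝒮.p.map_injective (map_eq_of_isHomLift 𝒮.p f _ _)

/-- Squares in the base over itself commute. -/
theorem self_w {F : 𝒳 ⥤ᵇ FibCat.selfOver C} {G : 𝒴 ⥤ᵇ FibCat.selfOver C} {z w : (FibCat.fp F G).obj}
    (a : z.obj.fst ⟶ w.obj.fst) (b : z.obj.snd ⟶ w.obj.snd) {R S : C} (f : R ⟶ S)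
    [𝒳.p.IsHomLift f a] [𝒴.p.IsHomLift f b] :
    F.map a ≫ w.obj.iso.hom = z.obj.iso.hom ≫ G.map b :=
  have := SelfOver.selfOver_faithful (C := C)
  square_w a b f

section Charts

/-- The common left component of a morphism of a fibre product of two slices. -/
theorem snd_left {X X' : C} {F : FibCat.overCat X ⥤ᵇ 𝒮} {G : FibCat.overCat X' ⥤ᵇ 𝒮}
    {z w : (FibCat.fp F G).obj} (g : z ⟶ w) :
    g.hom.snd.left = eqToHom (Fp.p_snd z) ≫ g.hom.fst.left ≫ eqToHom (Fp.p_snd w).symm :=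
  have : (Over.forget X').IsHomLift ((FibCat.fp F G).p.map g) g.hom.snd := Fp.isHomLift_snd g _
  IsHomLift.fac' (Over.forget X') ((FibCat.fp F G).p.map g) g.hom.snd

/-- The slice over a pullback is the fibre product of the slices. -/
theorem isEquivOver_pullbackChart [HasPullbacks C] {X X' Y : C} (f : X ⟶ Y) (g : X' ⟶ Y) :
    ∃ K : FibCat.overCat (pullback f g) ⥤ᵇ FibCat.fp (overFun f) (overFun g), FibCat.IsEquivOver K := by
  obtain ⟨e⟩ : Nonempty (BasedFunctor.comp (overFun (pullback.fst f g)) (overFun f) ≅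
      BasedFunctor.comp (overFun (pullback.snd f g)) (overFun g)) := by
    obtain ⟨e₁⟩ := overFun_comp (pullback.fst f g) f
    obtain ⟨e₂⟩ := overFun_comp (pullback.snd f g) g
    rw [pullback.condition] at e₁
    exact ⟨e₁ ≪≫ e₂.symm⟩
  refine ⟨FibCat.fpLift (overFun (pullback.fst f g)) (overFun (pullback.snd f g)) e, ?_⟩
  have : (FibCat.fpLift (overFun (pullback.fst f g)) (overFun (pullback.snd f g)) e).toFunctor.Faithful :=
    ⟨fun {a b φ ψ} h => Over.OverMorphism.ext (congrArg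
      (fun t : (FibCat.fpLift (overFun (pullback.fst f g)) (overFun (pullback.snd f g)) e).obj a ⟶
        (FibCat.fpLift (overFun (pullback.fst f g)) (overFun (pullback.snd f g)) e).obj b => t.hom.fst.left) h)⟩
  have : (FibCat.fpLift (overFun (pullback.fst f g)) (overFun (pullback.snd f g)) e).toFunctor.Full := by
    refine ⟨fun {a b} m => ?_⟩
    let k : a.left ⟶ b.left := m.hom.fst.left
    have hs : m.hom.snd.left = k := by
      rw [snd_left m]
      exact (Category.id_comp _).trans (Category.comp_id _)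
    have w₁ : k ≫ b.hom ≫ pullback.fst f g = a.hom ≫ pullback.fst f g := Over.w m.hom.fst
    have w₂ : k ≫ b.hom ≫ pullback.snd f g = a.hom ≫ pullback.snd f g := hs ▸ Over.w m.hom.snd
    refine ⟨Over.homMk k (pullback.hom_ext (by simpa using w₁) (by simpa using w₂)), ?_⟩
    exact Fp.hom_ext (Over.OverMorphism.ext rfl) (Over.OverMorphism.ext hs.symm)
  refine isEquivOver_of_ff_essSurj _ fun η => ?_
  have hh : η.obj.snd.left = η.obj.fst.left := Fp.p_snd η
  have hi : η.obj.iso.hom.left = eqToHom hh.symm := by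
    have : (Over.forget Y).IsHomLift (𝟙 ((FibCat.overCat X).p.obj η.obj.fst)) η.obj.iso.hom :=
      Fp.iso_isHomLift η (rfl : (FibCat.overCat X).p.obj η.obj.fst = _)
    have := IsHomLift.fac' (Over.forget Y) (𝟙 ((FibCat.overCat X).p.obj η.obj.fst)) η.obj.iso.hom
    simpa using this
  have hw : η.obj.fst.hom ≫ f = (eqToHom hh.symm ≫ η.obj.snd.hom) ≫ g := by
    have hw := Over.w η.obj.iso.hom
    rw [hi] at hw
    exact hw.symm.trans (Category.assoc _ _ _).symm
  let ξ : Over (pullback f g) := Over.mk (pullback.lift η.obj.fst.hom (eqToHom hh.symm ≫ η.obj.snd.hom) hw)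
  let i₁ : ((overFun (pullback.fst f g)).obj ξ) ≅ η.obj.fst :=
    Over.isoMk (Iso.refl _) (by simp [ξ])
  let i₂ : ((overFun (pullback.snd f g)).obj ξ) ≅ η.obj.snd :=
    Over.isoMk (eqToIso hh.symm) (by simp [ξ])
  refine ⟨ξ, Fp.isoMk (z := (FibCat.fpLift (overFun (pullback.fst f g)) (overFun (pullback.snd f g)) e).obj ξ)
    (w := η) i₁ i₂ ?_, FpEquiv.isHomLift_isoMk _ _ _ ?_⟩
  · have := overCat_faithful Y
    have h₁ : (FibCat.overCat X).p.IsHomLift (𝟙 η.obj.fst.left) i₁.hom :=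
      IsHomLift.of_fac' (Over.forget X) _ _ rfl rfl (by simp [i₁])
    have h₂ : (FibCat.overCat X').p.IsHomLift (𝟙 η.obj.fst.left) i₂.hom :=
      IsHomLift.of_fac' (Over.forget X') _ _ rfl hh (by simp [i₂])
    exact square_w (F := overFun f) (G := overFun g)
      (z := (FibCat.fpLift (overFun (pullback.fst f g)) (overFun (pullback.snd f g)) e).obj ξ) (w := η)
      i₁.hom i₂.hom (𝟙 η.obj.fst.left)
  · exact IsHomLift.of_fac' (Over.forget X) _ _ rfl rfl (by simp [i₁]; rfl)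

/-- The slice over a product is the product of the slices. -/
theorem isEquivOver_prodChart [HasBinaryProducts C] (X X' : C) :
    ∃ K : FibCat.overCat (X ⨯ X') ⥤ᵇ
      FibCat.fp (FibCat.toSelf (FibCat.overCat X)) (FibCat.toSelf (FibCat.overCat X')),
      FibCat.IsEquivOver K := by
  let e := selfIso (BasedFunctor.comp (overFun (prod.fst : X ⨯ X' ⟶ X)) (FibCat.toSelf _))
    (BasedFunctor.comp (overFun (prod.snd : X ⨯ X' ⟶ X')) (FibCat.toSelf _))
  refine ⟨FibCat.fpLift (overFun prod.fst) (overFun prod.snd) e, ?_⟩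
  have : (FibCat.fpLift (overFun (prod.fst : X ⨯ X' ⟶ X)) (overFun prod.snd) e).toFunctor.Faithful :=
    ⟨fun {a b φ ψ} h => Over.OverMorphism.ext (congrArg
      (fun t : (FibCat.fpLift (overFun (prod.fst : X ⨯ X' ⟶ X)) (overFun prod.snd) e).obj a ⟶
        (FibCat.fpLift (overFun (prod.fst : X ⨯ X' ⟶ X)) (overFun prod.snd) e).obj b => t.hom.fst.left) h)⟩
  have : (FibCat.fpLift (overFun (prod.fst : X ⨯ X' ⟶ X)) (overFun prod.snd) e).toFunctor.Full := by
    refine ⟨fun {a b} m => ?_⟩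
    let k : a.left ⟶ b.left := m.hom.fst.left
    have hs : m.hom.snd.left = k := by
      rw [snd_left m]
      exact (Category.id_comp _).trans (Category.comp_id _)
    have w₁ : k ≫ b.hom ≫ prod.fst = a.hom ≫ prod.fst := Over.w m.hom.fst
    have w₂ : k ≫ b.hom ≫ prod.snd = a.hom ≫ prod.snd := hs ▸ Over.w m.hom.snd
    refine ⟨Over.homMk k (prod.hom_ext (by simpa using w₁) (by simpa using w₂)), ?_⟩
    exact Fp.hom_ext (Over.OverMorphism.ext rfl) (Over.OverMorphism.ext hs.symm)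
  refine isEquivOver_of_ff_essSurj _ fun η => ?_
  have hh : η.obj.snd.left = η.obj.fst.left := Fp.p_snd η
  let ξ : Over (X ⨯ X') := Over.mk (prod.lift η.obj.fst.hom (eqToHom hh.symm ≫ η.obj.snd.hom))
  let i₁ : ((overFun (prod.fst : X ⨯ X' ⟶ X)).obj ξ) ≅ η.obj.fst :=
    Over.isoMk (Iso.refl _) (by simp [ξ])
  let i₂ : ((overFun (prod.snd : X ⨯ X' ⟶ X')).obj ξ) ≅ η.obj.snd :=
    Over.isoMk (eqToIso hh.symm) (by simp [ξ])
  have h₁ : (FibCat.overCat X).p.IsHomLift (𝟙 η.obj.fst.left) i₁.hom :=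
    IsHomLift.of_fac' (Over.forget X) _ _ rfl rfl (by simp [i₁])
  have h₂ : (FibCat.overCat X').p.IsHomLift (𝟙 η.obj.fst.left) i₂.hom :=
    IsHomLift.of_fac' (Over.forget X') _ _ rfl hh (by simp [i₂])
  exact ⟨ξ, Fp.isoMk (z := (FibCat.fpLift (overFun (prod.fst : X ⨯ X' ⟶ X)) (overFun prod.snd) e).obj ξ)
    (w := η) i₁ i₂ (self_w (F := FibCat.toSelf (FibCat.overCat X)) (G := FibCat.toSelf (FibCat.overCat X'))
      (z := (FibCat.fpLift (overFun (prod.fst : X ⨯ X' ⟶ X)) (overFun prod.snd) e).obj ξ) (w := η)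
      i₁.hom i₂.hom (𝟙 η.obj.fst.left)), FpEquiv.isHomLift_isoMk _ _ _ h₁⟩

end Charts

end Groth.Agent.Lib.Fibred.Slice
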