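import Groth.Agent.Lib.Fibred.Basic
import Mathlib.CategoryTheory.Comma.Over.Basic

/-!
# Composites of fibred categories, categories fibred in sets
-/

set_option autoImplicit false
set_option backward.isDefEq.respectTransparency false
set_option backward.isDefEq.respectTransparency.types false

universe v₃ u₃ v₂ u₂ v u

open CategoryTheory CategoryTheory.Functor Groth.Agent.Lib.Fibred.Basic

namespace Groth.Agent.Lib.Fibred.FibSet

variable {C : Type u} [Category.{v} C] {ℬ : Type u₂} [Category.{v₂} ℬ] {𝒜 : Type u₃} [Category.{v₃} 𝒜]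
  (F : 𝒜 ⥤ ℬ) (G : ℬ ⥤ C)

/-- Lifting along a composite. -/
theorem isHomLift_comp_iff {a b : 𝒜} {R S : C} (f : R ⟶ S) (φ : a ⟶ b) :
    (F ⋙ G).IsHomLift f φ ↔ G.IsHomLift f (F.map φ) := by
  constructor <;> intro h
  · exact IsHomLift.of_fac' G f (F.map φ) (IsHomLift.domain_eq (F ⋙ G) f φ)
      (IsHomLift.codomain_eq (F ⋙ G) f φ) (IsHomLift.fac' (F ⋙ G) f φ)
  · exact IsHomLift.of_fac' (F ⋙ G) f φ (IsHomLift.domain_eq G f (F.map φ))
      (IsHomLift.codomain_eq G f (F.map φ)) (IsHomLift.fac' G f (F.map φ))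

/-- A composite of strongly cartesian morphisms for a composite functor. -/
theorem isStronglyCartesian_comp {x y : 𝒜} (φ : x ⟶ y) (h₁ : F.IsStronglyCartesian (F.map φ) φ)
    (h₂ : G.IsStronglyCartesian (G.map (F.map φ)) (F.map φ)) :
    (F ⋙ G).IsStronglyCartesian ((F ⋙ G).map φ) φ := by
  refine { universal_property' := fun {a} g ψ hψ => ?_ }
  have hψ' : G.IsHomLift (g ≫ G.map (F.map φ)) (F.map ψ) := (isHomLift_comp_iff F G _ _).mp hψ
  obtain ⟨k, ⟨hk, hk'⟩, hku⟩ :=
    IsStronglyCartesian.universal_property G (G.map (F.map φ)) (F.map φ) g _ rfl (F.map ψ)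
  obtain ⟨χ, ⟨hχ, hχ'⟩, hχu⟩ :=
    IsStronglyCartesian.universal_property F (F.map φ) φ k (F.map ψ) hk'.symm ψ
  refine ⟨χ, ⟨?_, hχ'⟩, ?_⟩
  · rw [isHomLift_comp_iff, ← IsHomLift.eq_of_isHomLift F k χ]
    exact hk
  · rintro χ' ⟨hχ'₁, rfl⟩
    have : F.map χ' = k := hku _ ⟨(isHomLift_comp_iff F G _ _).mp hχ'₁, (F.map_comp _ _).symm⟩
    exact hχu _ ⟨this ▸ inferInstance, rfl⟩

/-- A composite of fibred functors is fibred. -/
theorem isFibered_comp [F.IsFibered] [G.IsFibered] : (F ⋙ G).IsFibered := by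
  refine IsFibered.of_exists_isStronglyCartesian fun x R f => ?_
  obtain ⟨b, ψ, hψ⟩ := IsPreFibered.exists_isCartesian G (rfl : G.obj (F.obj x) = _) f
  obtain ⟨a, φ, hφ⟩ := IsPreFibered.exists_isCartesian F (rfl : F.obj x = _) ψ
  obtain rfl := IsHomLift.domain_eq F ψ φ
  obtain rfl := IsHomLift.eq_of_isHomLift F ψ φ
  have := isStronglyCartesian_comp F G φ inferInstance (isStronglyCartesian_self_of_isCartesian G f _)
  have : (F ⋙ G).IsHomLift f φ := (isHomLift_comp_iff F G f φ).mpr inferInstance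
  exact ⟨a, φ, isStronglyCartesian_of_self _ f φ⟩

variable {F G}

/-- A composite of categories fibred in groupoids is fibred in groupoids. -/
theorem grpd_comp (hF : FibCat.IsFibGrpd F) (hG : FibCat.IsFibGrpd G) : FibCat.IsFibGrpd (F ⋙ G) where
  exists_lift {x V} f := by
    obtain ⟨b, ψ, hψ⟩ := exists_lift_of_grpd hG (rfl : G.obj (F.obj x) = _) f
    obtain ⟨a, φ, hφ⟩ := hF.exists_lift ψ
    obtain rfl := IsHomLift.domain_eq F ψ φ
    obtain rfl := IsHomLift.eq_of_isHomLift F ψ φ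
    exact ⟨a, φ, (isHomLift_comp_iff F G f φ).mpr inferInstance⟩
  isStronglyCartesian φ :=
    isStronglyCartesian_comp F G φ (hF.isStronglyCartesian φ) (hG.isStronglyCartesian (F.map φ))

/-- Over a faithful functor, cartesian for a composite implies cartesian for the first functor. -/
theorem isStronglyCartesian_of_comp [G.Faithful] {x y : 𝒜} (φ : x ⟶ y)
    (h : (F ⋙ G).IsStronglyCartesian ((F ⋙ G).map φ) φ) : F.IsStronglyCartesian (F.map φ) φ := by
  refine { universal_property' := fun {a} g ψ hψ => ?_ }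
  have e := IsHomLift.eq_of_isHomLift F (g ≫ F.map φ) ψ
  have : (F ⋙ G).IsHomLift (G.map g ≫ (F ⋙ G).map φ) ψ := by
    rw [Functor.comp_map, ← G.map_comp, e]
    exact IsHomLift.map (F ⋙ G) ψ
  obtain ⟨χ, ⟨hχ, hχ'⟩, hu⟩ :=
    IsStronglyCartesian.universal_property (F ⋙ G) ((F ⋙ G).map φ) φ (R' := (F ⋙ G).obj a) (G.map g) _ rfl ψ
  have e₂ : F.map χ = g := G.map_injective (IsHomLift.eq_of_isHomLift (F ⋙ G) (G.map g) χ).symm
  refine ⟨χ, ⟨e₂ ▸ inferInstance, hχ'⟩, ?_⟩
  rintro χ' ⟨hχ'₁, rfl⟩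
  refine hu _ ⟨?_, rfl⟩
  rw [IsHomLift.eq_of_isHomLift F g χ']
  exact IsHomLift.map (F ⋙ G) χ'

/-- In a category fibred in sets lifts are unique. -/
theorem exists_eq_of_set (hG : FibCat.IsFibSet G) {R S : C} (f : R ⟶ S) {a b c : ℬ} (φ : a ⟶ c) (ψ : b ⟶ c)
    [G.IsHomLift f φ] [G.IsHomLift f ψ] : ∃ h : a = b, φ = eqToHom h ≫ ψ := by
  have := stronglyCartesian_of_grpd hG.1 f ψ
  obtain rfl : a = b := obj_eq_of_set hG (IsCartesian.map G f ψ φ) (U := R)
  refine ⟨rfl, ?_⟩
  have := faithful_of_setoid (setoid_of_set hG)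
  apply G.map_injective
  simpa using map_eq_of_isHomLift G f φ ψ

/-- Lifts for the first functor from lifts for the composite. -/
theorem exists_lift_of_comp (hG : FibCat.IsFibSet G) {W : ℬ} {x y : 𝒜} (f : W ⟶ F.obj x) (φ : y ⟶ x)
    [(F ⋙ G).IsHomLift (G.map f) φ] : F.IsHomLift f φ := by
  have := (isHomLift_comp_iff F G (G.map f) φ).mp inferInstance
  obtain ⟨h, e⟩ := exists_eq_of_set hG (G.map f) (F.map φ) f
  subst h
  rw [eqToHom_refl, Category.id_comp] at e
  rw [← e]; infer_instance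

/-- Fibredness over a base fibred in sets. -/
theorem isFibered_iff_comp (hG : FibCat.IsFibSet G) : F.IsFibered ↔ (F ⋙ G).IsFibered := by
  have := isFibered_of_grpd hG.1
  have := faithful_of_setoid (setoid_of_set hG)
  refine ⟨fun _ => isFibered_comp F G, fun _ => IsFibered.of_exists_isStronglyCartesian fun x W f => ?_⟩
  obtain ⟨y, φ, hφ⟩ := IsPreFibered.exists_isCartesian (F ⋙ G) (rfl : (F ⋙ G).obj x = _) (G.map f)
  have := exists_lift_of_comp hG f φ
  have := isStronglyCartesian_of_comp (F := F) (G := G) φ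
    (isStronglyCartesian_self_of_isCartesian (F ⋙ G) (G.map f) φ)
  exact ⟨y, φ, isStronglyCartesian_of_self F f φ⟩

/-- Fibred in groupoids over a base fibred in sets. -/
theorem grpd_iff_comp (hG : FibCat.IsFibSet G) : FibCat.IsFibGrpd F ↔ FibCat.IsFibGrpd (F ⋙ G) := by
  have := faithful_of_setoid (setoid_of_set hG)
  refine ⟨fun h => grpd_comp h hG.1, fun h => ⟨fun {x W} f => ?_, fun φ =>
    isStronglyCartesian_of_comp φ (h.isStronglyCartesian φ)⟩⟩
  obtain ⟨y, φ, hφ⟩ := h.exists_lift (x := x) (G.map f)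
  exact ⟨y, φ, exists_lift_of_comp hG f φ⟩

/-- The slice over an object is fibred in sets over the base. -/
theorem overForget_isFibSet (U : C) : FibCat.IsFibSet (Over.forget U) := by
  refine ⟨⟨fun {x V} f => ?_, fun {y x} φ => { universal_property' := fun {a} g ψ hψ => ?_ }⟩, fun V => ?_⟩
  · let ψ : Over.mk (f ≫ x.hom) ⟶ x := Over.homMk f rfl
    exact ⟨_, ψ, IsHomLift.map (Over.forget U) ψ⟩
  · have e : g ≫ φ.left = ψ.left := IsHomLift.eq_of_isHomLift (Over.forget U) (g ≫ (Over.forget U).map φ) ψ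
    refine ⟨Over.homMk g (by rw [← Over.w φ, ← Category.assoc, e, Over.w ψ]), ⟨?_, Over.OverMorphism.ext e⟩, ?_⟩
    · exact IsHomLift.map (Over.forget U) (Over.homMk g _ : a ⟶ y)
    · rintro χ ⟨hχ, -⟩
      exact Over.OverMorphism.ext (IsHomLift.eq_of_isHomLift (Over.forget U) g χ).symm
  · refine { subsingleton := fun a b => ?_, eq_of_hom := ?_ }
    · exact (isThin_fiber_of_faithful (p := Over.forget U) V) a b
    · rintro ⟨⟨a, ⟨⟨⟩⟩, fa⟩, ha⟩ ⟨⟨b, ⟨⟨⟩⟩, fb⟩, hb⟩ φ
      apply Subtype.ext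
      have e := IsHomLift.fac' (Over.forget U) (𝟙 V) (Fiber.fiberInclusion.map φ)
      have hw := Over.w (Fiber.fiberInclusion.map φ)
      change a = V at ha
      change b = V at hb
      subst ha hb
      simp only [eqToHom_refl, Category.id_comp] at e
      change (Fiber.fiberInclusion.map φ).left = 𝟙 b at e
      rw [e] at hw
      have hw' : fb = fa := (Category.id_comp fb).symm.trans hw
      subst hw'
      rfl

end Groth.Agent.Lib.Fibred.FibSet
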