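import Groth.Agent.Lib.Fibred.FiberFunctor
import Groth.Agent.Lib.Fibred.FibSet

/-!
# The 2-Yoneda lemma for categories over a base
-/

set_option autoImplicit false
set_option backward.isDefEq.respectTransparency false
set_option backward.isDefEq.respectTransparency.types false

universe v₂ u₂ v u

open CategoryTheory CategoryTheory.Functor CategoryTheory.Functor.IsPreFibered
  Groth.Agent.Lib.Fibred.Basic Groth.Agent.Lib.Fibred.EquivOver Groth.Agent.Lib.Fibred.FiberFunctor

namespace Groth.Agent.Lib.Fibred.Yoneda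

variable {C : Type u} [Category.{v} C] {𝒳 : BasedCategory.{v₂, u₂} C} {U : C}

/-- The morphism to the terminal object of the slice. -/
def toId (f : Over U) : f ⟶ Over.mk (𝟙 U) := Over.homMk f.hom (by simp)

theorem toId_isHomLift (f : Over U) : (FibCat.overCat U).p.IsHomLift f.hom (toId f) :=
  IsHomLift.map (Over.forget U) (toId f)

theorem left_isHomLift {f g : Over U} (h : f ⟶ g) : (FibCat.overCat U).p.IsHomLift h.left h :=
  IsHomLift.map (Over.forget U) h

theorem toId_naturality {f g : Over U} (h : f ⟶ g) : h ≫ toId g = toId f :=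
  Over.OverMorphism.ext (Over.w h)

/-- The images of the morphisms to the terminal object are strongly cartesian. -/
def CartAt (H : FibCat.overCat U ⥤ᵇ 𝒳) : Prop :=
  ∀ f : Over U, 𝒳.p.IsStronglyCartesian f.hom (H.map (toId f))

theorem cartAt_of_preserves {H : FibCat.overCat U ⥤ᵇ 𝒳} (hH : FibCat.PreservesStronglyCartesian H) :
    CartAt H := fun f =>
  have : (Over.forget U).IsHomLift f.hom (toId f) := toId_isHomLift f
  hH f.hom (toId f) (stronglyCartesian_of_grpd (FibSet.overForget_isFibSet U).1 f.hom (toId f))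

theorem cartAt_of_grpd (h : FibCat.IsFibGrpd 𝒳.p) (H : FibCat.overCat U ⥤ᵇ 𝒳) : CartAt H :=
  cartAt_of_preserves (preserves_of_grpd H h)

variable {G H : FibCat.overCat U ⥤ᵇ 𝒳}

/-- The component determined by the value at the identity. -/
theorem exists_app (hH : CartAt H) (a : G.obj (Over.mk (𝟙 U)) ⟶ H.obj (Over.mk (𝟙 U)))
    (ha : 𝒳.p.IsHomLift (𝟙 U) a) (f : Over U) :
    ∃! χ : G.obj f ⟶ H.obj f, 𝒳.p.IsHomLift (𝟙 f.left) χ ∧ χ ≫ H.map (toId f) = G.map (toId f) ≫ a := by
  have := hH f
  have := toId_isHomLift f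
  exact IsStronglyCartesian.universal_property 𝒳.p f.hom (H.map (toId f)) (𝟙 f.left) f.hom
    (by simp) (G.map (toId f) ≫ a)

/-- A morphism at the identity extends to a 2-morphism. -/
noncomputable def extend (hH : CartAt H) (a : G.obj (Over.mk (𝟙 U)) ⟶ H.obj (Over.mk (𝟙 U)))
    (ha : 𝒳.p.IsHomLift (𝟙 U) a) : G ⟶ H where
  toNatTrans :=
    { app := fun f => (exists_app hH a ha f).exists.choose
      naturality := fun f g h => by
        obtain ⟨hf₁, hf₂⟩ := (exists_app hH a ha f).exists.choose_spec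
        obtain ⟨hg₁, hg₂⟩ := (exists_app hH a ha g).exists.choose_spec
        generalize (exists_app hH a ha f).exists.choose = α at hf₁ hf₂ ⊢
        generalize (exists_app hH a ha g).exists.choose = β at hg₁ hg₂ ⊢
        have := hH g
        have := left_isHomLift h
        have h1 : 𝒳.p.IsHomLift h.left (G.map h ≫ β) := inferInstance
        have h2 : 𝒳.p.IsHomLift h.left (α ≫ H.map h) := inferInstance
        apply IsStronglyCartesian.ext 𝒳.p g.hom (H.map (toId g)) h.left
        calc (G.map h ≫ β) ≫ H.map (toId g) = (G.map h ≫ G.map (toId g)) ≫ a := by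
              simp only [Category.assoc, hg₂]
          _ = G.map (toId f) ≫ a := by rw [← G.toFunctor.map_comp, toId_naturality]
          _ = α ≫ H.map (toId f) := hf₂.symm
          _ = α ≫ H.map h ≫ H.map (toId g) := by rw [← H.toFunctor.map_comp, toId_naturality]
          _ = (α ≫ H.map h) ≫ H.map (toId g) := (Category.assoc _ _ _).symm }
  isHomLift' := fun f => (exists_app hH a ha f).exists.choose_spec.1

theorem extend_app_id (hH : CartAt H) (a : G.obj (Over.mk (𝟙 U)) ⟶ H.obj (Over.mk (𝟙 U)))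
    (ha : 𝒳.p.IsHomLift (𝟙 U) a) : (extend hH a ha).toNatTrans.app (Over.mk (𝟙 U)) = a := by
  have e : toId (Over.mk (𝟙 U)) = 𝟙 _ := Over.OverMorphism.ext rfl
  refine (exists_app hH a ha (Over.mk (𝟙 U))).unique
    (exists_app hH a ha (Over.mk (𝟙 U))).exists.choose_spec ⟨ha, ?_⟩
  rw [e]
  simp

/-- A 2-morphism is determined by its value at the identity. -/
theorem app_ext (hH : CartAt H) (α β : G ⟶ H)
    (h : α.toNatTrans.app (Over.mk (𝟙 U)) = β.toNatTrans.app (Over.mk (𝟙 U))) : α = β := by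
  apply BasedNatTrans.homCategory.ext
  apply NatTrans.ext
  funext f
  refine (exists_app hH (α.toNatTrans.app (Over.mk (𝟙 U))) (BasedNatTrans.isHomLift α rfl) f).unique ?_ ?_
  · exact ⟨α.isHomLift' f, (α.toNatTrans.naturality (toId f)).symm⟩
  · refine ⟨β.isHomLift' f, ?_⟩
    rw [h]
    exact (β.toNatTrans.naturality (toId f)).symm

/-- An isomorphism at the identity extends to a 2-isomorphism. -/
noncomputable def extendIso (hG : CartAt G) (hH : CartAt H)
    (a : G.obj (Over.mk (𝟙 U)) ≅ H.obj (Over.mk (𝟙 U))) (ha : 𝒳.p.IsHomLift (𝟙 U) a.hom) : G ≅ H where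
  hom := extend hH a.hom ha
  inv := extend hG a.inv (have := ha; inferInstance)
  hom_inv_id := app_ext hG _ _ (by
    change (extend hH a.hom _).toNatTrans.app _ ≫ (extend hG a.inv _).toNatTrans.app _ = 𝟙 _
    simp [extend_app_id])
  inv_hom_id := app_ext hH _ _ (by
    change (extend hG a.inv _).toNatTrans.app _ ≫ (extend hH a.hom _).toNatTrans.app _ = 𝟙 _
    simp [extend_app_id])

section FromFiber

variable [𝒳.p.IsFibered] (ξ : 𝒳.p.Fiber U)

/-- The pullback of a fixed object along the arrows of a slice. -/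
noncomputable def fromFiberFunctor : Over U ⥤ 𝒳.obj where
  obj f := pullbackObj ξ.2 f.hom
  map {f g} h := IsStronglyCartesian.map 𝒳.p g.hom (pullbackMap ξ.2 g.hom) (f' := f.hom) (g := h.left)
    (Over.w h).symm (pullbackMap ξ.2 f.hom)
  map_id f := by
    symm
    have : 𝒳.p.IsHomLift (𝟙 f : f ⟶ f).left (𝟙 (pullbackObj ξ.2 f.hom)) := by
      simp only [Over.id_left]; exact IsHomLift.id (pullbackObj_proj ξ.2 f.hom)
    apply IsStronglyCartesian.map_uniq
    simp
  map_comp {f g k} h h' := by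
    symm
    have : 𝒳.p.IsHomLift (h ≫ h').left
        (IsStronglyCartesian.map 𝒳.p g.hom (pullbackMap ξ.2 g.hom) (f' := f.hom) (g := h.left)
            (Over.w h).symm (pullbackMap ξ.2 f.hom) ≫
          IsStronglyCartesian.map 𝒳.p k.hom (pullbackMap ξ.2 k.hom) (f' := g.hom) (g := h'.left)
            (Over.w h').symm (pullbackMap ξ.2 g.hom)) := by
      rw [Over.comp_left]; infer_instance
    apply IsStronglyCartesian.map_uniq
    simp

/-- The functor over the base attached to an object of a fibre. -/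
noncomputable def fromFiber : FibCat.overCat U ⥤ᵇ 𝒳 where
  toFunctor := fromFiberFunctor ξ
  w := CategoryTheory.Functor.ext (fun f => pullbackObj_proj ξ.2 f.hom) fun f g h => by
    have hl : 𝒳.p.IsHomLift h.left ((fromFiberFunctor ξ).map h) :=
      IsStronglyCartesian.map_isHomLift 𝒳.p g.hom (pullbackMap ξ.2 g.hom) (g := h.left) (Over.w h).symm
        (pullbackMap ξ.2 f.hom)
    exact IsHomLift.fac' 𝒳.p h.left ((fromFiberFunctor ξ).map h)

theorem fromFiber_preserves : FibCat.PreservesStronglyCartesian (fromFiber ξ) := by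
  intro R S f a b φ hφ
  have hr : 𝒳.p.IsHomLift φ.left ((fromFiber ξ).map φ) :=
    IsStronglyCartesian.map_isHomLift 𝒳.p b.hom (pullbackMap ξ.2 b.hom) (g := φ.left) (Over.w φ).symm
      (pullbackMap ξ.2 a.hom)
  have h1 : 𝒳.p.IsStronglyCartesian φ.left ((fromFiber ξ).map φ) := by
    have e : (fromFiber ξ).map φ ≫ pullbackMap ξ.2 b.hom = pullbackMap ξ.2 a.hom :=
      IsStronglyCartesian.fac 𝒳.p b.hom (pullbackMap ξ.2 b.hom) (g := φ.left) (Over.w φ).symm
        (pullbackMap ξ.2 a.hom)
    have : 𝒳.p.IsStronglyCartesian (φ.left ≫ b.hom) ((fromFiber ξ).map φ ≫ pullbackMap ξ.2 b.hom) := by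
      rw [e, Over.w φ]; infer_instance
    exact IsStronglyCartesian.of_comp 𝒳.p (g := b.hom) (ψ := pullbackMap ξ.2 b.hom)
  have := isStronglyCartesian_self 𝒳.p φ.left ((fromFiber ξ).map φ)
  exact isStronglyCartesian_of_self 𝒳.p f ((fromFiber ξ).map φ)

theorem fromFiber_id_iso :
    ∃ e : (fromFiber ξ).obj (Over.mk (𝟙 U)) ≅ ξ.1, 𝒳.p.IsHomLift (𝟙 U) e.hom :=
  have := IsStronglyCartesian.isIso_of_base_isIso 𝒳.p (𝟙 U) (pullbackMap ξ.2 (𝟙 U))
  ⟨asIso (pullbackMap ξ.2 (𝟙 U)), inferInstanceAs (𝒳.p.IsHomLift (𝟙 U) (pullbackMap ξ.2 (𝟙 U)))⟩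

end FromFiber

end Groth.Agent.Lib.Fibred.Yoneda
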