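import Groth.Prelude.Def_AlgSt
import Groth.Agent.Lib.Fibred.Yoneda

/-!
# Descent along a sieve in terms of morphisms and cocones

For a category fibred in groupoids, the condition that restriction along a sieve be fully faithful, resp. an
equivalence, is rewritten as: vertical morphisms agreeing on the sieve are equal (`Sep`), compatible families
of morphisms glue (`GlueHom`), functors on the sieve admit a cocone over the vertex (`GlueObj`).
-/

set_option autoImplicit false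
set_option backward.isDefEq.respectTransparency false
set_option backward.isDefEq.respectTransparency.types false

universe v₂ u₂ v u

open CategoryTheory CategoryTheory.Functor Groth.Agent.Lib.Fibred.Basic Groth.Agent.Lib.Fibred.Yoneda

namespace Groth.Agent.Lib.Fibred.Descent

variable {C : Type u} [Category.{v} C] {U : C} (R : Sieve U) (𝒳 : BasedCategory.{v₂, u₂} C)

/-- Vertical morphisms which agree on the sieve are equal. -/
def Sep : Prop :=
  ∀ ⦃ξ η : 𝒳.obj⦄ (a b : ξ ⟶ η), 𝒳.p.IsHomLift (𝟙 U) a → 𝒳.p.IsHomLift (𝟙 U) b →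
    (∀ ⦃V : C⦄ (f : V ⟶ U), R f → ∀ ⦃z : 𝒳.obj⦄ (ψ : z ⟶ ξ), 𝒳.p.IsHomLift f ψ → ψ ≫ a = ψ ≫ b) → a = b

/-- A family of morphisms on the sieve. -/
abbrev Fam (ξ η : 𝒳.obj) : Type _ :=
  ∀ ⦃V : C⦄ (f : V ⟶ U), R f → ∀ ⦃z : 𝒳.obj⦄ (ψ : z ⟶ ξ), 𝒳.p.IsHomLift f ψ → (z ⟶ η)

variable {R 𝒳} in
/-- A family of morphisms is compatible. -/
structure Fam.Compatible {ξ η : 𝒳.obj} (c : Fam R 𝒳 ξ η) : Prop where
  lifts : ∀ ⦃V : C⦄ (f : V ⟶ U) (hf : R f) ⦃z : 𝒳.obj⦄ (ψ : z ⟶ ξ) (hψ : 𝒳.p.IsHomLift f ψ),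
    𝒳.p.IsHomLift f (c f hf ψ hψ)
  comp : ∀ ⦃V : C⦄ (f : V ⟶ U) (hf : R f) ⦃z : 𝒳.obj⦄ (ψ : z ⟶ ξ) (hψ : 𝒳.p.IsHomLift f ψ) ⦃V' : C⦄
    (g : V' ⟶ V) ⦃z' : 𝒳.obj⦄ (ρ : z' ⟶ z), 𝒳.p.IsHomLift g ρ → ∀ (hψ' : 𝒳.p.IsHomLift (g ≫ f) (ρ ≫ ψ)),
      c (g ≫ f) (R.downward_closed hf g) (ρ ≫ ψ) hψ' = ρ ≫ c f hf ψ hψ

/-- Compatible families of morphisms glue. -/
def GlueHom : Prop :=
  ∀ ⦃ξ η : 𝒳.obj⦄, 𝒳.p.obj ξ = U → 𝒳.p.obj η = U → ∀ (c : Fam R 𝒳 ξ η), c.Compatible →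
    ∃ a : ξ ⟶ η, 𝒳.p.IsHomLift (𝟙 U) a ∧
      ∀ ⦃V : C⦄ (f : V ⟶ U) (hf : R f) ⦃z : 𝒳.obj⦄ (ψ : z ⟶ ξ) (hψ : 𝒳.p.IsHomLift f ψ),
        ψ ≫ a = c f hf ψ hψ

variable {R 𝒳}

/-- A cocone over the vertex of the sieve. -/
structure Glued (H : Stk.sieveCat R ⥤ᵇ 𝒳) where
  /-- the glued object -/
  pt : 𝒳.obj
  proj : 𝒳.p.obj pt = U
  /-- the structure morphisms -/
  ι : ∀ a : (Stk.sieveCat R).obj, H.obj a ⟶ pt
  lifts : ∀ a : (Stk.sieveCat R).obj, 𝒳.p.IsHomLift a.obj.hom (ι a)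
  w : ∀ ⦃a b : (Stk.sieveCat R).obj⦄ (m : a ⟶ b), H.map m ≫ ι b = ι a

variable (R 𝒳)

/-- Every functor on the sieve has a cocone. -/
def GlueObj : Prop := ∀ H : Stk.sieveCat R ⥤ᵇ 𝒳, Nonempty (Glued H)

variable {R 𝒳}

theorem Fam.Compatible.congr {ξ η : 𝒳.obj} {c : Fam R 𝒳 ξ η} {V : C} {f f' : V ⟶ U} (e : f = f') (hf : R f)
    (hf' : R f') {z : 𝒳.obj} {ψ ψ' : z ⟶ ξ} (e' : ψ = ψ') (hψ : 𝒳.p.IsHomLift f ψ)
    (hψ' : 𝒳.p.IsHomLift f' ψ') : c f hf ψ hψ = c f' hf' ψ' hψ' := by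
  subst e e'; rfl

theorem sieveCat_isHomLift {a b : (Stk.sieveCat R).obj} (m : a ⟶ b) :
    (Stk.sieveCat R).p.IsHomLift m.hom.left m :=
  IsHomLift.map (Stk.sieveCat R).p m

section Grpd

variable (h : FibCat.IsFibGrpd 𝒳.p)
include h

theorem cart {V W : C} {f : V ⟶ W} {y x : 𝒳.obj} (φ : y ⟶ x) (hφ : 𝒳.p.IsHomLift f φ) :
    𝒳.p.IsStronglyCartesian f φ :=
  stronglyCartesian_of_grpd h f φ

/-- Lifts exist. -/
theorem exists_lift {x : 𝒳.obj} {V W : C} (hx : 𝒳.p.obj x = W) (f : V ⟶ W) :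
    ∃ (z : 𝒳.obj) (ψ : z ⟶ x), 𝒳.p.IsHomLift f ψ := by
  obtain ⟨z, ψ, hψ⟩ := exists_lift_of_grpd h hx f
  exact ⟨z, ψ, inferInstance⟩

/-- Unique vertical factorisation through a lift. -/
theorem exists_factor {V W : C} {f : V ⟶ W} {y x : 𝒳.obj} (φ : y ⟶ x) (hφ : 𝒳.p.IsHomLift f φ)
    {z : 𝒳.obj} (ψ : z ⟶ x) (hψ : 𝒳.p.IsHomLift f ψ) :
    ∃ θ : z ⟶ y, 𝒳.p.IsHomLift (𝟙 V) θ ∧ θ ≫ φ = ψ := by
  have := cart h φ hφ
  exact (IsStronglyCartesian.universal_property 𝒳.p f φ (𝟙 V) f (by simp) ψ).exists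

/-- Two lifts of the same morphism with equal composites are equal. -/
theorem ext_lift {V' V W : C} {g : V' ⟶ V} {f : V ⟶ W} {y x z : 𝒳.obj} (φ : y ⟶ x)
    (hφ : 𝒳.p.IsHomLift f φ) {θ θ' : z ⟶ y} (hθ : 𝒳.p.IsHomLift g θ) (hθ' : 𝒳.p.IsHomLift g θ')
    (e : θ ≫ φ = θ' ≫ φ) : θ = θ' := by
  have := cart h φ hφ
  exact IsStronglyCartesian.ext 𝒳.p f φ g e

theorem exists_fromFiber {ξ : 𝒳.obj} (hξ : 𝒳.p.obj ξ = U) :
    ∃ (G : FibCat.overCat U ⥤ᵇ 𝒳) (e : G.obj (Over.mk (𝟙 U)) ≅ ξ), 𝒳.p.IsHomLift (𝟙 U) e.hom := by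
  have := isFibered_of_grpd h
  obtain ⟨e, he⟩ := fromFiber_id_iso (𝒳 := 𝒳) (⟨ξ, hξ⟩ : 𝒳.p.Fiber U)
  exact ⟨fromFiber ⟨ξ, hξ⟩, e, he⟩

end Grpd


theorem toId_map_isHomLift (G : FibCat.overCat U ⥤ᵇ 𝒳) (f : Over U) :
    𝒳.p.IsHomLift f.hom (G.map (toId f)) := by
  have := toId_isHomLift f
  infer_instance

theorem obj_id_proj (G : FibCat.overCat U ⥤ᵇ 𝒳) : 𝒳.p.obj (G.obj (Over.mk (𝟙 U))) = U :=
  haveI := toId_map_isHomLift G (Over.mk (𝟙 U))
  IsHomLift.codomain_eq 𝒳.p (Over.mk (𝟙 U)).hom (G.map (toId (Over.mk (𝟙 U))))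

variable (h : FibCat.IsFibGrpd 𝒳.p)
include h

/-- Restriction is faithful exactly when morphisms are separated. -/
theorem faithful_iff_sep : (Stk.resSieve R 𝒳).Faithful ↔ Sep R 𝒳 := by
  constructor
  · intro hF ξ η a b ha hb hab
    obtain ⟨G, e, he⟩ := exists_fromFiber h (IsHomLift.domain_eq 𝒳.p (𝟙 U) a : 𝒳.p.obj ξ = U)
    obtain ⟨G', e', he'⟩ := exists_fromFiber h (IsHomLift.codomain_eq 𝒳.p (𝟙 U) a : 𝒳.p.obj η = U)
    have hcG' := cartAt_of_grpd h G'
    let α : G ⟶ G' := extend hcG' (e.hom ≫ a ≫ e'.inv) inferInstance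
    let β : G ⟶ G' := extend hcG' (e.hom ≫ b ≫ e'.inv) inferInstance
    have key : α = β := by
      apply hF.map_injective
      apply BasedNatTrans.homCategory.ext
      apply NatTrans.ext
      funext f
      change α.toNatTrans.app f.obj = β.toNatTrans.app f.obj
      have h1 := α.toNatTrans.naturality (toId f.obj)
      have h2 := β.toNatTrans.naturality (toId f.obj)
      rw [extend_app_id hcG'] at h1 h2
      refine ext_lift h _ (toId_map_isHomLift G' f.obj) (α.isHomLift' f.obj) (β.isHomLift' f.obj) ?_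
      rw [← h1, ← h2]
      have := toId_map_isHomLift G f.obj
      have h3 := hab f.obj.hom f.property (G.map (toId f.obj) ≫ e.hom) inferInstance
      simp only [Category.assoc] at h3
      simp only [← Category.assoc] at h3 ⊢
      rw [h3]
    have h4 : α.toNatTrans.app (Over.mk (𝟙 U)) = β.toNatTrans.app (Over.mk (𝟙 U)) := by rw [key]
    rw [extend_app_id hcG', extend_app_id hcG'] at h4
    simpa using h4
  · intro hS
    refine ⟨fun {G G'} α β hαβ => app_ext (cartAt_of_grpd h G') α β ?_⟩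
    refine hS _ _ (BasedNatTrans.isHomLift α rfl) (BasedNatTrans.isHomLift β rfl) fun V f hf z ψ hψ => ?_
    obtain ⟨θ, -, rfl⟩ := exists_factor h _ (toId_map_isHomLift G (Over.mk f)) ψ hψ
    have e1 : α.toNatTrans.app (Over.mk f) = β.toNatTrans.app (Over.mk f) :=
      congrArg (fun t => t.toNatTrans.app ⟨Over.mk f, hf⟩) hαβ
    simp only [Category.assoc]
    rw [α.toNatTrans.naturality, β.toNatTrans.naturality, e1]

/-- Restriction is full exactly when morphisms glue. -/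
theorem full_iff_glueHom : (Stk.resSieve R 𝒳).Full ↔ GlueHom R 𝒳 := by
  constructor
  · intro hF ξ η hξ hη c hc
    obtain ⟨G, e, he⟩ := exists_fromFiber h hξ
    obtain ⟨G', e', he'⟩ := exists_fromFiber h hη
    have hl : ∀ f : (Stk.sieveCat R).obj, 𝒳.p.IsHomLift f.obj.hom (G.map (toId f.obj) ≫ e.hom) := fun f => by
      have := toId_map_isHomLift G f.obj; infer_instance
    have hl' : ∀ f : (Stk.sieveCat R).obj, 𝒳.p.IsHomLift f.obj.hom (G'.map (toId f.obj) ≫ e'.hom) := fun f => by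
      have := toId_map_isHomLift G' f.obj; infer_instance
    have ex : ∀ f : (Stk.sieveCat R).obj, ∃ χ : G.obj f.obj ⟶ G'.obj f.obj,
        𝒳.p.IsHomLift (𝟙 f.obj.left) χ ∧
          χ ≫ G'.map (toId f.obj) ≫ e'.hom = c f.obj.hom f.property _ (hl f) := fun f =>
      exists_factor h _ (hl' f) _ (hc.lifts f.obj.hom f.property _ (hl f))
    choose χ hχ hχe using ex
    let β : (Stk.resSieve R 𝒳).obj G ⟶ (Stk.resSieve R 𝒳).obj G' :=
      { toNatTrans :=
          { app := χ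
            naturality := fun f g m => by
              change G.map m.hom ≫ χ g = χ f ≫ G'.map m.hom
              have hG : 𝒳.p.IsHomLift m.hom.left (G.map m.hom) :=
                haveI := left_isHomLift m.hom; inferInstance
              have hG' : 𝒳.p.IsHomLift m.hom.left (G'.map m.hom) :=
                haveI := left_isHomLift m.hom; inferInstance
              have := hχ f
              have := hχ g
              refine ext_lift h _ (hl' g) (g := m.hom.left) inferInstance inferInstance ?_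
              have e1 : G'.map m.hom ≫ G'.map (toId g.obj) = G'.map (toId f.obj) := by
                rw [← G'.toFunctor.map_comp, toId_naturality]
              have e2 : G.map m.hom ≫ G.map (toId g.obj) = G.map (toId f.obj) := by
                rw [← G.toFunctor.map_comp, toId_naturality]
              simp only [Category.assoc, reassoc_of% e1]
              rw [hχe g, hχe f]
              have := hl g
              rw [← hc.comp g.obj.hom g.property _ (hl g) m.hom.left (G.map m.hom) hG inferInstance]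
              exact Fam.Compatible.congr (Over.w m.hom) _ _ (by rw [reassoc_of% e2]) _ _ }
        isHomLift' := hχ }
    obtain ⟨α, hα⟩ := hF.map_surjective β
    have ha : 𝒳.p.IsHomLift (𝟙 U) (α.toNatTrans.app (Over.mk (𝟙 U))) := BasedNatTrans.isHomLift α rfl
    refine ⟨e.inv ≫ α.toNatTrans.app (Over.mk (𝟙 U)) ≫ e'.hom, inferInstance, fun V f hf z ψ hψ => ?_⟩
    obtain ⟨θ, hθ, hθe⟩ := exists_factor h _ (hl ⟨Over.mk f, hf⟩) ψ hψ
    have e1 : α.toNatTrans.app (Over.mk f) = χ ⟨Over.mk f, hf⟩ :=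
      congrArg (fun t => t.toNatTrans.app ⟨Over.mk f, hf⟩) hα
    subst hθe
    simp only [Category.assoc, Iso.hom_inv_id_assoc]
    erw [reassoc_of% (α.toNatTrans.naturality (toId (Over.mk f)))]
    rw [e1]
    erw [hχe ⟨Over.mk f, hf⟩]
    have := hl ⟨Over.mk f, hf⟩
    erw [← hc.comp f hf _ (hl ⟨Over.mk f, hf⟩) (𝟙 V) θ hθ inferInstance]
    exact Fam.Compatible.congr (Category.id_comp f) _ _ rfl _ _
  · intro hg
    refine ⟨fun {G G'} β => ?_⟩
    have ex : ∀ {V : C} (f : V ⟶ U) (_ : R f) {z : 𝒳.obj} (ψ : z ⟶ G.obj (Over.mk (𝟙 U))),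
        𝒳.p.IsHomLift f ψ → ∃ θ : z ⟶ G.obj (Over.mk f), 𝒳.p.IsHomLift (𝟙 V) θ ∧ θ ≫ G.map (toId (Over.mk f)) = ψ :=
      fun f _ _ ψ hψ => exists_factor h _ (toId_map_isHomLift G (Over.mk f)) ψ hψ
    choose θ hθ hθe using @ex
    let c : Fam R 𝒳 (G.obj (Over.mk (𝟙 U))) (G'.obj (Over.mk (𝟙 U))) := fun V f hf z ψ hψ =>
      θ f hf ψ hψ ≫ β.toNatTrans.app ⟨Over.mk f, hf⟩ ≫ G'.map (toId (Over.mk f))
    have hc : c.Compatible := by
      constructor
      · intro V f hf z ψ hψ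
        have := hθ f hf ψ hψ
        have : 𝒳.p.IsHomLift (𝟙 V) (β.toNatTrans.app ⟨Over.mk f, hf⟩) := β.isHomLift' ⟨Over.mk f, hf⟩
        have : 𝒳.p.IsHomLift f (G'.map (toId (Over.mk f))) := toId_map_isHomLift G' (Over.mk f)
        change 𝒳.p.IsHomLift f (θ f hf ψ hψ ≫ β.toNatTrans.app ⟨Over.mk f, hf⟩ ≫ G'.map (toId (Over.mk f)))
        infer_instance
      · intro V f hf z ψ hψ V' g z' ρ hρ hψ'
        let m₀ : Over.mk (g ≫ f) ⟶ Over.mk f := Over.homMk g rfl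
        let a₁ : (Stk.sieveCat R).obj := ⟨Over.mk (g ≫ f), R.downward_closed hf g⟩
        let a₂ : (Stk.sieveCat R).obj := ⟨Over.mk f, hf⟩
        let m : a₁ ⟶ a₂ := ObjectProperty.homMk m₀
        change θ (g ≫ f) _ (ρ ≫ ψ) hψ' ≫ β.toNatTrans.app a₁ ≫ G'.map (toId (Over.mk (g ≫ f))) =
          ρ ≫ θ f hf ψ hψ ≫ β.toNatTrans.app a₂ ≫ G'.map (toId (Over.mk f))
        have hn : G.map m₀ ≫ β.toNatTrans.app a₂ = β.toNatTrans.app a₁ ≫ G'.map m₀ := β.toNatTrans.naturality m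
        have hG : 𝒳.p.IsHomLift g (G.map m₀) :=
          haveI : (FibCat.overCat U).p.IsHomLift g m₀ := left_isHomLift m₀; inferInstance
        have e3 : θ (g ≫ f) (R.downward_closed hf g) (ρ ≫ ψ) hψ' ≫ G.map m₀ = ρ ≫ θ f hf ψ hψ := by
          have := hθ (g ≫ f) (R.downward_closed hf g) (ρ ≫ ψ) hψ'
          have := hθ f hf ψ hψ
          refine ext_lift h _ (toId_map_isHomLift G (Over.mk f)) (g := g) inferInstance inferInstance ?_
          rw [Category.assoc, ← G.toFunctor.map_comp, toId_naturality, hθe, Category.assoc, hθe]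
        rw [← toId_naturality m₀, G'.toFunctor.map_comp, ← reassoc_of% hn, reassoc_of% e3]
    obtain ⟨a, ha, hae⟩ := hg (obj_id_proj G) (obj_id_proj G') c hc
    refine ⟨extend (cartAt_of_grpd h G') a ha, ?_⟩
    apply BasedNatTrans.homCategory.ext
    apply NatTrans.ext
    funext f
    change (extend (cartAt_of_grpd h G') a ha).toNatTrans.app f.obj = β.toNatTrans.app f
    refine ext_lift h _ (toId_map_isHomLift G' f.obj) ((extend (cartAt_of_grpd h G') a ha).isHomLift' f.obj) (β.isHomLift' f) ?_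
    rw [← (extend (cartAt_of_grpd h G') a ha).toNatTrans.naturality (toId f.obj), extend_app_id]
    rw [hae f.obj.hom f.property _ (toId_map_isHomLift G f.obj)]
    have := hθ f.obj.hom f.property _ (toId_map_isHomLift G f.obj)
    have e4 : θ f.obj.hom f.property _ (toId_map_isHomLift G f.obj) = 𝟙 _ :=
      ext_lift h _ (toId_map_isHomLift G f.obj) this (IsHomLift.id (G.w_obj f.obj))
        ((hθe _ _ _ _).trans (Category.id_comp _).symm)
    change θ f.obj.hom f.property _ _ ≫ β.toNatTrans.app f ≫ _ = _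
    rw [e4]
    exact Category.id_comp _

/-- Restriction is essentially surjective exactly when objects glue. -/
theorem essSurj_iff_glueObj : (Stk.resSieve R 𝒳).EssSurj ↔ GlueObj R 𝒳 := by
  constructor
  · intro hE H
    obtain ⟨G, ⟨i⟩⟩ := hE.mem_essImage H
    refine ⟨⟨G.obj (Over.mk (𝟙 U)), obj_id_proj G, fun a => i.inv.toNatTrans.app a ≫ G.map (toId a.obj),
      fun a => ?_, fun a b m => ?_⟩⟩
    · have := toId_map_isHomLift G a.obj
      have : 𝒳.p.IsHomLift (𝟙 a.obj.left) (i.inv.toNatTrans.app a) := i.inv.isHomLift' a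
      exact IsHomLift.comp_lift_id_left' 𝒳.p a.obj.left _ a.obj.hom _
    · rw [reassoc_of% (i.inv.toNatTrans.naturality m)]
      change _ ≫ G.map m.hom ≫ _ = _
      rw [← G.toFunctor.map_comp, toId_naturality]
  · intro hg
    refine ⟨fun H => ?_⟩
    obtain ⟨⟨ξ, hξ, ι, hι, hw⟩⟩ := hg H
    obtain ⟨G, e, he⟩ := exists_fromFiber h hξ
    have hl : ∀ f : (Stk.sieveCat R).obj, 𝒳.p.IsHomLift f.obj.hom (G.map (toId f.obj) ≫ e.hom) := fun f => by
      have := toId_map_isHomLift G f.obj; infer_instance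
    choose χ hχ hχe using fun f : (Stk.sieveCat R).obj => exists_factor h _ (hι f) _ (hl f)
    have hiso : ∀ f, IsIso (χ f) := fun f => by
      have := cart h (χ f) (hχ f)
      exact IsStronglyCartesian.isIso_of_base_isIso 𝒳.p (𝟙 f.obj.left) (χ f)
    refine ⟨G, ⟨BasedNatIso.mkNatIso (NatIso.ofComponents (fun f => @asIso _ _ _ _ (χ f) (hiso f))
      fun {f g} m => ?_) fun f => hχ f⟩⟩
    change G.map m.hom ≫ χ g = χ f ≫ H.map m
    have : 𝒳.p.IsHomLift m.hom.left (G.map m.hom) := haveI := left_isHomLift m.hom; inferInstance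
    have : 𝒳.p.IsHomLift m.hom.left (H.map m) := haveI := sieveCat_isHomLift m; inferInstance
    have := hχ f
    have := hχ g
    refine ext_lift h _ (hι g) (g := m.hom.left) inferInstance inferInstance ?_
    rw [Category.assoc, hχe, Category.assoc, hw m, hχe, ← Category.assoc, ← G.toFunctor.map_comp, toId_naturality]

/-- Morphisms glue uniquely along the sieve. -/
theorem isPrestackFor_iff : Stk.IsPrestackFor R 𝒳 ↔ Sep R 𝒳 ∧ GlueHom R 𝒳 := by
  rw [Stk.IsPrestackFor, faithful_iff_sep h, full_iff_glueHom h, and_comm]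

/-- Morphisms and objects glue along the sieve. -/
theorem isStackFor_iff : Stk.IsStackFor R 𝒳 ↔ Sep R 𝒳 ∧ GlueHom R 𝒳 ∧ GlueObj R 𝒳 := by
  rw [← faithful_iff_sep h, ← full_iff_glueHom h, ← essSurj_iff_glueObj h]
  exact ⟨fun hE => ⟨hE.faithful, hE.full, hE.essSurj⟩, fun ⟨a, b, c⟩ => { faithful := a, full := b, essSurj := c }⟩

end Groth.Agent.Lib.Fibred.Descent
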