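import Groth.Agent.Lib.Fibred.StackLocal

/-!
# Stacks with equivalent dense families of objects are equivalent, several objects over each base

If two stacks have families of objects indexed over the base, with the same morphisms between them, and
every object of either stack is locally isomorphic to a member of the family, the stacks are equivalent.
-/

set_option autoImplicit false
set_option backward.isDefEq.respectTransparency false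
set_option backward.isDefEq.respectTransparency.types false

universe w₁ v₂ u₂ v₃ u₃ v u

open CategoryTheory CategoryTheory.Functor Groth.Agent.Lib.Fibred.Descent Groth.Agent.Lib.Fibred.StackLemmas

namespace Groth.Agent.Lib.Fibred.DenseExt2

variable {C : Type u} [Category.{v} C] (𝒳 : BasedCategory.{v₂, u₂} C) (𝒴 : BasedCategory.{v₃, u₃} C)

/-- Families of objects of two categories over the base with the same morphisms. -/
structure Data where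
  ι : C → Type w₁
  z : ∀ {V : C}, ι V → 𝒳.obj
  w : ∀ {V : C}, ι V → 𝒴.obj
  hz : ∀ {V : C} (i : ι V), 𝒳.p.obj (z i) = V
  hw : ∀ {V : C} (i : ι V), 𝒴.p.obj (w i) = V
  ex : ∀ {V' V : C} (u : V' ⟶ V) (i : ι V), ∃ (i' : ι V') (a : z i' ⟶ z i), 𝒳.p.IsHomLift u a
  M : ∀ {V' V : C} {i' : ι V'} {i : ι V}, (z i' ⟶ z i) → (w i' ⟶ w i)
  lifts : ∀ {V' V : C} (u : V' ⟶ V) {i' : ι V'} {i : ι V} (a : z i' ⟶ z i),
    𝒳.p.IsHomLift u a → 𝒴.p.IsHomLift u (M a)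
  map_id : ∀ {V : C} (i : ι V), M (𝟙 (z i)) = 𝟙 (w i)
  map_comp : ∀ {V'' V' V : C} {i'' : ι V''} {i' : ι V'} {i : ι V} (a : z i'' ⟶ z i') (b : z i' ⟶ z i),
    M (a ≫ b) = M a ≫ M b
  bij : ∀ {V' V : C} {i' : ι V'} {i : ι V}, Function.Bijective (M : (z i' ⟶ z i) → (w i' ⟶ w i))

variable {𝒳 𝒴} (D : Data 𝒳 𝒴) (h𝒳 : FibCat.IsFibGrpd 𝒳.p) (h𝒴 : FibCat.IsFibGrpd 𝒴.p)

/-- The morphisms to the base of `x` along which `x` is a member of the family. -/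
def sieve (x : 𝒳.obj) (U : C) : Sieve U where
  arrows V f := ∃ (i : D.ι V) (t : D.z i ⟶ x), 𝒳.p.IsHomLift f t
  downward_closed := by
    rintro V W f ⟨i, t, ht⟩ g
    obtain ⟨i', a, ha⟩ := D.ex g i
    exact ⟨i', a ≫ t, inferInstance⟩

/-- An object of the second category glued from the local identifications of `x`. -/
structure Img (x : 𝒳.obj) where
  y : 𝒴.obj
  hy : 𝒴.p.obj y = 𝒳.p.obj x
  τ : ∀ {V : C} {i : D.ι V}, (D.z i ⟶ x) → (D.w i ⟶ y)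
  lifts : ∀ {V : C} (f : V ⟶ 𝒳.p.obj x) {i : D.ι V} (t : D.z i ⟶ x),
    𝒳.p.IsHomLift f t → 𝒴.p.IsHomLift f (τ t)
  nat : ∀ {V' V : C} {i' : D.ι V'} {i : D.ι V} (a : D.z i' ⟶ D.z i) (t : D.z i ⟶ x),
    τ (a ≫ t) = D.M a ≫ τ t

theorem base_eq {a b : 𝒳.obj} {V W : C} {f f' : V ⟶ W} {φ : a ⟶ b} (h : 𝒳.p.IsHomLift f φ)
    (h' : 𝒳.p.IsHomLift f' φ) : f = f' := by
  rw [IsHomLift.fac 𝒳.p f φ, IsHomLift.fac 𝒳.p f' φ]

theorem exists_base {x : 𝒳.obj} {V : C} {i : D.ι V} (t : D.z i ⟶ x) :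
    ∃ f : V ⟶ 𝒳.p.obj x, 𝒳.p.IsHomLift f t :=
  ⟨eqToHom (D.hz i).symm ≫ 𝒳.p.map t, IsHomLift.of_fac' _ _ _ (D.hz i) rfl (by simp)⟩

include h𝒳

/-- Every object has an image. -/
theorem exists_img (J : GrothendieckTopology C) (hY : Stk.IsStack J 𝒴) (x : 𝒳.obj)
    (hl : sieve D x (𝒳.p.obj x) ∈ J (𝒳.p.obj x)) : Nonempty (Img D x) := by
  let R := sieve D x (𝒳.p.obj x)
  choose ia t ht using fun a : (Stk.sieveCat R).obj => a.property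
  have ex : ∀ {a b : (Stk.sieveCat R).obj} (m : a ⟶ b),
      ∃ k : D.z (ia a) ⟶ D.z (ia b), 𝒳.p.IsHomLift m.hom.left k ∧ k ≫ t b = t a := by
    intro a b m
    have := cart h𝒳 (t b) (ht b)
    have := ht a
    obtain ⟨ν, hν⟩ := (IsStronglyCartesian.universal_property 𝒳.p b.obj.hom (t b) m.hom.left a.obj.hom
      (Over.w m.hom).symm (t a)).exists
    exact ⟨ν, hν⟩
  choose k hk hke using @ex
  let H₀ : (Stk.sieveCat R).obj ⥤ 𝒴.obj :=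
    { obj := fun a => D.w (ia a)
      map := fun m => D.M (k m)
      map_id := fun a => by
        refine (congrArg D.M ?_).trans (D.map_id _)
        exact ext_lift h𝒳 (t a) (ht a) (g := 𝟙 a.obj.left) (hk (𝟙 a)) (IsHomLift.id (D.hz _))
          ((hke _).trans (Category.id_comp _).symm)
      map_comp := fun {a b c} m n => by
        rw [← D.map_comp]
        refine congrArg D.M ?_
        have := hk m
        have := hk n
        refine ext_lift h𝒳 (t c) (ht c) (g := m.hom.left ≫ n.hom.left) (hk (m ≫ n)) inferInstance ?_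
        rw [hke, Category.assoc, hke, hke] }
  let H : Stk.sieveCat R ⥤ᵇ 𝒴 :=
    { toFunctor := H₀
      w := CategoryTheory.Functor.ext (fun a => D.hw (ia a)) (fun a b m => by
        have : 𝒴.p.IsHomLift m.hom.left (D.M (k m)) := D.lifts _ _ (hk m)
        exact IsHomLift.fac' 𝒴.p m.hom.left (D.M (k m))) }
  obtain ⟨g⟩ := ((isStackFor_iff hY.1).mp (hY.2 R hl)).2.2 H
  -- the arrow of the sieve carried by a local identification
  have hθ : ∀ {V : C} {i : D.ι V} (s : D.z i ⟶ x), ∃ (a : (Stk.sieveCat R).obj) (θ : D.z i ⟶ D.z (ia a)),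
      θ ≫ t a = s ∧ ∀ f : V ⟶ 𝒳.p.obj x, 𝒳.p.IsHomLift f s →
      ∃ u : V ⟶ a.obj.left, u ≫ a.obj.hom = f ∧ 𝒳.p.IsHomLift u θ := by
    intro V i s
    obtain ⟨f, hf⟩ := exists_base D s
    let a : (Stk.sieveCat R).obj := StackLocal.arr f ⟨i, s, hf⟩
    obtain ⟨θ, hθ, e⟩ := exists_factor (f := f) h𝒳 (t a) (ht a) s hf
    refine ⟨a, θ, e, fun f' hf' => ⟨𝟙 _, ?_, hθ⟩⟩
    rw [Category.id_comp]
    exact base_eq hf hf'
  choose A θ eθ lθ using @hθ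
  refine ⟨{ y := g.pt, hy := g.proj, τ := fun {V i} s => D.M (θ s) ≫ g.ι (A s)
            lifts := fun {V} f {i} s hs => ?_, nat := fun {V' V i' i} a s => ?_ }⟩
  · obtain ⟨u, rfl, hu⟩ := lθ s f hs
    have := D.lifts _ _ hu
    have := g.lifts (A s)
    infer_instance
  · obtain ⟨f, hf⟩ := exists_base D s
    obtain ⟨u, hu, hl⟩ := lθ s f hf
    obtain ⟨f', hf'⟩ := exists_base D (a ≫ s)
    obtain ⟨u', hu', hl'⟩ := lθ (a ≫ s) f' hf'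
    obtain ⟨v, hv⟩ : ∃ v : V' ⟶ V, 𝒳.p.IsHomLift v a :=
      ⟨eqToHom (D.hz i').symm ≫ 𝒳.p.map a ≫ eqToHom (D.hz i), IsHomLift.of_fac' _ _ _ (D.hz i') (D.hz i)
        (by simp)⟩
    have ef : v ≫ f = f' := base_eq (inferInstanceAs (𝒳.p.IsHomLift (v ≫ f) (a ≫ s))) hf'
    let c : (Stk.sieveCat R).obj := StackLocal.arr f' ⟨i', a ≫ s, hf'⟩
    let m : c ⟶ A s := ObjectProperty.homMk (Over.homMk (v ≫ u) (by
      rw [Category.assoc, hu]; exact ef))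
    let m' : c ⟶ A (a ≫ s) := ObjectProperty.homMk (Over.homMk u' hu')
    obtain ⟨θc, hθc, eθc⟩ := exists_factor (f := f') h𝒳 (t c) (ht c) (a ≫ s) hf'
    have k1 : θc ≫ k m = a ≫ θ s := by
      have : 𝒳.p.IsHomLift (v ≫ u) (k m) := hk m
      refine ext_lift h𝒳 (t (A s)) (ht (A s)) (g := v ≫ u) ?_ inferInstance ?_
      · exact IsHomLift.comp_lift_id_left' 𝒳.p V' θc (v ≫ u) (k m)
      · rw [Category.assoc, hke, eθc, Category.assoc, eθ]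
    have k2 : θc ≫ k m' = θ (a ≫ s) := by
      have : 𝒳.p.IsHomLift u' (k m') := hk m'
      refine ext_lift h𝒳 (t (A (a ≫ s))) (ht _) (g := u') ?_ hl' ?_
      · exact IsHomLift.comp_lift_id_left' 𝒳.p V' θc u' (k m')
      · rw [Category.assoc, hke, eθc, eθ]
    have w1 : D.M (k m) ≫ g.ι (A s) = g.ι c := g.w m
    have w2 : D.M (k m') ≫ g.ι (A (a ≫ s)) = g.ι c := g.w m'
    rw [← k2, D.map_comp, Category.assoc, w2, ← w1, ← Category.assoc, ← D.map_comp, k1, D.map_comp,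
      Category.assoc]

variable {D}

/-- Local identifications are carried injectively. -/
theorem Img.injective {x : 𝒳.obj} (I : Img D x) {V : C} {i : D.ι V} {f : V ⟶ 𝒳.p.obj x} {s t : D.z i ⟶ x}
    (hs : 𝒳.p.IsHomLift f s) (ht : 𝒳.p.IsHomLift f t) (h𝒴 : FibCat.IsFibGrpd 𝒴.p)
    (e : I.τ s = I.τ t) : s = t := by
  obtain ⟨θ, hθ, rfl⟩ := exists_factor h𝒳 t ht s hs
  rw [I.nat] at e
  have h1 := D.lifts _ θ hθ
  have e1 : D.M θ = 𝟙 (D.w i) :=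
    ext_lift h𝒴 (I.τ t) (I.lifts f t ht) (g := 𝟙 V) h1 (IsHomLift.id (D.hw i))
      (e.trans (Category.id_comp _).symm)
  rw [← D.map_id] at e1
  rw [D.bij.1 e1, Category.id_comp]

include h𝒴

/-- The image of a morphism is unique and exists. -/
theorem existsUnique_hom (J : GrothendieckTopology C) (hY : Stk.IsStack J 𝒴) {x' x : 𝒳.obj}
    (hl : sieve D x' (𝒳.p.obj x') ∈ J (𝒳.p.obj x')) (I' : Img D x') (I : Img D x) (b : x' ⟶ x) :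
    ∃! c : I'.y ⟶ I.y, 𝒴.p.IsHomLift (𝒳.p.map b) c ∧
      ∀ {V : C} {i : D.ι V} (t : D.z i ⟶ x'), I'.τ t ≫ c = I.τ (t ≫ b) := by
  obtain ⟨hS, hG, -⟩ := (isStackFor_iff hY.1).mp (hY.2 _ hl)
  have hb : 𝒳.p.IsHomLift (𝒳.p.map b) b := IsHomLift.map 𝒳.p b
  obtain ⟨y', q, hq⟩ := exists_lift h𝒴 I.hy (𝒳.p.map b)
  have hy' : 𝒴.p.obj y' = 𝒳.p.obj x' := IsHomLift.domain_eq 𝒴.p (𝒳.p.map b) q
  have key : ∀ ⦃V : C⦄ (f : V ⟶ 𝒳.p.obj x') (hf : sieve D x' _ f) ⦃z : 𝒴.obj⦄ (ψ : z ⟶ I'.y),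
      𝒴.p.IsHomLift f ψ → ∃ m : z ⟶ y', 𝒴.p.IsHomLift f m ∧
        ∀ {i : D.ι V} (t : D.z i ⟶ x'), 𝒳.p.IsHomLift f t → ∀ θ : z ⟶ D.w i, 𝒴.p.IsHomLift (𝟙 V) θ →
          θ ≫ I'.τ t = ψ → m ≫ q = θ ≫ I.τ (t ≫ b) := by
    intro V f hf z ψ hψ
    obtain ⟨i₀, t₀, ht₀⟩ := hf
    have := I'.lifts f t₀ ht₀
    obtain ⟨θ₀, hθ₀, eθ₀⟩ := exists_factor h𝒴 (I'.τ t₀) this ψ hψ
    have l1 : 𝒴.p.IsHomLift (f ≫ 𝒳.p.map b) (θ₀ ≫ I.τ (t₀ ≫ b)) := by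
      have := I.lifts (f ≫ 𝒳.p.map b) (t₀ ≫ b) inferInstance
      infer_instance
    have := cart h𝒴 q hq
    refine ⟨IsStronglyCartesian.map 𝒴.p (𝒳.p.map b) q (g := f) rfl (θ₀ ≫ I.τ (t₀ ≫ b)),
      IsStronglyCartesian.map_isHomLift _ _ _ _ _, fun {i} t ht θ hθ eθ => ?_⟩
    rw [IsStronglyCartesian.fac]
    obtain ⟨α, hα, rfl⟩ := exists_factor h𝒳 t₀ ht₀ t ht
    have := D.lifts _ α hα
    have e : θ₀ = θ ≫ D.M α := by
      refine ext_lift h𝒴 (I'.τ t₀) (I'.lifts f t₀ ht₀) (g := 𝟙 V) hθ₀ inferInstance ?_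
      rw [eθ₀, Category.assoc, ← I'.nat, eθ]
    rw [e, Category.assoc, ← I.nat, Category.assoc]
  choose m hm hme using key
  obtain ⟨c, hc, hcf⟩ := hG I'.hy hy' m ⟨hm, fun V f hf z ψ hψ V' g z' ρ hρ hψ' => by
    have := hm f hf ψ hψ
    refine ext_lift h𝒴 q hq (g := g ≫ f) (hm _ _ _ hψ') inferInstance ?_
    obtain ⟨i, t, ht⟩ := hf
    obtain ⟨i', α, hα⟩ := D.ex g i
    have := D.lifts _ α hα
    obtain ⟨θ, hθ, eθ⟩ := exists_factor h𝒴 (I'.τ t) (I'.lifts f t ht) ψ hψ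
    have := cart h𝒴 (f := g) (D.M α) inferInstance
    let θ' := IsStronglyCartesian.map 𝒴.p g (D.M α) (g := 𝟙 V') (Category.id_comp g).symm (ρ ≫ θ)
    have hθ' : 𝒴.p.IsHomLift (𝟙 V') θ' := IsStronglyCartesian.map_isHomLift _ _ _ _ _
    have eθ' : θ' ≫ D.M α = ρ ≫ θ := IsStronglyCartesian.fac _ _ _ _ _
    rw [hme (g ≫ f) _ (ρ ≫ ψ) hψ' (α ≫ t) inferInstance θ' hθ'
      (by rw [I'.nat, reassoc_of% eθ', eθ]), Category.assoc ρ]
    erw [hme f ⟨i, t, ht⟩ ψ hψ t ht θ hθ eθ]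
    rw [Category.assoc α, I.nat, reassoc_of% eθ']⟩
  have hτ : ∀ {V : C} {i : D.ι V} (t : D.z i ⟶ x'), I'.τ t ≫ c ≫ q = I.τ (t ≫ b) := by
    intro V i t
    obtain ⟨f, hf⟩ := exists_base D t
    rw [← Category.assoc, hcf f ⟨i, t, hf⟩ (I'.τ t) (I'.lifts f t hf),
      hme f ⟨i, t, hf⟩ (I'.τ t) (I'.lifts f t hf) t hf (𝟙 _) (IsHomLift.id (D.hw i)) (Category.id_comp _),
      Category.id_comp]
  refine ⟨c ≫ q, ⟨inferInstance, hτ⟩, fun c' ⟨hc', hc'τ⟩ => ?_⟩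
  obtain ⟨ν, hν, rfl⟩ := exists_factor h𝒴 q hq c' hc'
  refine congrArg (fun e => e ≫ q) (hS ν c hν hc fun V f hf z ψ hψ => ?_)
  obtain ⟨i, t, ht⟩ := hf
  obtain ⟨θ, hθ, rfl⟩ := exists_factor h𝒴 (I'.τ t) (I'.lifts f t ht) ψ hψ
  have := I'.lifts f t ht
  refine ext_lift h𝒴 q hq (g := f) inferInstance inferInstance ?_
  simp only [Category.assoc]
  rw [hc'τ, hτ]

variable (D)

omit h𝒳 h𝒴 in
/-- Stacks with equivalent dense families are equivalent. -/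
theorem exists_isEquivOver (J : GrothendieckTopology C) (hX : Stk.IsStack J 𝒳) (hY : Stk.IsStack J 𝒴)
    (hlX : ∀ x : 𝒳.obj, sieve D x (𝒳.p.obj x) ∈ J (𝒳.p.obj x))
    (hlY : ∀ y : 𝒴.obj, ∃ R ∈ J (𝒴.p.obj y), ∀ ⦃V : C⦄ (f : V ⟶ 𝒴.p.obj y), R f →
      ∃ (i : D.ι V) (φ : D.w i ⟶ y), 𝒴.p.IsHomLift f φ) :
    ∃ e : 𝒳 ⥤ᵇ 𝒴, FibCat.IsEquivOver e := by
  have h𝒳 := hX.1
  have h𝒴 := hY.1
  have I : ∀ x, Img D x := fun x => (exists_img D h𝒳 J hY x (hlX x)).some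
  choose E hE huniq using fun {x' x : 𝒳.obj} (b : x' ⟶ x) =>
    existsUnique_hom h𝒳 h𝒴 J hY (hlX x') (I x') (I x) b
  have huniq' : ∀ {x' x : 𝒳.obj} (b : x' ⟶ x) (c : (I x').y ⟶ (I x).y),
      𝒴.p.IsHomLift (𝒳.p.map b) c → (∀ {V : C} {i : D.ι V} (t : D.z i ⟶ x'), (I x').τ t ≫ c = (I x).τ (t ≫ b)) →
      E b = c := fun b c h1 h2 => (huniq b c ⟨h1, h2⟩).symm
  let F : 𝒳 ⥤ᵇ 𝒴 :=
    { obj := fun x => (I x).y
      map := fun b => E b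
      map_id := fun x => huniq' (𝟙 x) _ (by rw [𝒳.p.map_id]; exact IsHomLift.id (I x).hy) (fun t => by simp)
      map_comp := fun {a b c} f g => huniq' (f ≫ g) _ (by
          have := (hE f).1
          have := (hE g).1
          rw [𝒳.p.map_comp]; infer_instance) (fun t => by
          rw [← Category.assoc, (hE f).2, (hE g).2, Category.assoc])
      w := CategoryTheory.Functor.ext (fun x => (I x).hy) fun a b f => by
        have := (hE f).1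
        exact IsHomLift.fac' 𝒴.p (𝒳.p.map f) (E f) }
  have hFf : F.toFunctor.Faithful := by
    refine StackLocal.faithful_of_vertical F h𝒳 h𝒴 fun x θ hθ e => ?_
    obtain ⟨hS, -, -⟩ := (isStackFor_iff hX.1).mp (hX.2 _ (hlX x))
    refine hS θ (𝟙 x) hθ (IsHomLift.id rfl) fun V f hf z ψ hψ => ?_
    obtain ⟨i, t, ht⟩ := hf
    obtain ⟨ν, hν, rfl⟩ := exists_factor h𝒳 t ht ψ hψ
    have e' := (hE θ).2 t
    rw [show E θ = 𝟙 (I x).y from e, Category.comp_id] at e'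
    have := Img.injective h𝒳 (I x) (f := f) ht inferInstance h𝒴 e'
    rw [Category.assoc, Category.comp_id, ← this]
  have hFu : F.toFunctor.Full := by
    refine ⟨fun {x' x} c => ?_⟩
    let g : 𝒳.p.obj x' ⟶ 𝒳.p.obj x := eqToHom (I x').hy.symm ≫ 𝒴.p.map c ≫ eqToHom (I x).hy
    have hc : 𝒴.p.IsHomLift g c := IsHomLift.of_fac' _ _ _ (I x').hy (I x).hy (by simp [g])
    obtain ⟨x₁, q, hq⟩ := exists_lift h𝒳 rfl g
    have hx₁ : 𝒳.p.obj x₁ = 𝒳.p.obj x' := IsHomLift.domain_eq 𝒳.p g q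
    let R := sieve D x' (𝒳.p.obj x') ⊓ (sieve D x (𝒳.p.obj x)).pullback g
    have hR : R ∈ J (𝒳.p.obj x') := J.intersection_covering (hlX x') (J.pullback_stable g (hlX x))
    obtain ⟨-, hG, -⟩ := (isStackFor_iff hX.1).mp (hX.2 R hR)
    have key : ∀ ⦃V : C⦄ (f : V ⟶ 𝒳.p.obj x'), R f → ∀ {i : D.ι V} (t : D.z i ⟶ x'), 𝒳.p.IsHomLift f t →
        ∃ s : D.z i ⟶ x, 𝒳.p.IsHomLift (f ≫ g) s ∧ (I x).τ s = (I x').τ t ≫ c := by
      intro V f hf i t ht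
      obtain ⟨i₀, s₀, hs₀⟩ := hf.2
      have := (I x').lifts f t ht
      obtain ⟨β, hβ, eβ⟩ := exists_factor h𝒴 ((I x).τ s₀) ((I x).lifts (f ≫ g) s₀ hs₀)
        ((I x').τ t ≫ c) inferInstance
      obtain ⟨α, rfl⟩ := D.bij.2 β
      have hα : 𝒳.p.IsHomLift (𝟙 V) α := by
        obtain ⟨v, hv⟩ : ∃ v : V ⟶ V, 𝒳.p.IsHomLift v α :=
          ⟨eqToHom (D.hz i).symm ≫ 𝒳.p.map α ≫ eqToHom (D.hz i₀),
            IsHomLift.of_fac' _ _ _ (D.hz i) (D.hz i₀) (by simp)⟩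
        obtain rfl : v = 𝟙 V := base_eq (D.lifts v α hv) hβ
        exact hv
      exact ⟨α ≫ s₀, inferInstance, by rw [(I x).nat, eβ]⟩
    have key' : ∀ ⦃V : C⦄ (f : V ⟶ 𝒳.p.obj x'), R f → ∀ ⦃z : 𝒳.obj⦄ (ψ : z ⟶ x'),
        𝒳.p.IsHomLift f ψ → ∃ m : z ⟶ x₁, 𝒳.p.IsHomLift f m ∧
          ∀ {i : D.ι V} (a : D.z i ⟶ z), 𝒳.p.IsHomLift (𝟙 V) a → (I x).τ (a ≫ m ≫ q) = (I x').τ (a ≫ ψ) ≫ c := by
      intro V f hf z ψ hψ
      obtain ⟨i₀, t₀, ht₀⟩ := hf.1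
      obtain ⟨θ, hθ, rfl⟩ := exists_factor h𝒳 t₀ ht₀ ψ hψ
      obtain ⟨s, hs, es⟩ := key f hf t₀ ht₀
      have := cart h𝒳 q hq
      refine ⟨θ ≫ IsStronglyCartesian.map 𝒳.p g q (g := f) rfl s, inferInstance, fun {i} a ha => ?_⟩
      rw [Category.assoc, IsStronglyCartesian.fac, ← Category.assoc, (I x).nat, ← Category.assoc a θ,
        (I x').nat, Category.assoc, es]
    choose m hm hme using key'
    obtain ⟨b, hb, hbm⟩ := hG rfl hx₁ m ⟨hm, fun V f hf z ψ hψ V' v z' ρ hρ hψ' => by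
      have := hm f hf ψ hψ
      refine ext_lift h𝒳 q hq (g := v ≫ f) (hm _ _ _ hψ') inferInstance ?_
      obtain ⟨i₀, t₀, ht₀⟩ := (R.downward_closed hf v).1
      obtain ⟨θ₀, hθ₀, eθ₀⟩ := exists_factor h𝒳 t₀ ht₀ (ρ ≫ ψ) hψ'
      have := isIso_of_vertical h𝒳 θ₀ hθ₀
      obtain ⟨i₁, t₁, ht₁⟩ := hf.1
      obtain ⟨θ₁, hθ₁, eθ₁⟩ := exists_factor h𝒳 t₁ ht₁ ψ hψ
      have := isIso_of_vertical h𝒳 θ₁ hθ₁
      have := hm (v ≫ f) (R.downward_closed hf v) _ hψ'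
      refine (cancel_epi (inv θ₀)).1 (Img.injective h𝒳 (I x) (f := (v ≫ f) ≫ g) inferInstance
        inferInstance h𝒴 ?_)
      have e1 : inv θ₀ ≫ ρ ≫ m f hf ψ hψ ≫ q =
          (inv θ₀ ≫ ρ ≫ θ₁) ≫ (inv θ₁ ≫ m f hf ψ hψ ≫ q) := by simp
      have e2 : inv θ₀ ≫ ρ ≫ ψ = (inv θ₀ ≫ ρ ≫ θ₁) ≫ (inv θ₁ ≫ ψ) := by simp
      rw [hme _ _ _ hψ' (inv θ₀) inferInstance, Category.assoc, e1, (I x).nat,
        hme f hf ψ hψ (inv θ₁) inferInstance, e2, (I x').nat, Category.assoc]⟩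
    refine ⟨b ≫ q, ?_⟩
    have hcq : 𝒳.p.IsHomLift g (b ≫ q) := inferInstance
    have hg : g = 𝒳.p.map (b ≫ q) := by simpa using (IsHomLift.fac' 𝒳.p g (b ≫ q)).symm
    -- compare on the refined sieve
    obtain ⟨hSY, -, -⟩ := (isStackFor_iff hY.1).mp (hY.2 R hR)
    have hEb : 𝒴.p.IsHomLift g (E (b ≫ q)) := hg ▸ (hE (b ≫ q)).1
    obtain ⟨y₁, r, hr⟩ := exists_lift h𝒴 (I x).hy g
    obtain ⟨c₁, hc₁, ec₁⟩ := exists_factor h𝒴 r hr c hc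
    obtain ⟨c₂, hc₂, ec₂⟩ := exists_factor h𝒴 r hr (E (b ≫ q)) hEb
    change E (b ≫ q) = c
    rw [← ec₁, ← ec₂]
    refine congrArg (fun e => e ≫ r) (hSY c₂ c₁ hc₂ hc₁ fun V f hf z ψ hψ => ?_)
    obtain ⟨i, t, ht⟩ := hf.1
    have hτ := (I x').lifts f t ht
    obtain ⟨θ, hθ, rfl⟩ := exists_factor h𝒴 ((I x').τ t) hτ ψ hψ
    refine ext_lift h𝒴 r hr (g := f) inferInstance inferInstance ?_
    simp only [Category.assoc]
    rw [ec₁, ec₂, (hE (b ≫ q)).2 t]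
    have e3 := hme f hf t ht (𝟙 _) (IsHomLift.id (D.hz i))
    rw [← hbm f hf t ht] at e3
    simp only [Category.id_comp, Category.assoc] at e3
    rw [e3]
  refine ⟨F, EquivOver.isEquivOver_of_ff_essSurj F (StackLocal.essSurjOver_of_locally F J hX hY
    fun y => ?_)⟩
  obtain ⟨R, hR, hl⟩ := hlY y
  refine ⟨R, hR, fun V f hf => ?_⟩
  obtain ⟨i, φ, hφ⟩ := hl f hf
  refine ⟨D.z i, ?_⟩
  have hid : 𝒳.p.IsHomLift (eqToHom (D.hz i).symm) (𝟙 (D.z i)) :=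
    IsHomLift.of_fac' _ _ _ (D.hz i) rfl (by simp)
  have := (I (D.z i)).lifts (eqToHom (D.hz i).symm) (𝟙 _) hid
  have hl' : 𝒴.p.IsHomLift (𝟙 V) ((I (D.z i)).τ (𝟙 (D.z i))) :=
    IsHomLift.of_fac' _ _ _ (D.hw i) ((I (D.z i)).hy.trans (D.hz i)) (by
      rw [IsHomLift.fac' 𝒴.p (eqToHom (D.hz i).symm) ((I (D.z i)).τ (𝟙 _))]; simp)
  have := isIso_of_vertical h𝒴 _ hl'
  exact ⟨inv ((I (D.z i)).τ (𝟙 (D.z i))) ≫ φ, inferInstanceAs (𝒴.p.IsHomLift f _)⟩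

end Groth.Agent.Lib.Fibred.DenseExt2
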