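import Groth.Agent.Lib.Fibred.Descent

/-!
# Stack conditions: transfer along functors over the base
-/

set_option autoImplicit false
set_option backward.isDefEq.respectTransparency false
set_option backward.isDefEq.respectTransparency.types false

universe v₂ u₂ v₃ u₃ v u

open CategoryTheory CategoryTheory.Functor Groth.Agent.Lib.Fibred.Basic Groth.Agent.Lib.Fibred.EquivOver
  Groth.Agent.Lib.Fibred.Descent

namespace Groth.Agent.Lib.Fibred.StackLemmas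

variable {C : Type u} [Category.{v} C] {U : C} {R : Sieve U} {𝒳 : BasedCategory.{v₂, u₂} C}
  {𝒴 : BasedCategory.{v₃, u₃} C} (F : 𝒳 ⥤ᵇ 𝒴)

theorem isIso_of_vertical (h : FibCat.IsFibGrpd 𝒳.p) {V : C} {a b : 𝒳.obj} (φ : a ⟶ b)
    (hφ : 𝒳.p.IsHomLift (𝟙 V) φ) : IsIso φ := by
  have := cart h φ hφ
  exact IsStronglyCartesian.isIso_of_base_isIso 𝒳.p (𝟙 V) φ

section MapFam

variable (h𝒳 : FibCat.IsFibGrpd 𝒳.p) (h𝒴 : FibCat.IsFibGrpd 𝒴.p) {ξ η : 𝒳.obj}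
include F h𝒳 h𝒴

/-- A compatible family can be pushed forward. -/
theorem exists_map_fam (hξ : 𝒳.p.obj ξ = U) (c : Fam R 𝒳 ξ η) (hc : c.Compatible) :
    ∃ c' : Fam R 𝒴 (F.obj ξ) (F.obj η), c'.Compatible ∧
      ∀ ⦃V : C⦄ (f : V ⟶ U) (hf : R f) ⦃z : 𝒳.obj⦄ (ψ : z ⟶ ξ) (hψ : 𝒳.p.IsHomLift f ψ)
        (hψ' : 𝒴.p.IsHomLift f (F.map ψ)), c' f hf (F.map ψ) hψ' = F.map (c f hf ψ hψ) := by
  choose z₀ ψ₀ hψ₀ using fun {V : C} (f : V ⟶ U) => exists_lift h𝒳 hξ f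
  have hF : ∀ {V : C} (f : V ⟶ U), 𝒴.p.IsHomLift f (F.map (ψ₀ f)) := fun f =>
    haveI := hψ₀ f; inferInstance
  choose θ hθ hθe using fun {V : C} (f : V ⟶ U) {z : 𝒴.obj} (ψ : z ⟶ F.obj ξ) (hψ : 𝒴.p.IsHomLift f ψ) =>
    exists_factor h𝒴 _ (hF f) ψ hψ
  let c' : Fam R 𝒴 (F.obj ξ) (F.obj η) := fun V f hf z ψ hψ => θ f ψ hψ ≫ F.map (c f hf (ψ₀ f) (hψ₀ f))
  refine ⟨c', ⟨fun V f hf z ψ hψ => ?_, fun V f hf z ψ hψ V' g z' ρ hρ hψ' => ?_⟩, fun V f hf z ψ hψ hψ' => ?_⟩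
  · have := hθ f ψ hψ
    have := hc.lifts f hf (ψ₀ f) (hψ₀ f)
    change 𝒴.p.IsHomLift f (θ f ψ hψ ≫ F.map (c f hf (ψ₀ f) (hψ₀ f)))
    infer_instance
  · change θ (g ≫ f) _ hψ' ≫ F.map (c (g ≫ f) _ _ _) = ρ ≫ θ f ψ hψ ≫ F.map (c f hf _ _)
    obtain ⟨ν, hν, hνe⟩ : ∃ ν : z₀ (g ≫ f) ⟶ z₀ f, 𝒳.p.IsHomLift g ν ∧ ν ≫ ψ₀ f = ψ₀ (g ≫ f) := by
      have := cart h𝒳 (ψ₀ f) (hψ₀ f)
      have := hψ₀ (g ≫ f)
      exact (IsStronglyCartesian.universal_property 𝒳.p f (ψ₀ f) g (g ≫ f) rfl (ψ₀ (g ≫ f))).exists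
    have e1 : c (g ≫ f) (R.downward_closed hf g) (ψ₀ (g ≫ f)) (hψ₀ (g ≫ f)) = ν ≫ c f hf (ψ₀ f) (hψ₀ f) := by
      have := hψ₀ f
      rw [← hc.comp f hf (ψ₀ f) (hψ₀ f) g ν hν inferInstance]
      exact Fam.Compatible.congr rfl _ _ hνe.symm _ _
    have e2 : θ (g ≫ f) (ρ ≫ ψ) hψ' ≫ F.map ν = ρ ≫ θ f ψ hψ := by
      have := hθ (g ≫ f) (ρ ≫ ψ) hψ'
      have := hθ f ψ hψ
      refine ext_lift h𝒴 _ (hF f) (g := g) inferInstance inferInstance ?_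
      rw [Category.assoc, ← F.toFunctor.map_comp, hνe, hθe, Category.assoc, hθe]
    rw [e1, F.toFunctor.map_comp, reassoc_of% e2]
  · change θ f (F.map ψ) hψ' ≫ F.map (c f hf (ψ₀ f) (hψ₀ f)) = F.map (c f hf ψ hψ)
    obtain ⟨ν, hν, hνe⟩ := exists_factor h𝒳 _ (hψ₀ f) ψ hψ
    have e2 : θ f (F.map ψ) hψ' = F.map ν := by
      refine ext_lift h𝒴 _ (hF f) (hθ f (F.map ψ) hψ') (haveI := hν; inferInstance) ?_
      rw [hθe, ← F.toFunctor.map_comp, hνe]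
    have := hψ₀ f
    rw [e2, ← F.toFunctor.map_comp, ← hc.comp f hf (ψ₀ f) (hψ₀ f) (𝟙 V) ν hν inferInstance]
    exact congrArg F.map (Fam.Compatible.congr (Category.id_comp f) _ _ hνe _ _)

end MapFam

variable [F.toFunctor.Full] [F.toFunctor.Faithful] (h𝒳 : FibCat.IsFibGrpd 𝒳.p) (h𝒴 : FibCat.IsFibGrpd 𝒴.p)

include F h𝒳 h𝒴

include F
omit [F.toFunctor.Full] in
/-- Separation descends along a faithful functor. -/
theorem sep_of_faithful (hS : Sep R 𝒴) : Sep R 𝒳 := by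
  intro ξ η a b ha hb hab
  refine F.toFunctor.map_injective (hS (F.map a) (F.map b) inferInstance inferInstance fun V f hf z ψ hψ => ?_)
  obtain ⟨z₀, ψ₀, hψ₀⟩ := exists_lift h𝒳 (IsHomLift.domain_eq 𝒳.p (𝟙 U) a : 𝒳.p.obj ξ = U) f
  obtain ⟨θ, -, rfl⟩ := exists_factor h𝒴 (F.map ψ₀) inferInstance ψ hψ
  rw [Category.assoc, Category.assoc, ← F.toFunctor.map_comp, ← F.toFunctor.map_comp, hab f hf ψ₀ hψ₀]

/-- Gluing of morphisms descends along a fully faithful functor. -/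
theorem glueHom_of_ff (hG : GlueHom R 𝒴) : GlueHom R 𝒳 := by
  intro ξ η hξ hη c hc
  obtain ⟨c', hc', hcc'⟩ := exists_map_fam F h𝒳 h𝒴 hξ c hc
  obtain ⟨a', ha', hae⟩ := hG (by rw [F.w_obj, hξ]) (by rw [F.w_obj, hη]) c' hc'
  obtain ⟨a, rfl⟩ := F.toFunctor.map_surjective a'
  refine ⟨a, (F.isHomLift_iff (𝟙 U) a).mp ha', fun V f hf z ψ hψ => F.toFunctor.map_injective ?_⟩
  rw [F.toFunctor.map_comp, hae f hf (F.map ψ) inferInstance, hcc' f hf ψ hψ]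

omit h𝒳 h𝒴 in
/-- Gluing of objects descends along a fully faithful essentially surjective functor. -/
theorem glueObj_of_essSurj (hE : EssSurjOver F) (hG : GlueObj R 𝒴) : GlueObj R 𝒳 := by
  intro H
  obtain ⟨⟨η, hη, ι, hι, hw⟩⟩ := hG (BasedFunctor.comp H F)
  obtain ⟨ξ, e, he⟩ := hE η
  have hξ : 𝒳.p.obj ξ = U := by
    rw [← F.w_obj ξ, IsHomLift.domain_eq 𝒴.p (𝟙 (𝒴.p.obj η)) e.hom, hη]
  have he' : 𝒴.p.IsHomLift (𝟙 U) e.inv := by
    have : 𝒴.p.IsHomLift (𝟙 U) e.hom := hη ▸ he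
    infer_instance
  choose φ hφ using fun a : (Stk.sieveCat R).obj => F.toFunctor.map_surjective (ι a ≫ e.inv)
  refine ⟨⟨ξ, hξ, φ, fun a => (F.isHomLift_iff a.obj.hom (φ a)).mp ?_, fun a b m => F.toFunctor.map_injective ?_⟩⟩
  · rw [hφ]
    have := hι a
    infer_instance
  · rw [F.toFunctor.map_comp, hφ, hφ]
    have := hw m
    change F.map (H.map m) ≫ ι b = ι a at this
    rw [reassoc_of% this]

omit [F.toFunctor.Full] [F.toFunctor.Faithful]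

/-- The prestack condition descends along an equivalence. -/
theorem isPrestackFor_of_isEquivOver (hF : FibCat.IsEquivOver F) (hp : Stk.IsPrestackFor R 𝒴) :
    Stk.IsPrestackFor R 𝒳 := by
  have := full_of_isEquivOver hF
  have := faithful_of_isEquivOver hF
  rw [isPrestackFor_iff h𝒴] at hp
  exact (isPrestackFor_iff h𝒳).2 ⟨sep_of_faithful F h𝒳 h𝒴 hp.1, glueHom_of_ff F h𝒳 h𝒴 hp.2⟩

/-- The stack condition descends along an equivalence. -/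
theorem isStackFor_of_isEquivOver (hF : FibCat.IsEquivOver F) (hp : Stk.IsStackFor R 𝒴) :
    Stk.IsStackFor R 𝒳 := by
  have := full_of_isEquivOver hF
  have := faithful_of_isEquivOver hF
  rw [isStackFor_iff h𝒴] at hp
  exact (isStackFor_iff h𝒳).2 ⟨sep_of_faithful F h𝒳 h𝒴 hp.1, glueHom_of_ff F h𝒳 h𝒴 hp.2.1,
    glueObj_of_essSurj F (essSurjOver_of_isEquivOver hF) hp.2.2⟩

omit h𝒳 h𝒴

/-- Prestacks are invariant under equivalence. -/
theorem isPrestack_iff_of_isEquivOver (J : GrothendieckTopology C) (hF : FibCat.IsEquivOver F) :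
    Stk.IsPrestack J 𝒳 ↔ Stk.IsPrestack J 𝒴 := by
  obtain ⟨G, hG, -⟩ := isEquivOver_inverse hF
  constructor
  · rintro ⟨hg, hp⟩
    exact ⟨grpd_target hF hg, fun U R hR => isPrestackFor_of_isEquivOver G (grpd_target hF hg) hg hG (hp R hR)⟩
  · rintro ⟨hg, hp⟩
    exact ⟨grpd_target hG hg, fun U R hR => isPrestackFor_of_isEquivOver F (grpd_target hG hg) hg hF (hp R hR)⟩

/-- Stacks are invariant under equivalence. -/
theorem isStack_iff_of_isEquivOver (J : GrothendieckTopology C) (hF : FibCat.IsEquivOver F) :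
    Stk.IsStack J 𝒳 ↔ Stk.IsStack J 𝒴 := by
  obtain ⟨G, hG, -⟩ := isEquivOver_inverse hF
  constructor
  · rintro ⟨hg, hp⟩
    exact ⟨grpd_target hF hg, fun U R hR => isStackFor_of_isEquivOver G (grpd_target hF hg) hg hG (hp R hR)⟩
  · rintro ⟨hg, hp⟩
    exact ⟨grpd_target hG hg, fun U R hR => isStackFor_of_isEquivOver F (grpd_target hG hg) hg hF (hp R hR)⟩

end Groth.Agent.Lib.Fibred.StackLemmas
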