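import Groth.Prelude.Def_FibCat2
import Mathlib.CategoryTheory.FiberedCategory.Fibered

/-!
# Basic facts about categories fibred in groupoids / setoids / sets
-/

set_option autoImplicit false
set_option backward.isDefEq.respectTransparency false
set_option backward.isDefEq.respectTransparency.types false

universe v₂ u₂ v u

open CategoryTheory CategoryTheory.Functor

namespace Groth.Agent.Lib.Fibred.Basic

variable {C : Type u} [Category.{v} C] {𝒳 : Type u₂} [Category.{v₂} 𝒳] (p : 𝒳 ⥤ C)

/-- A morphism lying over an identity has image an isomorphism. -/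
theorem isIso_map_of_lift_id {a b : 𝒳} (U : C) (φ : a ⟶ b) [p.IsHomLift (𝟙 U) φ] : IsIso (p.map φ) := by
  rw [IsHomLift.fac' p (𝟙 U) φ]
  infer_instance

/-- Two lifts of the same morphism have the same image. -/
theorem map_eq_of_isHomLift {a b : 𝒳} {R S : C} (f : R ⟶ S) (φ ψ : a ⟶ b)
    [p.IsHomLift f φ] [p.IsHomLift f ψ] : p.map φ = p.map ψ := by
  rw [IsHomLift.fac' p f φ, IsHomLift.fac' p f ψ]

/-- A morphism with the same image as a lift of `f` is a lift of `f`. -/
theorem isHomLift_of_map_eq {a b : 𝒳} {R S : C} (f : R ⟶ S) (φ ψ : a ⟶ b) [p.IsHomLift f φ]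
    (h : p.map ψ = p.map φ) : p.IsHomLift f ψ := by
  obtain rfl := IsHomLift.domain_eq p f φ
  obtain rfl := IsHomLift.codomain_eq p f φ
  obtain rfl := IsHomLift.eq_of_isHomLift p f φ
  rw [← h]; infer_instance

/-- The lift of the identity by a composite, cancelled on the right. -/
theorem isHomLift_of_comp_iso {a b c : 𝒳} {R S : C} (f : R ⟶ S) (φ : a ⟶ b) (e : b ≅ c)
    [p.IsHomLift (𝟙 S) e.hom] [p.IsHomLift f (φ ≫ e.hom)] : p.IsHomLift f φ := by
  have : p.IsHomLift f ((φ ≫ e.hom) ≫ e.inv) := inferInstance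
  simpa using this

section StronglyCartesian

variable {R S : C} {a b : 𝒳}

/-- Strong cartesianness only depends on the morphism, not on the base morphism it is said to lie over. -/
theorem isStronglyCartesian_self (f : R ⟶ S) (φ : a ⟶ b) [p.IsStronglyCartesian f φ] :
    p.IsStronglyCartesian (p.map φ) φ := by
  obtain rfl := IsHomLift.domain_eq p f φ
  obtain rfl := IsHomLift.codomain_eq p f φ
  obtain rfl := IsHomLift.eq_of_isHomLift p f φ
  infer_instance

/-- Strong cartesianness only depends on the morphism, not on the base morphism it is said to lie over. -/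
theorem isStronglyCartesian_of_self (f : R ⟶ S) (φ : a ⟶ b) [p.IsHomLift f φ]
    [p.IsStronglyCartesian (p.map φ) φ] : p.IsStronglyCartesian f φ := by
  obtain rfl := IsHomLift.domain_eq p f φ
  obtain rfl := IsHomLift.codomain_eq p f φ
  obtain rfl := IsHomLift.eq_of_isHomLift p f φ
  infer_instance

/-- A cartesian morphism of a fibred category is strongly cartesian over its image. -/
theorem isStronglyCartesian_self_of_isCartesian [p.IsFibered] (f : R ⟶ S) (φ : a ⟶ b)
    [p.IsCartesian f φ] : p.IsStronglyCartesian (p.map φ) φ := by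
  have : p.IsStronglyCartesian f φ := inferInstance
  exact isStronglyCartesian_self p f φ

end StronglyCartesian

section FibGrpd

variable {p}

/-- In a category fibred in groupoids every lift is strongly cartesian. -/
theorem stronglyCartesian_of_grpd (h : FibCat.IsFibGrpd p) {R S : C} (f : R ⟶ S) {a b : 𝒳}
    (φ : a ⟶ b) [p.IsHomLift f φ] : p.IsStronglyCartesian f φ := by
  have := h.isStronglyCartesian φ
  exact isStronglyCartesian_of_self p f φ

/-- Existence of lifts with prescribed target. -/
theorem exists_lift_of_grpd (h : FibCat.IsFibGrpd p) {R S : C} {a : 𝒳} (ha : p.obj a = S)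
    (f : R ⟶ S) : ∃ (b : 𝒳) (φ : b ⟶ a), p.IsStronglyCartesian f φ := by
  subst ha
  obtain ⟨b, φ, hφ⟩ := h.exists_lift f
  exact ⟨b, φ, stronglyCartesian_of_grpd h f φ⟩

/-- A category fibred in groupoids is fibred. -/
theorem isFibered_of_grpd (h : FibCat.IsFibGrpd p) : p.IsFibered :=
  IsFibered.of_exists_isStronglyCartesian fun _ _ f => exists_lift_of_grpd h rfl f

/-- In a category fibred in groupoids a morphism with invertible image is invertible. -/
theorem isIso_of_grpd (h : FibCat.IsFibGrpd p) {a b : 𝒳} (φ : a ⟶ b) [IsIso (p.map φ)] : IsIso φ := by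
  have := h.isStronglyCartesian φ
  exact IsStronglyCartesian.isIso_of_base_isIso p (p.map φ) φ

/-- In a category fibred in groupoids a morphism over an identity is invertible. -/
theorem isIso_of_grpd_lift (h : FibCat.IsFibGrpd p) {a b : 𝒳} (U : C) (φ : a ⟶ b)
    [p.IsHomLift (𝟙 U) φ] : IsIso φ := by
  have := isIso_map_of_lift_id p U φ
  exact isIso_of_grpd h φ

/-- An invertible morphism over an identity is invertible in the fibre category. -/
theorem isIso_fiber {U : C} {a b : p.Fiber U} (φ : a ⟶ b) [IsIso (Fiber.fiberInclusion.map φ)] :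
    IsIso φ :=
  ⟨⟨⟨inv (Fiber.fiberInclusion.map φ), IsHomLift.lift_id_inv_isIso p U _⟩,
    Fiber.hom_ext (IsIso.hom_inv_id (Fiber.fiberInclusion.map φ)),
    Fiber.hom_ext (IsIso.inv_hom_id (Fiber.fiberInclusion.map φ))⟩⟩

/-- An isomorphism over an identity gives an isomorphism of the fibre category. -/
def fiberIso {U : C} {a b : p.Fiber U} (e : a.1 ≅ b.1) (he : p.IsHomLift (𝟙 U) e.hom) : a ≅ b where
  hom := ⟨e.hom, he⟩
  inv := ⟨e.inv, by have := he; infer_instance⟩
  hom_inv_id := Fiber.hom_ext e.hom_inv_id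
  inv_hom_id := Fiber.hom_ext e.inv_hom_id

/-- The fibres of a category fibred in groupoids are groupoids. -/
theorem isGroupoid_fiber_of_grpd (h : FibCat.IsFibGrpd p) (U : C) : IsGroupoid (p.Fiber U) where
  all_isIso φ := by
    have := isIso_of_grpd_lift h U (Fiber.fiberInclusion.map φ)
    exact isIso_fiber φ

/-- A fibred category with groupoid fibres is fibred in groupoids. -/
theorem grpd_of_isFibered [p.IsFibered] (h : ∀ U : C, IsGroupoid (p.Fiber U)) : FibCat.IsFibGrpd p where
  exists_lift {x V} f := by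
    obtain ⟨y, φ, hφ⟩ := IsPreFibered.exists_isCartesian p (rfl : p.obj x = p.obj x) f
    exact ⟨y, φ, inferInstance⟩
  isStronglyCartesian {y x} φ := by
    obtain ⟨z, ψ, hψ⟩ := IsPreFibered.exists_isCartesian p (rfl : p.obj x = p.obj x) (p.map φ)
    let τ := IsCartesian.map p (p.map φ) ψ φ
    have hz : p.obj z = p.obj y := IsHomLift.domain_eq p (p.map φ) ψ
    let Y : p.Fiber (p.obj y) := ⟨y, rfl⟩
    let Z : p.Fiber (p.obj y) := ⟨z, hz⟩
    let τ' : Y ⟶ Z :=
      ⟨τ, IsCartesian.map_isHomLift p (p.map φ) ψ φ⟩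
    have := (h (p.obj y)).all_isIso τ'
    have : IsIso τ := inferInstanceAs (IsIso (Fiber.fiberInclusion.map τ'))
    have h1 : p.IsStronglyCartesian (𝟙 (p.obj y)) τ := IsStronglyCartesian.of_isIso p _ τ
    have h2 : p.IsStronglyCartesian (p.map φ) ψ := inferInstance
    have h3 : p.IsStronglyCartesian (𝟙 (p.obj y) ≫ p.map φ) (τ ≫ ψ) := inferInstance
    simpa [τ] using h3

/-- A faithful functor with lifts and the cartesian property gives fibres with at most one morphism. -/
theorem isThin_fiber_of_faithful [p.Faithful] (U : C) : Quiver.IsThin (p.Fiber U) := fun a b => ⟨fun φ ψ => by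
  apply Fiber.hom_ext
  exact p.map_injective (map_eq_of_isHomLift p (𝟙 U) _ _)⟩

/-- A category fibred in setoids has faithful structure functor. -/
theorem faithful_of_setoid (h : FibCat.IsFibSetoid p) : p.Faithful where
  map_injective {a b φ ψ} e := by
    have := h.1.isStronglyCartesian ψ
    have hl : p.IsHomLift (p.map ψ) φ := isHomLift_of_map_eq p (p.map ψ) ψ φ e
    obtain ⟨χ, ⟨hχ, hχ'⟩, -⟩ :=
      IsStronglyCartesian.universal_property p (p.map ψ) ψ (𝟙 (p.obj a)) (p.map ψ) (by simp) φ
    let A : p.Fiber (p.obj a) := ⟨a, rfl⟩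
    have h1 : (⟨χ, hχ⟩ : A ⟶ A) = 𝟙 A := (h.2 (p.obj a) A A).elim _ _
    have h2 : χ = 𝟙 a := congrArg Subtype.val h1
    rw [← hχ', h2, Category.id_comp]

/-- Fibred in setoids means fibred in groupoids with faithful structure functor. -/
theorem setoid_iff : FibCat.IsFibSetoid p ↔ FibCat.IsFibGrpd p ∧ p.Faithful :=
  ⟨fun h => ⟨h.1, faithful_of_setoid h⟩, fun h => ⟨h.1, fun U => by
    have := h.2; exact isThin_fiber_of_faithful U⟩⟩

/-- Fibred in sets implies fibred in setoids. -/
theorem setoid_of_set (h : FibCat.IsFibSet p) : FibCat.IsFibSetoid p :=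
  ⟨h.1, fun U a b => (h.2 U).subsingleton a b⟩

/-- In a category fibred in sets an isomorphism over an identity joins equal objects. -/
theorem obj_eq_of_set (h : FibCat.IsFibSet p) {U : C} {a b : 𝒳} (φ : a ⟶ b) [p.IsHomLift (𝟙 U) φ] :
    a = b :=
  congrArg Subtype.val ((h.2 U).eq_of_hom (Fiber.homMk p U φ))

end FibGrpd

end Groth.Agent.Lib.Fibred.Basic
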