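import Mathlib.CategoryTheory.Bicategory.Grothendieck
import Mathlib.CategoryTheory.Bicategory.Functor.LocallyDiscrete
import Mathlib.CategoryTheory.FiberedCategory.Grothendieck

/-!
# Grothendieck construction of a strict functor: the coherence cells are identities
-/

set_option autoImplicit false
set_option backward.isDefEq.respectTransparency false
set_option backward.isDefEq.respectTransparency.types false

universe v₂ u₂ v u

open CategoryTheory Opposite

namespace Groth.Agent.Lib.Fibred.CatEqToHom

variable {C : Type u} [Category.{v} C] {F : Cᵒᵖ ⥤ Cat.{v₂, u₂}}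

/-- Components of identities between functors of categories. -/
theorem app_eqToHom {A B : Cat.{v₂, u₂}} {G H : A ⟶ B} (h : G = H) (x : A) :
    (eqToHom h).toNatTrans.app x = eqToHom (congrArg (fun K => K.toFunctor.obj x) h) := by
  subst h
  rfl

/-- The fibre component of a composite in the Grothendieck construction of a strict functor. -/
theorem comp_fiber {a b c : Pseudofunctor.CoGrothendieck F.toPseudofunctor'} (f : a ⟶ b) (g : b ⟶ c) :
    ∃ h, (f ≫ g).fiber = f.fiber ≫ (F.map f.base.op).toFunctor.map g.fiber ≫ eqToHom h := by
  refine ⟨(congrArg (fun K => K.toFunctor.obj c.fiber) (F.map_comp g.base.op f.base.op)).symm, ?_⟩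
  simp only [Pseudofunctor.CoGrothendieck.categoryStruct_comp_fiber, Functor.toPseudofunctor'_mapComp,
    eqToIso.inv]
  rw [app_eqToHom]
  rfl

/-- The fibre component of an identity in the Grothendieck construction of a strict functor. -/
theorem id_fiber (a : Pseudofunctor.CoGrothendieck F.toPseudofunctor') :
    ∃ h, (𝟙 a : a ⟶ a).fiber = eqToHom h := by
  refine ⟨(congrArg (fun K => K.toFunctor.obj a.fiber) (F.map_id (op a.base))).symm, ?_⟩
  simp only [Pseudofunctor.CoGrothendieck.categoryStruct_id_fiber, Functor.toPseudofunctor'_mapId, eqToIso.inv]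
  rw [app_eqToHom]

end Groth.Agent.Lib.Fibred.CatEqToHom
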