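import Groth.Prelude.Def_FibClv
import Groth.Agent.Lib.Fibred.Basic
import Groth.Agent.Lib.Fibred.EquivOver
import Groth.Agent.Lib.Fibred.CatEqToHom

/-!
# Cleavages, normalised cleavages and splittings
-/

set_option autoImplicit false
set_option backward.isDefEq.respectTransparency false
set_option backward.isDefEq.respectTransparency.types false

universe v₁ v₂ v₃ u₁ u₂ u₃

open CategoryTheory CategoryTheory.Functor Opposite Groth.Agent.Lib.Fibred.Basic

namespace Groth.Agent.Lib.Fibred.Cleavage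

variable {𝒮 : Type u₁} {𝒳 : Type u₂} [Category.{v₁} 𝒮] [Category.{v₂} 𝒳] {p : 𝒳 ⥤ 𝒮}
  (K : FibCat.Cleavage p)

/-- The component of the identification of inverse images, followed by a lift. -/
theorem congr_lift {R S : 𝒮} {f f' : R ⟶ S} (h : f = f') (a : p.Fiber S) :
    Fiber.fiberInclusion.map ((K.inverseImageCongr h).hom.app a) ≫ K.lift a.2 f' = K.lift a.2 f := by
  subst h
  change Fiber.fiberInclusion.map ((eqToIso (rfl : K.inverseImage f = K.inverseImage f)).hom.app a) ≫ _ = _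
  simp only [eqToIso_refl, Iso.refl_hom, NatTrans.id_app, CategoryTheory.Functor.map_id]
  exact Category.id_comp _

/-- The comparison morphism followed by a lift. -/
theorem comp_lift {R T S : 𝒮} (f : T ⟶ S) (g : R ⟶ T) (a : p.Fiber S) :
    Fiber.fiberInclusion.map ((K.comp f g).app a) ≫ K.lift a.2 (g ≫ f) =
      K.lift (K.obj_proj a.2 f) g ≫ K.lift a.2 f := by
  rw [FibCat.Cleavage.comp_app]
  exact IsCartesian.fac p (g ≫ f) (K.lift a.2 (g ≫ f)) _

/-- The inverse image of a morphism, followed by a lift. -/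
theorem inverseImage_lift {R S : 𝒮} (f : R ⟶ S) {a b : p.Fiber S} (φ : a ⟶ b) :
    Fiber.fiberInclusion.map ((K.inverseImage f).map φ) ≫ K.lift b.2 f =
      K.lift a.2 f ≫ Fiber.fiberInclusion.map φ := by
  rw [FibCat.Cleavage.inverseImage_map]
  exact IsCartesian.fac p f (K.lift b.2 f) _

/-- Morphisms into an inverse image are determined by their composite with the lift. -/
theorem hom_ext {R S : 𝒮} (f : R ⟶ S) {a : p.Fiber S} {c : p.Fiber R} {φ ψ : c ⟶ (K.inverseImage f).obj a}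
    (h : Fiber.fiberInclusion.map φ ≫ K.lift a.2 f = Fiber.fiberInclusion.map ψ ≫ K.lift a.2 f) : φ = ψ :=
  Fiber.hom_ext (IsCartesian.ext p f (K.lift a.2 f) _ _ h)

/-- Fibredness makes the comparisons isomorphisms. -/
theorem isIso_comp [p.IsFibered] {R T S : 𝒮} (f : T ⟶ S) (g : R ⟶ T) : IsIso (K.comp f g) := by
  rw [NatTrans.isIso_iff_isIso_app]
  intro a
  have : p.IsCartesian (g ≫ f) (K.lift (K.obj_proj a.2 f) g ≫ K.lift a.2 f) := inferInstance
  have : IsIso (Fiber.fiberInclusion.map ((K.comp f g).app a)) := by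
    rw [FibCat.Cleavage.comp_app]
    exact (IsCartesian.domainUniqueUpToIso p (g ≫ f) (K.lift a.2 (g ≫ f))
      (K.lift (K.obj_proj a.2 f) g ≫ K.lift a.2 f)).isIso_hom
  exact isIso_fiber _

/-- If the comparisons are isomorphisms the category is fibred. -/
theorem isFibered_of_isIso_comp
    (h : ∀ (R S T : 𝒮) (f : T ⟶ S) (g : R ⟶ T), IsIso (K.comp f g)) : p.IsFibered := by
  refine { toIsPreFibered := K.isPreFibered, comp := ?_ }
  intro R S T f g a b c φ ψ hφ hψ
  have hc : p.obj c = T := IsHomLift.codomain_eq p g ψ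
  have hb : p.obj b = S := IsHomLift.domain_eq p g ψ
  let C' : p.Fiber T := ⟨c, hc⟩
  let b' := K.obj hc g
  let l : b' ⟶ c := K.lift hc g
  let e₂ : b ≅ b' := IsCartesian.domainUniqueUpToIso p g l ψ
  have he₂ : e₂.hom ≫ l = ψ := IsCartesian.fac p g l ψ
  have : p.IsHomLift (𝟙 S) e₂.hom := IsCartesian.domainUniqueUpToIso_inv_isHomLift p g l ψ
  let a' := K.obj (K.obj_proj hc g) f
  let m : a' ⟶ b' := K.lift (K.obj_proj hc g) f
  have : p.IsCartesian f (φ ≫ e₂.hom) := inferInstance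
  let e₁ : a ≅ a' := IsCartesian.domainUniqueUpToIso p f m (φ ≫ e₂.hom)
  have he₁ : e₁.hom ≫ m = φ ≫ e₂.hom := IsCartesian.fac p f m (φ ≫ e₂.hom)
  have : p.IsHomLift (𝟙 R) e₁.hom := IsCartesian.domainUniqueUpToIso_inv_isHomLift p f m (φ ≫ e₂.hom)
  have := h R T S g f
  let e₃ : a' ≅ K.obj hc (f ≫ g) := Fiber.fiberInclusion.mapIso ((asIso (K.comp g f)).app C')
  have he₃ : e₃.hom ≫ K.lift hc (f ≫ g) = m ≫ l := comp_lift K g f C'
  have : p.IsHomLift (𝟙 R) e₃.hom := ((K.comp g f).app C').2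
  have e : φ ≫ ψ = (e₁ ≪≫ e₃).hom ≫ K.lift hc (f ≫ g) := by
    rw [Iso.trans_hom, Category.assoc, he₃, ← Category.assoc, he₁, Category.assoc, he₂]
  have : p.IsHomLift (𝟙 R) (e₁ ≪≫ e₃).hom := by rw [Iso.trans_hom]; infer_instance
  rw [e]
  infer_instance

/-- Pullback along an isomorphism is an equivalence of fibres. -/
theorem isEquivalence_inverseImage [p.IsFibered] {S T : 𝒮} (f : T ⟶ S) [IsIso f] :
    (K.inverseImage f).IsEquivalence := by
  have hl : ∀ a : p.Fiber S, IsIso (K.lift a.2 f) := fun a =>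
    IsStronglyCartesian.isIso_of_base_isIso p f (K.lift a.2 f)
  refine { faithful := ⟨fun {a b φ ψ} h => ?_⟩, full := ⟨fun {a b} g => ?_⟩, essSurj := ⟨fun c => ?_⟩ }
  · have h1 := inverseImage_lift K f φ
    rw [h, inverseImage_lift K f ψ] at h1
    have := hl a
    exact Fiber.hom_ext ((cancel_epi (K.lift a.2 f)).mp h1.symm)
  · have := hl a
    have : p.IsHomLift f (Fiber.fiberInclusion.map g ≫ K.lift b.2 f) :=
      IsHomLift.comp_lift_id_left' p T (Fiber.fiberInclusion.map g) f (K.lift b.2 f)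
    have h1 : p.IsHomLift (inv f ≫ f) (inv (K.lift a.2 f) ≫ Fiber.fiberInclusion.map g ≫ K.lift b.2 f) :=
      inferInstance
    rw [IsIso.inv_hom_id] at h1
    refine ⟨⟨inv (K.lift a.2 f) ≫ Fiber.fiberInclusion.map g ≫ K.lift b.2 f, h1⟩, hom_ext K f ?_⟩
    rw [inverseImage_lift]
    exact IsIso.hom_inv_id_assoc (K.lift a.2 f) _
  · let d : p.Fiber S := ⟨K.obj c.2 (inv f), K.obj_proj c.2 (inv f)⟩
    let l₁ : d.1 ⟶ c.1 := K.lift c.2 (inv f)
    have := hl d
    have : IsIso l₁ := IsStronglyCartesian.isIso_of_base_isIso p (inv f) l₁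
    let l₂ : K.obj d.2 f ⟶ d.1 := K.lift d.2 f
    have : IsIso l₂ := hl d
    have h1 : p.IsHomLift (f ≫ inv f) (l₂ ≫ l₁) := inferInstance
    rw [IsIso.hom_inv_id] at h1
    exact ⟨d, ⟨fiberIso (a := (K.inverseImage f).obj d) (b := c) (asIso (l₂ ≫ l₁)) h1⟩⟩

section Glue

variable {C : Type u₃} [Category.{v₃} C] (F G : 𝒳 ⥤ C)
  (u : ∀ S : 𝒮, (Fiber.fiberInclusion ⋙ F : p.Fiber S ⥤ C) ⟶ Fiber.fiberInclusion ⋙ G)

/-- A family on fibres compatible with transport is a natural transformation. -/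
theorem existsUnique_natTrans
    (hu : ∀ ⦃T S : 𝒮⦄ (f : T ⟶ S) (a : p.Fiber S),
      F.map ((K.transport f).app a) ≫ (u S).app a = (u T).app ((K.inverseImage f).obj a) ≫ G.map ((K.transport f).app a)) :
    ∃! v : F ⟶ G, ∀ (S : 𝒮) (a : p.Fiber S), v.app a.1 = (u S).app a := by
  refine ⟨{ app := fun x => (u (p.obj x)).app ⟨x, rfl⟩, naturality := fun x y φ => ?_ }, fun S a => ?_,
    fun v hv => ?_⟩
  · let X₀ : p.Fiber (p.obj x) := ⟨x, rfl⟩
    let Y₀ : p.Fiber (p.obj y) := ⟨y, rfl⟩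
    let τ : X₀ ⟶ (K.inverseImage (p.map φ)).obj Y₀ :=
      ⟨IsCartesian.map p (p.map φ) (K.lift Y₀.2 (p.map φ)) φ, IsCartesian.map_isHomLift p _ _ _⟩
    have e : φ = Fiber.fiberInclusion.map τ ≫ K.lift Y₀.2 (p.map φ) :=
      (IsCartesian.fac p (p.map φ) (K.lift Y₀.2 (p.map φ)) φ).symm
    have hn : F.map (Fiber.fiberInclusion.map τ) ≫ (u (p.obj x)).app ((K.inverseImage (p.map φ)).obj Y₀) =
        (u (p.obj x)).app X₀ ≫ G.map (Fiber.fiberInclusion.map τ) := (u (p.obj x)).naturality τ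
    have ht : F.map (K.lift Y₀.2 (p.map φ)) ≫ (u (p.obj y)).app Y₀ =
        (u (p.obj x)).app ((K.inverseImage (p.map φ)).obj Y₀) ≫ G.map (K.lift Y₀.2 (p.map φ)) := hu (p.map φ) Y₀
    change F.map φ ≫ (u (p.obj y)).app Y₀ = (u (p.obj x)).app X₀ ≫ G.map φ
    conv_lhs => rw [e]
    conv_rhs => rw [e]
    calc F.map (Fiber.fiberInclusion.map τ ≫ K.lift Y₀.2 (p.map φ)) ≫ (u (p.obj y)).app Y₀
        = F.map (Fiber.fiberInclusion.map τ) ≫ F.map (K.lift Y₀.2 (p.map φ)) ≫ (u (p.obj y)).app Y₀ := by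
          rw [F.map_comp]; exact Category.assoc _ _ _
      _ = (F.map (Fiber.fiberInclusion.map τ) ≫ (u (p.obj x)).app ((K.inverseImage (p.map φ)).obj Y₀)) ≫
            G.map (K.lift Y₀.2 (p.map φ)) :=
          (congrArg (fun t => F.map (Fiber.fiberInclusion.map τ) ≫ t) ht).trans (Category.assoc _ _ _).symm
      _ = ((u (p.obj x)).app X₀ ≫ G.map (Fiber.fiberInclusion.map τ)) ≫ G.map (K.lift Y₀.2 (p.map φ)) :=
          congrArg (fun t => t ≫ G.map (K.lift Y₀.2 (p.map φ))) hn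
      _ = (u (p.obj x)).app X₀ ≫ G.map (Fiber.fiberInclusion.map τ ≫ K.lift Y₀.2 (p.map φ)) := by
          rw [G.map_comp]; exact Category.assoc _ _ _
  · obtain ⟨x, hx⟩ := a
    subst hx
    rfl
  · ext x
    exact hv (p.obj x) ⟨x, rfl⟩

end Glue

/-- A pre-fibred category has a normalised cleavage. -/
theorem exists_normalised [p.IsPreFibered] : ∃ K : FibCat.Cleavage p, K.IsNormalised := by
  have h : ∀ (R S : 𝒮) (a : 𝒳) (ha : p.obj a = S) (f : R ⟶ S), ∃ (b : 𝒳) (φ : b ⟶ a),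
      p.IsCartesian f φ ∧ ∀ e : R = S, f = eqToHom e → ∃ hb : b = a, φ = eqToHom hb := by
    intro R S a ha f
    by_cases hf : ∃ e : R = S, f = eqToHom e
    · obtain ⟨e, rfl⟩ := hf
      subst e
      have : p.IsHomLift (eqToHom (rfl : R = R)) (𝟙 a) := by rw [eqToHom_refl]; exact IsHomLift.id ha
      have : p.IsStronglyCartesian (eqToHom (rfl : R = R)) (𝟙 a) := IsStronglyCartesian.of_isIso p _ _
      exact ⟨a, 𝟙 a, inferInstance, fun _ _ => ⟨rfl, rfl⟩⟩
    · exact ⟨IsPreFibered.pullbackObj ha f, IsPreFibered.pullbackMap ha f, inferInstance,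
        fun e he => absurd ⟨e, he⟩ hf⟩
  choose b φ hφ hn using h
  refine ⟨⟨fun {R S a} ha f => b R S a ha f, fun {R S a} ha f => φ R S a ha f,
    fun {R S a} ha f => hφ R S a ha f⟩, fun S a ha => ?_⟩
  exact hn S S a ha (𝟙 S) rfl rfl

section Strict

variable {F : 𝒮ᵒᵖ ⥤ Cat.{v₂, u₂}}

/-- Two lifts with identity fibre components differ by an identification of their sources. -/
theorem eq_of_eqToHom {R : 𝒮} {y y' : (F.toPseudofunctor'.obj ⟨op R⟩ : Cat)}
    {a : Pseudofunctor.CoGrothendieck F.toPseudofunctor'}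
    (m : (⟨R, y⟩ : Pseudofunctor.CoGrothendieck F.toPseudofunctor') ⟶ a)
    (m' : (⟨R, y'⟩ : Pseudofunctor.CoGrothendieck F.toPseudofunctor') ⟶ a)
    (hb : m.base = m'.base) (hf : ∃ e, m.fiber = eqToHom e) (hf' : ∃ e, m'.fiber = eqToHom e) :
    ∃ h, m = eqToHom h ≫ m' := by
  obtain ⟨k, φ⟩ := m
  obtain ⟨k', φ'⟩ := m'
  change k = k' at hb
  subst hb
  obtain ⟨e, he⟩ := hf
  obtain ⟨e', he'⟩ := hf'
  change φ = eqToHom e at he
  change φ' = eqToHom e' at he'
  change y = _ at e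
  change y' = _ at e'
  obtain rfl : y = y' := e.trans e'.symm
  refine ⟨rfl, ?_⟩
  rw [eqToHom_refl, Category.id_comp, he, he']

/-- The canonical cleavage of a strict functor is a splitting. -/
theorem ofCoGrothendieck_isSplitting :
    (FibCat.Cleavage.ofCoGrothendieck F.toPseudofunctor').IsSplitting := by
  constructor
  · intro S a ha
    change a.base = S at ha
    subst ha
    obtain ⟨i, hi⟩ := CatEqToHom.id_fiber a
    obtain ⟨h, e⟩ := eq_of_eqToHom
      ((FibCat.Cleavage.ofCoGrothendieck F.toPseudofunctor').lift (a := a) rfl (𝟙 a.base)) (𝟙 a)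
      (by simp [FibCat.Cleavage.ofCoGrothendieck]) ⟨rfl, rfl⟩ ⟨i, hi⟩
    exact ⟨h, e.trans (Category.comp_id _)⟩
  · intro S T U f g a ha
    let K₀ := FibCat.Cleavage.ofCoGrothendieck F.toPseudofunctor'
    change a.base = S at ha
    subst ha
    obtain ⟨i, hi⟩ := CatEqToHom.comp_fiber (K₀.lift (K₀.obj_proj (a := a) rfl f) g) (K₀.lift (a := a) rfl f)
    refine eq_of_eqToHom (K₀.lift (K₀.obj_proj (a := a) rfl f) g ≫ K₀.lift (a := a) rfl f)
      (K₀.lift (a := a) rfl (g ≫ f)) ?hb ⟨?he, ?hf⟩ ⟨rfl, rfl⟩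
    case hb =>
      change (g ≫ 𝟙 _) ≫ (f ≫ 𝟙 _) = (g ≫ f) ≫ 𝟙 _
      simp
    case he =>
      simp [K₀, FibCat.Cleavage.ofCoGrothendieck] at i ⊢
      exact i
    case hf =>
      rw [hi]
      simp [K₀, FibCat.Cleavage.ofCoGrothendieck]
      exact Category.id_comp _

end Strict

end Groth.Agent.Lib.Fibred.Cleavage
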