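import Groth.Agent.Lib.Fibred.Basic
import Mathlib.CategoryTheory.FiberedCategory.Cocartesian
import Mathlib.CategoryTheory.Opposites

/-!
# Prefibred and co-prefibred: fibred iff co-fibred
-/

set_option autoImplicit false
set_option backward.isDefEq.respectTransparency false
set_option backward.isDefEq.respectTransparency.types false

universe v₂ u₂ v u

open CategoryTheory CategoryTheory.Functor Opposite Groth.Agent.Lib.Fibred.Basic

namespace Groth.Agent.Lib.Fibred.Cofibred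

variable {C : Type u} [Category.{v} C] {𝒳 : Type u₂} [Category.{v₂} 𝒳] {p : 𝒳 ⥤ C}

theorem isHomLift_op {R S : C} {a b : 𝒳} (f : R ⟶ S) (φ : a ⟶ b) [p.IsHomLift f φ] :
    p.op.IsHomLift f.op φ.op :=
  IsHomLift.of_fac' p.op f.op φ.op (congrArg op (IsHomLift.codomain_eq p f φ))
    (congrArg op (IsHomLift.domain_eq p f φ)) (by
      change (p.map φ).op = _
      rw [IsHomLift.fac' p f φ]
      simp [eqToHom_op])

theorem isHomLift_unop {R S : C} {a b : 𝒳} (f : R ⟶ S) (φ : a ⟶ b) [p.op.IsHomLift f.op φ.op] :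
    p.IsHomLift f φ :=
  IsHomLift.of_fac' p f φ (congrArg unop (IsHomLift.codomain_eq p.op f.op φ.op))
    (congrArg unop (IsHomLift.domain_eq p.op f.op φ.op)) (by
      have e := congrArg Quiver.Hom.unop (IsHomLift.fac' p.op f.op φ.op)
      change p.map φ = _ at e
      rw [e]
      simp [eqToHom_unop])

theorem cart_op_iff {R S : C} {a b : 𝒳} (f : R ⟶ S) (φ : a ⟶ b) :
    p.op.IsCartesian f.op φ.op ↔ p.IsCocartesian f φ := by
  constructor
  · intro h
    have : p.IsHomLift f φ := isHomLift_unop f φ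
    refine { universal_property := fun {b'} φ' hφ' => ?_ }
    have := isHomLift_op (p := p) f φ'
    obtain ⟨χ, ⟨hχ, hχe⟩, hu⟩ := IsCartesian.universal_property (p := p.op) (f := f.op) (φ := φ.op) φ'.op
    refine ⟨χ.unop, ⟨?_, congrArg Quiver.Hom.unop hχe⟩, fun χ' hχ' => ?_⟩
    · have h1 : p.op.IsHomLift (𝟙 S).op χ.unop.op := hχ
      exact isHomLift_unop (𝟙 S) χ.unop
    · have := hχ'.1
      have h1 := isHomLift_op (p := p) (𝟙 S) χ'
      exact congrArg Quiver.Hom.unop (hu χ'.op ⟨h1, congrArg Quiver.Hom.op hχ'.2⟩)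
  · intro h
    have : p.op.IsHomLift f.op φ.op := isHomLift_op f φ
    refine { universal_property := fun {a'} φ' hφ' => ?_ }
    have : p.op.IsHomLift f.op φ'.unop.op := hφ'
    have := isHomLift_unop (p := p) f φ'.unop
    obtain ⟨χ, ⟨hχ, hχe⟩, hu⟩ := IsCocartesian.universal_property (p := p) (f := f) (φ := φ) φ'.unop
    refine ⟨χ.op, ⟨isHomLift_op (p := p) (𝟙 S) χ, congrArg Quiver.Hom.op hχe⟩, fun χ' hχ' => ?_⟩
    have h1 : p.op.IsHomLift (𝟙 S).op χ'.unop.op := hχ'.1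
    have h2 := isHomLift_unop (p := p) (𝟙 S) χ'.unop
    exact congrArg Quiver.Hom.op (hu χ'.unop ⟨h2, congrArg Quiver.Hom.unop hχ'.2⟩)

theorem cocart_op_iff {R S : C} {a b : 𝒳} (f : R ⟶ S) (φ : a ⟶ b) :
    p.op.IsCocartesian f.op φ.op ↔ p.IsCartesian f φ := by
  constructor
  · intro h
    have : p.IsHomLift f φ := isHomLift_unop f φ
    refine { universal_property := fun {a'} φ' hφ' => ?_ }
    have := isHomLift_op (p := p) f φ'
    obtain ⟨χ, ⟨hχ, hχe⟩, hu⟩ := IsCocartesian.universal_property (p := p.op) (f := f.op) (φ := φ.op) φ'.op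
    refine ⟨χ.unop, ⟨?_, congrArg Quiver.Hom.unop hχe⟩, fun χ' hχ' => ?_⟩
    · have h1 : p.op.IsHomLift (𝟙 R).op χ.unop.op := hχ
      exact isHomLift_unop (𝟙 R) χ.unop
    · have := hχ'.1
      have h1 := isHomLift_op (p := p) (𝟙 R) χ'
      exact congrArg Quiver.Hom.unop (hu χ'.op ⟨h1, congrArg Quiver.Hom.op hχ'.2⟩)
  · intro h
    have : p.op.IsHomLift f.op φ.op := isHomLift_op f φ
    refine { universal_property := fun {b'} φ' hφ' => ?_ }
    have : p.op.IsHomLift f.op φ'.unop.op := hφ'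
    have := isHomLift_unop (p := p) f φ'.unop
    obtain ⟨χ, ⟨hχ, hχe⟩, hu⟩ := IsCartesian.universal_property (p := p) (f := f) (φ := φ) φ'.unop
    refine ⟨χ.op, ⟨isHomLift_op (p := p) (𝟙 R) χ, congrArg Quiver.Hom.op hχe⟩, fun χ' hχ' => ?_⟩
    have h1 : p.op.IsHomLift (𝟙 R).op χ'.unop.op := hχ'.1
    have h2 := isHomLift_unop (p := p) (𝟙 R) χ'.unop
    exact congrArg Quiver.Hom.op (hu χ'.unop ⟨h2, congrArg Quiver.Hom.unop hχ'.2⟩)

/-- In a fibred category cocartesian morphisms compose. -/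
theorem cocartesian_comp [p.IsFibered] {R S T : C} (f : R ⟶ S) (g : S ⟶ T) {a b c : 𝒳} (φ : a ⟶ b)
    (ψ : b ⟶ c) [p.IsCocartesian f φ] [p.IsCocartesian g ψ] : p.IsCocartesian (f ≫ g) (φ ≫ ψ) := by
  refine { universal_property := fun {d} χ hχ => ?_ }
  have hd : p.obj d = T := IsHomLift.codomain_eq p (f ≫ g) χ
  obtain ⟨d', π, hπ⟩ := IsPreFibered.exists_isCartesian p hd g
  have := hπ
  obtain ⟨χ', ⟨hχ', hχ'e⟩, -⟩ := IsStronglyCartesian.universal_property p g π f (f ≫ g) rfl χ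
  have := hχ'
  obtain ⟨β, ⟨hβ, hβe⟩, -⟩ := IsCocartesian.universal_property (p := p) (f := f) (φ := φ) χ'
  have := hβ
  have : p.IsHomLift g (β ≫ π) := IsHomLift.comp_lift_id_left' p S β g π
  obtain ⟨γ, ⟨hγ, hγe⟩, -⟩ := IsCocartesian.universal_property (p := p) (f := g) (φ := ψ) (β ≫ π)
  refine ⟨γ, ⟨hγ, by rw [Category.assoc, hγe, ← Category.assoc, hβe, hχ'e]⟩, fun γ' hγ' => ?_⟩
  obtain ⟨hγ'l, hγ'e⟩ := hγ'
  have := hγ'l
  have := hγ
  have : p.IsHomLift g (ψ ≫ γ') := IsHomLift.comp_lift_id_right' p g ψ T γ'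
  obtain ⟨θ, ⟨hθ, hθe⟩, -⟩ := IsCartesian.universal_property (p := p) (f := g) (φ := π) (ψ ≫ γ')
  have := hθ
  have : p.IsHomLift f (φ ≫ θ) := IsHomLift.comp_lift_id_right' p f φ S θ
  have : p.IsHomLift f (φ ≫ β) := IsHomLift.comp_lift_id_right' p f φ S β
  have e1 : φ ≫ θ = φ ≫ β := by
    refine IsStronglyCartesian.ext p g π f ?_
    rw [Category.assoc, hθe, Category.assoc]
    rw [← Category.assoc φ β π, hβe, hχ'e, ← hγ'e, Category.assoc]
  have e2 : θ = β := IsCocartesian.ext p f φ θ β e1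
  refine IsCocartesian.ext p g ψ γ' γ ?_
  rw [← hθe, e2, hγe]

/-- For a prefibred co-prefibred functor fibred implies co-fibred. -/
theorem op_isFibered [p.IsFibered] [p.op.IsPreFibered] : p.op.IsFibered := by
  refine { toIsPreFibered := inferInstance, comp := ?_ }
  intro R S T f g a b c φ ψ hφ hψ
  have h1 : p.IsCocartesian f.unop φ.unop := (cart_op_iff f.unop φ.unop).mp hφ
  have h2 : p.IsCocartesian g.unop ψ.unop := (cart_op_iff g.unop ψ.unop).mp hψ
  exact (cart_op_iff (g.unop ≫ f.unop) (ψ.unop ≫ φ.unop)).mpr (cocartesian_comp g.unop f.unop ψ.unop φ.unop)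

/-- For a prefibred co-prefibred functor fibred is equivalent to co-fibred. -/
theorem isFibered_iff [p.IsPreFibered] [p.op.IsPreFibered] : p.IsFibered ↔ p.op.IsFibered := by
  refine ⟨fun h => op_isFibered, fun h => ?_⟩
  refine { toIsPreFibered := inferInstance, comp := ?_ }
  intro R S T f g a b c φ ψ hφ hψ
  have h1 : p.op.IsCocartesian f.op φ.op := (cocart_op_iff f φ).mpr hφ
  have h2 : p.op.IsCocartesian g.op ψ.op := (cocart_op_iff g ψ).mpr hψ
  exact (cocart_op_iff (f ≫ g) (φ ≫ ψ)).mp (cocartesian_comp g.op f.op ψ.op φ.op)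

end Groth.Agent.Lib.Fibred.Cofibred
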