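import Groth.Agent.Lib.Fibred.FibSet
import Groth.Agent.Lib.Fibred.EquivOver
import Mathlib.CategoryTheory.Adjunction.Basic
import Groth.Prelude.Def_W4stkcategoriessitesFib

/-!
# Factorisation of a morphism of fibred categories through a fibration
-/

set_option autoImplicit false
set_option backward.isDefEq.respectTransparency false
set_option backward.isDefEq.respectTransparency.types false

universe v u

open CategoryTheory CategoryTheory.Functor Groth.Agent.Lib.Fibred.Basic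

namespace Groth.Agent.Lib.Fibred.Factor

variable {C : Type u} [Category.{v} C] {𝒳 𝒴 : BasedCategory.{v, max u v} C} (F : 𝒳 ⥤ᵇ 𝒴)

/-- A vertical morphism into the image. -/
structure Obj : Type (max u v) where
  /-- the source object -/
  x : 𝒳.obj
  /-- the target object -/
  y : 𝒴.obj
  /-- the vertical morphism -/
  f : y ⟶ F.obj x
  hf : 𝒴.p.IsHomLift (𝟙 (𝒴.p.obj y)) f

/-- A morphism between vertical morphisms into the image. -/
@[ext]
structure Hom (A B : Obj F) : Type v where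
  /-- the source component -/
  a : A.x ⟶ B.x
  /-- the target component -/
  b : A.y ⟶ B.y
  w : b ≫ B.f = A.f ≫ F.map a

instance : Category (Obj F) where
  Hom := Hom F
  id A := ⟨𝟙 A.x, 𝟙 A.y, by rw [F.toFunctor.map_id]; simp⟩
  comp m n := ⟨m.a ≫ n.a, m.b ≫ n.b, by
    rw [Category.assoc, n.w, ← Category.assoc, m.w, Category.assoc, F.toFunctor.map_comp]⟩
  id_comp m := Hom.ext (Category.id_comp _) (Category.id_comp _)
  comp_id m := Hom.ext (Category.comp_id _) (Category.comp_id _)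
  assoc m n o := Hom.ext (Category.assoc _ _ _) (Category.assoc _ _ _)

@[ext] theorem hom_ext {A B : Obj F} {m n : A ⟶ B} (h₁ : m.a = n.a) (h₂ : m.b = n.b) : m = n :=
  Hom.ext h₁ h₂

/-- The projection to the target. -/
def toY : Obj F ⥤ 𝒴.obj where
  obj A := A.y
  map m := m.b

/-- The intermediate category over the base. -/
abbrev mid : BasedCategory.{v, max u v} C := BasedCategory.ofFunctor (toY F ⋙ 𝒴.p)

/-- The projection as a functor over the base. -/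
def v' : mid F ⥤ᵇ 𝒴 where
  toFunctor := toY F
  w := rfl

/-- The inclusion. -/
def u' : 𝒳 ⥤ᵇ mid F where
  toFunctor :=
    { obj := fun x => ⟨x, F.obj x, 𝟙 _, IsHomLift.id rfl⟩
      map := fun {x x'} a => ⟨a, F.map a, (Category.comp_id _).trans (Category.id_comp _).symm⟩
      map_id := fun x => Hom.ext rfl (F.toFunctor.map_id x)
      map_comp := fun a a' => Hom.ext rfl (F.toFunctor.map_comp a a') }
  w := F.w

theorem px (A : Obj F) : 𝒳.p.obj A.x = 𝒴.p.obj A.y := by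
  have := A.hf
  exact (F.w_obj A.x).symm.trans (IsHomLift.codomain_eq 𝒴.p (𝟙 (𝒴.p.obj A.y)) A.f)

theorem a_lift {A B : Obj F} (m : A ⟶ B) : 𝒳.p.IsHomLift (𝒴.p.map m.b) m.a := by
  have := A.hf
  have := B.hf
  refine (F.isHomLift_iff (𝒴.p.map m.b) m.a).mp ?_
  have h1 : 𝒴.p.IsHomLift (𝒴.p.map m.b) (m.b ≫ B.f) :=
    IsHomLift.comp_lift_id_right' 𝒴.p (𝒴.p.map m.b) m.b (𝒴.p.obj B.y) B.f
  rw [m.w] at h1
  refine IsHomLift.of_fac' 𝒴.p _ _ (IsHomLift.codomain_eq 𝒴.p (𝟙 (𝒴.p.obj A.y)) A.f)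
    (IsHomLift.codomain_eq 𝒴.p (𝟙 (𝒴.p.obj B.y)) B.f) ?_
  have e := IsHomLift.fac' 𝒴.p (𝒴.p.map m.b) (A.f ≫ F.map m.a)
  rw [𝒴.p.map_comp, IsHomLift.fac' 𝒴.p (𝟙 (𝒴.p.obj A.y)) A.f] at e
  simp only [Category.assoc, Category.id_comp, eqToHom_refl] at e
  rw [← cancel_epi (eqToHom (IsHomLift.codomain_eq 𝒴.p (𝟙 (𝒴.p.obj A.y)) A.f).symm)]
  simpa using e

/-- The projection to the source. -/
def w' : mid F ⥤ᵇ 𝒳 where
  toFunctor :=
    { obj := fun A => A.x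
      map := fun m => m.a }
  w := CategoryTheory.Functor.ext (fun A => px F A) (fun A B m =>
    haveI := a_lift F m
    IsHomLift.fac' 𝒳.p (𝒴.p.map m.b) m.a)

/-- The adjunction. -/
def adj : (w' F).toFunctor ⊣ (u' F).toFunctor :=
  Adjunction.mkOfHomEquiv
    { homEquiv := fun A x =>
        { toFun := fun a => (⟨a, A.f ≫ F.map a, by
            change (A.f ≫ F.map a) ≫ 𝟙 _ = A.f ≫ F.map a
            rw [Category.comp_id]⟩ : Hom F A ((u' F).obj x))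
          invFun := fun m => Hom.a m
          left_inv := fun _ => rfl
          right_inv := fun m => Hom.ext rfl (m.w.symm.trans (Category.comp_id _)) }
      homEquiv_naturality_left_symm := fun _ _ => rfl
      homEquiv_naturality_right := fun {A x x'} a a' => Hom.ext rfl (by
        change A.f ≫ F.map (a ≫ a') = (A.f ≫ F.map a) ≫ F.map a'
        rw [F.toFunctor.map_comp, Category.assoc]) }

variable [𝒳.p.IsFibered] [𝒴.p.IsFibered] (hF : FibCat.PreservesStronglyCartesian F)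
include hF

/-- A canonical cartesian lift for the projection. -/
theorem exists_lift (B : Obj F) {y : 𝒴.obj} (b : y ⟶ B.y) :
    ∃ (A : Obj F) (m : A ⟶ B), (toY F).IsStronglyCartesian b m ∧ 𝒳.p.IsStronglyCartesian (𝒴.p.map b) m.a := by
  obtain ⟨x, π, hπ⟩ := IsPreFibered.exists_isCartesian 𝒳.p (px F B) (𝒴.p.map b)
  have hπ' := hπ
  have : 𝒳.p.IsStronglyCartesian (𝒴.p.map b) π := inferInstance
  have hFπ : 𝒴.p.IsStronglyCartesian (𝒴.p.map b) (F.map π) := hF (𝒴.p.map b) π inferInstance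
  have := B.hf
  have : 𝒴.p.IsHomLift (𝒴.p.map b) (b ≫ B.f) :=
    IsHomLift.comp_lift_id_right' 𝒴.p (𝒴.p.map b) b (𝒴.p.obj B.y) B.f
  obtain ⟨f, ⟨hf, hfe⟩, -⟩ := IsCartesian.universal_property (p := 𝒴.p) (f := 𝒴.p.map b) (φ := F.map π) (b ≫ B.f)
  let A : Obj F := ⟨x, y, f, hf⟩
  let m : A ⟶ B := ⟨π, b, hfe.symm⟩
  have hl : (toY F).IsHomLift b m := IsHomLift.map (toY F) m
  refine ⟨A, m, { universal_property' := fun {E} g n hn => ?_ }, inferInstanceAs (𝒳.p.IsStronglyCartesian (𝒴.p.map b) π)⟩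
  have hnb : g ≫ b = n.b := IsHomLift.eq_of_isHomLift (toY F) (g ≫ b) n
  have hna := a_lift F n
  have e : 𝒴.p.map n.b = 𝒴.p.map g ≫ 𝒴.p.map b := by rw [← 𝒴.p.map_comp, hnb]
  obtain ⟨t, ⟨ht, hte⟩, htu⟩ :=
    IsStronglyCartesian.universal_property 𝒳.p (𝒴.p.map b) π (𝒴.p.map g) (𝒴.p.map n.b) e n.a
  have := ht
  have := E.hf
  have hfA : 𝒴.p.IsHomLift (𝟙 (𝒴.p.obj y)) f := hf
  have hw : g ≫ f = E.f ≫ F.map t := by
    have h1 : 𝒴.p.IsHomLift (𝒴.p.map g) (g ≫ f) :=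
      IsHomLift.comp_lift_id_right' 𝒴.p (𝒴.p.map g) g (𝒴.p.obj y) f
    have h2 : 𝒴.p.IsHomLift (𝒴.p.map g) (E.f ≫ F.map t) :=
      IsHomLift.comp_lift_id_left' 𝒴.p (𝒴.p.obj E.y) E.f (𝒴.p.map g) (F.map t)
    refine IsStronglyCartesian.ext 𝒴.p (𝒴.p.map b) (F.map π) (𝒴.p.map g) ?_
    rw [Category.assoc, hfe, Category.assoc, ← F.toFunctor.map_comp, hte, ← Category.assoc, hnb, n.w]
  refine ⟨⟨t, g, hw⟩, ⟨IsHomLift.map (toY F) (⟨t, g, hw⟩ : E ⟶ A), hom_ext F hte hnb⟩, ?_⟩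
  rintro χ ⟨hχ, hχe⟩
  have hχb : g = χ.b := IsHomLift.eq_of_isHomLift (toY F) g χ
  refine hom_ext F (htu _ ⟨?_, congrArg Hom.a hχe⟩) hχb.symm
  rw [hχb]
  exact a_lift F χ

theorem v_isFibered : (toY F).IsFibered :=
  IsFibered.of_exists_isStronglyCartesian fun B y b => by
    obtain ⟨A, m, hm, -⟩ := exists_lift F hF B b
    exact ⟨A, m, hm⟩

theorem mid_isFibered : (mid F).p.IsFibered := by
  have := v_isFibered F hF
  exact FibSet.isFibered_comp (toY F) 𝒴.p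

theorem v_preserves : FibCat.PreservesStronglyCartesian (v' F) ∧ FibCat.PreservesStronglyCartesian (w' F) := by
  have key : ∀ {R S : C} (f : R ⟶ S) {A B : Obj F} (m : A ⟶ B), (mid F).p.IsStronglyCartesian f m →
      𝒴.p.IsStronglyCartesian f m.b ∧ 𝒳.p.IsStronglyCartesian f m.a := by
    intro R S f A B m hm
    have hm0 : (toY F ⋙ 𝒴.p).IsStronglyCartesian f m := hm
    have hB : 𝒴.p.obj B.y = S := IsHomLift.codomain_eq (toY F ⋙ 𝒴.p) f m
    obtain ⟨y, b, hb⟩ := IsPreFibered.exists_isCartesian 𝒴.p hB f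
    have hb' := hb
    obtain ⟨A₀, m₀, hm₀, hm₀a⟩ := exists_lift F hF B b
    obtain rfl := IsHomLift.domain_eq (toY F) b m₀
    obtain rfl := IsHomLift.eq_of_isHomLift (toY F) b m₀
    have hb₀ : 𝒴.p.IsCartesian f m₀.b := hb
    have hm₀a' : 𝒳.p.IsStronglyCartesian (𝒴.p.map m₀.b) m₀.a := hm₀a
    have hb₁ : 𝒴.p.IsStronglyCartesian (𝒴.p.map m₀.b) m₀.b := isStronglyCartesian_self 𝒴.p f m₀.b
    have h0 : (toY F ⋙ 𝒴.p).IsStronglyCartesian ((toY F ⋙ 𝒴.p).map m₀) m₀ :=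
      FibSet.isStronglyCartesian_comp (toY F) 𝒴.p m₀ hm₀ hb₁
    have hl : (toY F ⋙ 𝒴.p).IsHomLift f m₀ := (FibSet.isHomLift_comp_iff (toY F) 𝒴.p f m₀).mpr
      (inferInstanceAs (𝒴.p.IsHomLift f m₀.b))
    have h0' := isStronglyCartesian_of_self (toY F ⋙ 𝒴.p) f m₀
    let e := IsCartesian.domainUniqueUpToIso (toY F ⋙ 𝒴.p) f m₀ m
    have he : e.hom ≫ m₀ = m := IsCartesian.fac (toY F ⋙ 𝒴.p) f m₀ m
    have hel : (toY F ⋙ 𝒴.p).IsHomLift (𝟙 R) e.hom :=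
      IsCartesian.domainUniqueUpToIso_inv_isHomLift (toY F ⋙ 𝒴.p) f m₀ m
    have hebl : 𝒴.p.IsHomLift (𝟙 R) e.hom.b := (FibSet.isHomLift_comp_iff (toY F) 𝒴.p (𝟙 R) e.hom).mp hel
    have : IsIso e.hom.b := (toY F).map_isIso e.hom
    have : IsIso e.hom.a := (w' F).toFunctor.map_isIso e.hom
    have heal : 𝒳.p.IsHomLift (𝟙 R) e.hom.a :=
      (haveI : (mid F).p.IsHomLift (𝟙 R) e.hom := hel; (inferInstance : 𝒳.p.IsHomLift (𝟙 R) ((w' F).map e.hom)))
    have hm₀al : 𝒳.p.IsHomLift f m₀.a :=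
      haveI : (mid F).p.IsHomLift f m₀ := hl
      (inferInstance : 𝒳.p.IsHomLift f ((w' F).map m₀))
    have h2 : 𝒳.p.IsStronglyCartesian (𝒳.p.map m₀.a) m₀.a := isStronglyCartesian_self 𝒳.p (𝒴.p.map m₀.b) m₀.a
    have h3 := isStronglyCartesian_of_self 𝒳.p f m₀.a
    have hsb : 𝒴.p.IsStronglyCartesian (𝟙 R) e.hom.b := IsStronglyCartesian.of_isIso 𝒴.p _ _
    have hsa : 𝒳.p.IsStronglyCartesian (𝟙 R) e.hom.a := IsStronglyCartesian.of_isIso 𝒳.p _ _
    have e1 : e.hom.b ≫ m₀.b = m.b := congrArg Hom.b he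
    have e2 : e.hom.a ≫ m₀.a = m.a := congrArg Hom.a he
    refine ⟨?_, ?_⟩
    · have : 𝒴.p.IsStronglyCartesian (𝟙 R ≫ f) (e.hom.b ≫ m₀.b) := inferInstance
      rwa [Category.id_comp, e1] at this
    · have : 𝒳.p.IsStronglyCartesian (𝟙 R ≫ f) (e.hom.a ≫ m₀.a) := inferInstance
      rwa [Category.id_comp, e2] at this
  exact ⟨fun R S f A B m hm => (key f m hm).1, fun R S f A B m hm => (key f m hm).2⟩

theorem u_preserves : FibCat.PreservesStronglyCartesian (u' F) := by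
  intro R S f x x' a ha
  have hFa : 𝒴.p.IsStronglyCartesian f (F.map a) := hF f a ha
  have hl : (mid F).p.IsHomLift f ((u' F).map a) := inferInstance
  refine { universal_property' := fun {E} g n hn => ?_ }
  have hnb : 𝒴.p.IsHomLift (g ≫ f) n.b := (FibSet.isHomLift_comp_iff (toY F) 𝒴.p (g ≫ f) n).mp hn
  have hna : 𝒳.p.IsHomLift (g ≫ f) n.a := (inferInstance : 𝒳.p.IsHomLift (g ≫ f) ((w' F).map n))
  have := E.hf
  have hE : 𝒴.p.obj E.y = _ := IsHomLift.domain_eq 𝒴.p (g ≫ f) n.b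
  obtain ⟨t, ⟨ht, hte⟩, htu⟩ := IsStronglyCartesian.universal_property 𝒳.p f a g (g ≫ f) rfl n.a
  have := ht
  have hw : (E.f ≫ F.map t) ≫ 𝟙 _ = E.f ≫ F.map t := Category.comp_id _
  let χ : E ⟶ (u' F).obj x := ⟨t, E.f ≫ F.map t, hw⟩
  have hbl : 𝒴.p.IsHomLift g (E.f ≫ F.map t) :=
    IsHomLift.comp_lift_id_left' 𝒴.p (𝒴.p.obj E.y) E.f g (F.map t)
  refine ⟨χ, ⟨(FibSet.isHomLift_comp_iff (toY F) 𝒴.p g χ).mpr hbl, hom_ext F hte ?_⟩, ?_⟩
  · change (E.f ≫ F.map t) ≫ F.map a = n.b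
    rw [Category.assoc, ← F.toFunctor.map_comp, hte, ← n.w]
    exact Category.comp_id _
  · rintro χ' ⟨hχ', hχ'e⟩
    have ha' : χ'.a = t := htu _ ⟨(inferInstance : 𝒳.p.IsHomLift g ((w' F).map χ')), congrArg Hom.a hχ'e⟩
    refine hom_ext F ha' ?_
    change χ'.b = E.f ≫ F.map t
    rw [← ha', ← χ'.w]
    exact (Category.comp_id _).symm

theorem main : ∃ (𝒳' : BasedCategory.{v, max u v} C) (u₁ : 𝒳 ⥤ᵇ 𝒳') (v₁ : 𝒳' ⥤ᵇ 𝒴) (w₁ : 𝒳' ⥤ᵇ 𝒳),
    𝒳'.p.IsFibered ∧ FibCat.PreservesStronglyCartesian u₁ ∧ FibCat.PreservesStronglyCartesian v₁ ∧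
      FibCat.PreservesStronglyCartesian w₁ ∧ BasedFunctor.comp u₁ v₁ = F ∧
      u₁.toFunctor.Full ∧ u₁.toFunctor.Faithful ∧ Nonempty (w₁.toFunctor ⊣ u₁.toFunctor) ∧
      v₁.toFunctor.IsFibered := by
  refine ⟨mid F, u' F, v' F, w' F, mid_isFibered F hF, u_preserves F hF, (v_preserves F hF).1,
    (v_preserves F hF).2, rfl, ⟨fun {x x'} m => ⟨Hom.a m, ?_⟩⟩, ⟨fun {x x' a a'} e => congrArg Hom.a e⟩,
    ⟨adj F⟩, v_isFibered F hF⟩
  exact hom_ext F rfl ((Category.id_comp _).symm.trans (m.w.symm.trans (Category.comp_id _)))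

end Groth.Agent.Lib.Fibred.Factor
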