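import Groth.Agent.Lib.Fibred.SelfOver
import Groth.Agent.Lib.Fibred.FibSet

/-!
# Factorisation of a functor over the base through the fibre product with an identity; base change
-/

set_option autoImplicit false
set_option backward.isDefEq.respectTransparency false
set_option backward.isDefEq.respectTransparency.types false

universe v₄ u₄ v₃ u₃ v₂ u₂ v u

open CategoryTheory CategoryTheory.Functor CategoryTheory.Limits Groth.Agent.Lib.Fibred.Basic
  Groth.Agent.Lib.Fibred.EquivOver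

namespace Groth.Agent.Lib.Fibred.Graph

variable {C : Type u} [Category.{v} C] {𝒳 : BasedCategory.{v₂, u₂} C} {𝒴 : BasedCategory.{v₃, u₃} C}

/-- Strong cartesianness for a restriction to a full subcategory. -/
theorem isStronglyCartesian_of_fullyFaithful {D : Type u₃} [Category.{v₃} D] {E : Type u₄} [Category.{v₄} E]
    (ι : D ⥤ E) [ι.Full] [ι.Faithful] (q : E ⥤ C) {x y : D} (φ : x ⟶ y) {R S : C} (f : R ⟶ S)
    [q.IsStronglyCartesian f (ι.map φ)] : (ι ⋙ q).IsStronglyCartesian f φ := by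
  have hl : (ι ⋙ q).IsHomLift f φ := (FibSet.isHomLift_comp_iff ι q f φ).mpr inferInstance
  refine { universal_property' := fun {c} g ψ hψ => ?_ }
  have := (FibSet.isHomLift_comp_iff ι q _ ψ).mp hψ
  obtain ⟨χ, ⟨hχ, hχ'⟩, hu⟩ :=
    IsStronglyCartesian.universal_property q f (ι.map φ) g (g ≫ f) rfl (ι.map ψ)
  refine ⟨ι.preimage χ, ⟨(FibSet.isHomLift_comp_iff ι q _ _).mpr (by rw [ι.map_preimage]; exact hχ),
    ι.map_injective (by simp [hχ'])⟩, ?_⟩
  rintro χ' ⟨hχ'₁, rfl⟩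
  apply ι.map_injective
  rw [hu _ ⟨(FibSet.isHomLift_comp_iff ι q _ _).mp hχ'₁, (ι.map_comp _ _).symm⟩, ι.map_preimage]

variable (F : 𝒴 ⥤ᵇ 𝒳)

/-- The base morphism of a morphism between images. -/
def baseMap {a b : 𝒴.obj} (k : F.obj a ⟶ F.obj b) : 𝒴.p.obj a ⟶ 𝒴.p.obj b :=
  eqToHom (F.w_obj a).symm ≫ 𝒳.p.map k ≫ eqToHom (F.w_obj b)

theorem baseMap_isHomLift {a b : 𝒴.obj} (k : F.obj a ⟶ F.obj b) : 𝒳.p.IsHomLift (baseMap F k) k :=
  IsHomLift.of_fac _ _ _ (F.w_obj a) (F.w_obj b) rfl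

theorem baseMap_comp {a b c : 𝒴.obj} (k : F.obj a ⟶ F.obj b) (l : F.obj b ⟶ F.obj c) :
    baseMap F (k ≫ l) = baseMap F k ≫ baseMap F l := by
  simp [baseMap]

theorem baseMap_map {a b : 𝒴.obj} (φ : a ⟶ b) : baseMap F (F.map φ) = 𝒴.p.map φ := by
  simp [baseMap, map_p]

variable {F}

/-- Every morphism of the plain pullback along an identity is strongly cartesian for the projection. -/
theorem isStronglyCartesian_π₂ (h𝒳 : FibCat.IsFibGrpd 𝒳.p) (h𝒴 : FibCat.IsFibGrpd 𝒴.p)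
    {z w : CategoricalPullback F.toFunctor (Functor.id 𝒳.obj)} (φ : z ⟶ w) :
    (CategoricalPullback.π₂ F.toFunctor (Functor.id 𝒳.obj)).IsStronglyCartesian
      ((CategoricalPullback.π₂ F.toFunctor (Functor.id 𝒳.obj)).map φ) φ := by
  refine { universal_property' := fun {u} g ψ hψ => ?_ }
  have hg : g ≫ φ.snd = ψ.snd :=
    IsHomLift.eq_of_isHomLift (CategoricalPullback.π₂ F.toFunctor (Functor.id 𝒳.obj))
      (g ≫ (CategoricalPullback.π₂ F.toFunctor (Functor.id 𝒳.obj)).map φ) ψ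
  let k : F.obj u.fst ⟶ F.obj z.fst := u.iso.hom ≫ g ≫ z.iso.inv
  have hk : k ≫ F.map φ.fst = F.map ψ.fst := by
    rw [← cancel_mono w.iso.hom]
    simp only [k, Category.assoc, CategoricalPullback.Hom.w, Iso.inv_hom_id_assoc, Functor.id_map, hg]
  have hb : baseMap F k ≫ 𝒴.p.map φ.fst = 𝒴.p.map ψ.fst := by
    rw [← baseMap_map F φ.fst, ← baseMap_comp, hk, baseMap_map]
  have := h𝒴.isStronglyCartesian φ.fst
  obtain ⟨χ, ⟨hχ, hχ'⟩, hu⟩ := IsStronglyCartesian.universal_property 𝒴.p (𝒴.p.map φ.fst) φ.fst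
    (baseMap F k) (𝒴.p.map ψ.fst) hb.symm ψ.fst
  have := baseMap_isHomLift F k
  have hs := stronglyCartesian_of_grpd h𝒳 (𝒴.p.map φ.fst) (F.map φ.fst)
  have hχk : F.map χ = k := by
    apply IsStronglyCartesian.ext 𝒳.p (𝒴.p.map φ.fst) (F.map φ.fst) (baseMap F k)
    rw [← F.toFunctor.map_comp, hχ', hk]
  refine ⟨{ fst := χ, snd := g, w := by simp [hχk, k] }, ⟨?_, ?_⟩, ?_⟩
  · exact IsHomLift.map (CategoricalPullback.π₂ F.toFunctor (Functor.id 𝒳.obj))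
      ({ fst := χ, snd := g, w := by simp [hχk, k] } : u ⟶ z)
  · exact CategoricalPullback.hom_ext hχ' hg
  · rintro χ' ⟨hχ'₁, rfl⟩
    have e : χ'.snd = g :=
      (IsHomLift.eq_of_isHomLift (CategoricalPullback.π₂ F.toFunctor (Functor.id 𝒳.obj)) g χ').symm
    have e' : F.map χ'.fst = k := by
      rw [← cancel_mono z.iso.hom]
      simp [k, e]
    refine CategoricalPullback.hom_ext (hu _ ⟨?_, rfl⟩) e
    rw [← BasedFunctor.isHomLift_iff F, e']
    infer_instance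

/-- The projection of the plain pullback along an identity is fibred in groupoids. -/
theorem π₂_grpd (h𝒳 : FibCat.IsFibGrpd 𝒳.p) (h𝒴 : FibCat.IsFibGrpd 𝒴.p) :
    FibCat.IsFibGrpd (CategoricalPullback.π₂ F.toFunctor (Functor.id 𝒳.obj)) := by
  refine ⟨fun {z x} g => ?_, fun φ => isStronglyCartesian_π₂ h𝒳 h𝒴 φ⟩
  let f : 𝒳.p.obj x ⟶ 𝒴.p.obj z.fst := 𝒳.p.map (g ≫ z.iso.inv) ≫ eqToHom (F.w_obj z.fst)
  have hf : 𝒳.p.IsHomLift f (g ≫ z.iso.inv) :=
    IsHomLift.of_fac _ _ _ rfl (F.w_obj z.fst) (by simp [f])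
  obtain ⟨y, a, ha⟩ := exists_lift_of_grpd h𝒴 (rfl : 𝒴.p.obj z.fst = _) f
  have := stronglyCartesian_of_grpd h𝒳 f (g ≫ z.iso.inv)
  have := stronglyCartesian_of_grpd h𝒳 f (F.map a)
  let e := IsCartesian.domainUniqueUpToIso 𝒳.p f (g ≫ z.iso.inv) (F.map a)
  have he : e.hom ≫ g ≫ z.iso.inv = F.map a := IsCartesian.fac 𝒳.p f (g ≫ z.iso.inv) (F.map a)
  let z' : CategoricalPullback F.toFunctor (Functor.id 𝒳.obj) := { fst := y, snd := x, iso := e }
  let φ : z' ⟶ z := { fst := a, snd := g, w := by simp [z', ← he] }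
  exact ⟨z', φ, IsHomLift.map (CategoricalPullback.π₂ F.toFunctor (Functor.id 𝒳.obj)) φ⟩

/-- The projection of the fibre product with an identity is fibred in groupoids. -/
theorem fpSnd_grpd (h𝒳 : FibCat.IsFibGrpd 𝒳.p) (h𝒴 : FibCat.IsFibGrpd 𝒴.p) :
    FibCat.IsFibGrpd (FibCat.fpSnd F (BasedFunctor.id 𝒳)).toFunctor := by
  refine ⟨fun {z x} g => ?_, fun {z w} φ => ?_⟩
  · let f : 𝒳.p.obj x ⟶ 𝒴.p.obj z.obj.fst := 𝒳.p.map g ≫ eqToHom (Fp.p_snd z)
    have hf : 𝒳.p.IsHomLift f g := IsHomLift.of_fac _ _ _ rfl (Fp.p_snd z) (by simp [f])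
    obtain ⟨y, a, ha⟩ := exists_lift_of_grpd h𝒴 (rfl : 𝒴.p.obj z.obj.fst = _) f
    have := stronglyCartesian_of_grpd h𝒳 f (F.map a)
    have := stronglyCartesian_of_grpd h𝒳 f ((BasedFunctor.id 𝒳).map g)
    obtain ⟨z', φ, h₁, h₂, -, e₂⟩ := Fp.exists_lift (F := F) (G := BasedFunctor.id 𝒳) z f a g
    subst h₂
    rw [eqToHom_refl, Category.id_comp] at e₂
    refine ⟨z', φ, ?_⟩
    rw [← e₂]
    exact IsHomLift.map (FibCat.fpSnd F (BasedFunctor.id 𝒳)).toFunctor φ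
  · have h1 : (CategoricalPullback.π₂ F.toFunctor (Functor.id 𝒳.obj)).IsStronglyCartesian
        ((FibCat.fpSnd F (BasedFunctor.id 𝒳)).toFunctor.map φ)
        ((FibCat.fpProp F (BasedFunctor.id 𝒳)).ι.map φ) := isStronglyCartesian_π₂ h𝒳 h𝒴 φ.hom
    exact isStronglyCartesian_of_fullyFaithful (FibCat.fpProp F (BasedFunctor.id 𝒳)).ι
      (CategoricalPullback.π₂ F.toFunctor (Functor.id 𝒳.obj)) φ _

section BaseChange

variable {D : Type u₄} [Category.{v₄} D] (u : D ⥤ C)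

/-- The base change of a fibred category along a functor is fibred. -/
theorem π₁_isFibered [𝒳.p.IsFibered] : (CategoricalPullback.π₁ u 𝒳.p).IsFibered := by
  refine IsFibered.of_exists_isStronglyCartesian fun z d g => ?_
  let f : u.obj d ⟶ 𝒳.p.obj z.snd := u.map g ≫ z.iso.hom
  obtain ⟨s, a, ha⟩ := IsPreFibered.exists_isCartesian 𝒳.p (rfl : 𝒳.p.obj z.snd = _) f
  have hs : 𝒳.p.obj s = u.obj d := IsHomLift.domain_eq 𝒳.p f a
  have hm : 𝒳.p.map a = eqToHom hs ≫ f := by simpa using IsHomLift.fac' 𝒳.p f a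
  let z' : CategoricalPullback u 𝒳.p := { fst := d, snd := s, iso := eqToIso hs.symm }
  let φ : z' ⟶ z := { fst := g, snd := a, w := by simp [z', hm, f] }
  have hl : (CategoricalPullback.π₁ u 𝒳.p).IsHomLift g φ := IsHomLift.map (CategoricalPullback.π₁ u 𝒳.p) φ
  refine ⟨z', φ, { universal_property' := fun {t} k ψ hψ => ?_ }⟩
  have hk : k ≫ g = ψ.fst := IsHomLift.eq_of_isHomLift (CategoricalPullback.π₁ u 𝒳.p) (k ≫ g) ψ
  let k' : 𝒳.p.obj t.snd ⟶ u.obj d := t.iso.inv ≫ u.map k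
  have hb : 𝒳.p.map ψ.snd = k' ≫ f := by
    rw [← cancel_epi t.iso.hom, ← ψ.w, ← hk]
    simp [k', f]
  obtain ⟨χ, ⟨hχ, hχ'⟩, hu⟩ :=
    IsStronglyCartesian.universal_property 𝒳.p f a k' (𝒳.p.map ψ.snd) hb ψ.snd
  have hmχ : 𝒳.p.map χ = k' ≫ eqToHom hs.symm := by simpa using IsHomLift.fac' 𝒳.p k' χ
  let χ₀ : t ⟶ z' := { fst := k, snd := χ, w := by simp [z', hmχ, k'] }
  refine ⟨χ₀, ⟨IsHomLift.map (CategoricalPullback.π₁ u 𝒳.p) χ₀, CategoricalPullback.hom_ext hk hχ'⟩, ?_⟩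
  rintro χ' ⟨hχ'₁, rfl⟩
  have e : χ'.fst = k := by
    have h := IsHomLift.eq_of_isHomLift (CategoricalPullback.π₁ u 𝒳.p) (a := t) (b := z') k χ'
    exact h.symm
  refine CategoricalPullback.hom_ext e (hu _ ⟨?_, rfl⟩)
  refine IsHomLift.of_fac' 𝒳.p _ _ rfl hs ?_
  rw [← cancel_epi t.iso.hom, ← χ'.w, e]
  simp [z', k']

end BaseChange

end Groth.Agent.Lib.Fibred.Graph
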