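import Groth.Agent.Lib.Fibred.Repr

/-!
# Products of representable functors; diagonals
-/

set_option autoImplicit false
set_option backward.isDefEq.respectTransparency false
set_option backward.isDefEq.respectTransparency.types false

universe v₇ u₇ v₆ u₆ v₅ u₅ v₄ u₄ v₃ u₃ v₂ u₂ v u

open CategoryTheory CategoryTheory.Functor CategoryTheory.Limits Groth.Agent.Lib.Fibred.Basic
  Groth.Agent.Lib.Fibred.EquivOver Groth.Agent.Lib.Fibred.Slice Groth.Agent.Lib.Fibred.FpEquiv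
  Groth.Agent.Lib.Fibred.Repr

namespace Groth.Agent.Lib.Fibred.Product

variable {C : Type u} [Category.{v} C]

/-- The product over the base. -/
abbrev prodOver (𝒳 : BasedCategory.{v₂, u₂} C) (𝒴 : BasedCategory.{v₃, u₃} C) :=
  FibCat.fp (FibCat.toSelf 𝒳) (FibCat.toSelf 𝒴)

/-- Two parallel morphisms into the product with equal components are equal; squares in it commute componentwise. -/
theorem prod_hom_ext {𝒳 : BasedCategory.{v₂, u₂} C} {𝒴 : BasedCategory.{v₃, u₃} C}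
    {z w : (prodOver 𝒳 𝒴).obj} {φ ψ : z ⟶ w} (h₁ : φ.hom.fst = ψ.hom.fst) (h₂ : φ.hom.snd = ψ.hom.snd) : φ = ψ :=
  Fp.hom_ext h₁ h₂

/-- A lift in the product from its components. -/
theorem prod_isHomLift {𝒳 : BasedCategory.{v₂, u₂} C} {𝒴 : BasedCategory.{v₃, u₃} C}
    {z w : (prodOver 𝒳 𝒴).obj} (φ : z ⟶ w) {R S : C} (f : R ⟶ S) [𝒳.p.IsHomLift f φ.hom.fst] :
    (prodOver 𝒳 𝒴).p.IsHomLift f φ :=
  (Fp.isHomLift_iff φ f).mpr inferInstance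

section ProdMap

variable {𝒳₁ : BasedCategory.{v₂, u₂} C} {𝒳₂ : BasedCategory.{v₃, u₃} C} {𝒴₁ : BasedCategory.{v₄, u₄} C}
  {𝒴₂ : BasedCategory.{v₅, u₅} C} (f₁ : 𝒳₁ ⥤ᵇ 𝒴₁) (f₂ : 𝒳₂ ⥤ᵇ 𝒴₂)
  (e : BasedFunctor.comp (BasedFunctor.comp (FibCat.fpFst (FibCat.toSelf 𝒳₁) (FibCat.toSelf 𝒳₂)) f₁) (FibCat.toSelf 𝒴₁) ≅
    BasedFunctor.comp (BasedFunctor.comp (FibCat.fpSnd (FibCat.toSelf 𝒳₁) (FibCat.toSelf 𝒳₂)) f₂) (FibCat.toSelf 𝒴₂))

/-- The product of two functors. -/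
abbrev prodMap : prodOver 𝒳₁ 𝒳₂ ⥤ᵇ prodOver 𝒴₁ 𝒴₂ :=
  FibCat.fpLift (BasedFunctor.comp (FibCat.fpFst (FibCat.toSelf 𝒳₁) (FibCat.toSelf 𝒳₂)) f₁)
    (BasedFunctor.comp (FibCat.fpSnd (FibCat.toSelf 𝒳₁) (FibCat.toSelf 𝒳₂)) f₂) e

variable {𝒲 : BasedCategory.{v₆, u₆} C} (G : 𝒲 ⥤ᵇ prodOver 𝒴₁ 𝒴₂)

/-- The first component. -/
abbrev fstComp : 𝒲 ⥤ᵇ 𝒴₁ := BasedFunctor.comp G (FibCat.fpFst (FibCat.toSelf 𝒴₁) (FibCat.toSelf 𝒴₂))

/-- The second component. -/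
abbrev sndComp : 𝒲 ⥤ᵇ 𝒴₂ := BasedFunctor.comp G (FibCat.fpSnd (FibCat.toSelf 𝒴₁) (FibCat.toSelf 𝒴₂))

/-- The first stage. -/
abbrev stage₁ : FibCat.fp G (prodMap f₁ f₂ e) ⥤ᵇ FibCat.fp (fstComp G) f₁ :=
  FibCat.fpLift (FibCat.fpFst G (prodMap f₁ f₂ e))
    (BasedFunctor.comp (FibCat.fpSnd G (prodMap f₁ f₂ e)) (FibCat.fpFst (FibCat.toSelf 𝒳₁) (FibCat.toSelf 𝒳₂)))
    (wr (FibCat.fpIso G (prodMap f₁ f₂ e)) (FibCat.fpFst (FibCat.toSelf 𝒴₁) (FibCat.toSelf 𝒴₂)))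

/-- The second stage. -/
abbrev stage₂ : FibCat.fp G (prodMap f₁ f₂ e) ⥤ᵇ
    FibCat.fp (BasedFunctor.comp (FibCat.fpFst (fstComp G) f₁) (sndComp G)) f₂ :=
  FibCat.fpLift (stage₁ f₁ f₂ e G)
    (BasedFunctor.comp (FibCat.fpSnd G (prodMap f₁ f₂ e)) (FibCat.fpSnd (FibCat.toSelf 𝒳₁) (FibCat.toSelf 𝒳₂)))
    (wr (FibCat.fpIso G (prodMap f₁ f₂ e)) (FibCat.fpSnd (FibCat.toSelf 𝒴₁) (FibCat.toSelf 𝒴₂)))

theorem stage₂_isEquivOver : FibCat.IsEquivOver (stage₂ f₁ f₂ e G) := by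
  have : (stage₂ f₁ f₂ e G).toFunctor.Faithful := ⟨fun {z w φ ψ} h => Fp.hom_ext
    (congrArg (fun t : (stage₂ f₁ f₂ e G).obj z ⟶ (stage₂ f₁ f₂ e G).obj w => t.hom.fst.hom.fst) h)
    (Fp.hom_ext
      (congrArg (fun t : (stage₂ f₁ f₂ e G).obj z ⟶ (stage₂ f₁ f₂ e G).obj w => t.hom.fst.hom.snd) h)
      (congrArg (fun t : (stage₂ f₁ f₂ e G).obj z ⟶ (stage₂ f₁ f₂ e G).obj w => t.hom.snd) h))⟩
  have : (stage₂ f₁ f₂ e G).toFunctor.Full := by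
    refine ⟨fun {z w} m => ?_⟩
    let c : z.obj.fst ⟶ w.obj.fst := m.hom.fst.hom.fst
    let x₁ : z.obj.snd.obj.fst ⟶ w.obj.snd.obj.fst := m.hom.fst.hom.snd
    let x₂ : z.obj.snd.obj.snd ⟶ w.obj.snd.obj.snd := m.hom.snd
    have hc : 𝒲.p.IsHomLift (𝒲.p.map c) c := inferInstance
    have h₁ : 𝒳₁.p.IsHomLift (𝒲.p.map c) x₁ := Fp.isHomLift_snd m.hom.fst ((FibCat.fp (fstComp G) f₁).p.map m.hom.fst)
    have h₂ : 𝒳₂.p.IsHomLift (𝒲.p.map c) x₂ :=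
      Fp.isHomLift_snd m ((FibCat.fp (BasedFunctor.comp (FibCat.fpFst (fstComp G) f₁) (sndComp G)) f₂).p.map m)
    let x : z.obj.snd ⟶ w.obj.snd := Fp.mkHom x₁ x₂
      (self_w (F := FibCat.toSelf 𝒳₁) (G := FibCat.toSelf 𝒳₂) x₁ x₂ (𝒲.p.map c))
    refine ⟨Fp.mkHom c x ?_, Fp.hom_ext (Fp.hom_ext rfl rfl) rfl⟩
    exact prod_hom_ext (Fp.w m.hom.fst) (Fp.w m)
  refine isEquivOver_of_ff_essSurj _ fun η => ?_
  let t := η.obj.fst
  let R := 𝒲.p.obj t.obj.fst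
  let a : (fstComp G).obj t.obj.fst ≅ f₁.obj t.obj.snd := t.obj.iso
  let b : (sndComp G).obj t.obj.fst ≅ f₂.obj η.obj.snd := η.obj.iso
  have ha : 𝒴₁.p.IsHomLift (𝟙 R) a.hom := t.property
  have hb : 𝒴₂.p.IsHomLift (𝟙 R) b.hom := η.property
  have p₁ : 𝒳₁.p.obj t.obj.snd = R := Fp.p_snd t
  have p₂ : 𝒳₂.p.obj η.obj.snd = R := Fp.p_snd η
  let y : (prodOver 𝒳₁ 𝒳₂).obj := Fp.mkObj t.obj.snd η.obj.snd (eqToIso (p₁.trans p₂.symm))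
    (IsHomLift.eqToHom_domain_lift_id (p := (FibCat.selfOver C).p) (p₁.trans p₂.symm) rfl)
  let k : G.obj t.obj.fst ≅ (prodMap f₁ f₂ e).obj y :=
    Fp.isoMk (z := G.obj t.obj.fst) (w := (prodMap f₁ f₂ e).obj y) a b
      (self_w (F := FibCat.toSelf 𝒴₁) (G := FibCat.toSelf 𝒴₂) (z := G.obj t.obj.fst)
        (w := (prodMap f₁ f₂ e).obj y) a.hom b.hom (𝟙 R))
  let ξ : (FibCat.fp G (prodMap f₁ f₂ e)).obj := Fp.mkObj t.obj.fst y k ((Fp.isHomLift_iff k.hom _).mpr ha)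
  let i₁ : (stage₁ f₁ f₂ e G).obj ξ ≅ t :=
    Fp.isoMk (z := (stage₁ f₁ f₂ e G).obj ξ) (w := t) (Iso.refl _) (Iso.refl _) (by
      change (fstComp G).map (𝟙 _) ≫ t.obj.iso.hom = t.obj.iso.hom ≫ f₁.map (𝟙 _)
      simp)
  refine ⟨ξ, Fp.isoMk (z := (stage₂ f₁ f₂ e G).obj ξ) (w := η) i₁ (Iso.refl _) ?_,
    isHomLift_isoMk (z := (stage₂ f₁ f₂ e G).obj ξ) (w := η) _ _ _
      (isHomLift_isoMk (z := (stage₁ f₁ f₂ e G).obj ξ) (w := t) _ _ _ (IsHomLift.id rfl))⟩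
  change (sndComp G).map (𝟙 _) ≫ η.obj.iso.hom = η.obj.iso.hom ≫ f₂.map (𝟙 _)
  simp

variable {f₁ f₂}

/-- A product of representable functors is representable. -/
theorem rep1_prodMap (h₁ : FibCat.IsRepresentable1 f₁) (h₂ : FibCat.IsRepresentable1 f₂) :
    FibCat.IsRepresentable1 (prodMap f₁ f₂ e) := by
  intro U G
  obtain ⟨V, j, hj⟩ := exists_chart (h₁ U (fstComp G))
  refine (representable_iff (stage₂_isEquivOver f₁ f₂ e G)).mpr ?_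
  exact (representable_iff (precomp_isEquivOver
    (F := BasedFunctor.comp (FibCat.fpFst (fstComp G) f₁) (sndComp G)) (G := f₂) hj
    (isEquivOver_id 𝒳₂))).mp (h₂ V _)

end ProdMap

section Diagonal

variable {𝒮 : BasedCategory.{v₂, u₂} C} {𝒲 : BasedCategory.{v₆, u₆} C}
  (H : 𝒲 ⥤ᵇ prodOver 𝒮 𝒮)

/-- The pairs underlying a point of the pullback of the diagonal. -/
abbrev points : FibCat.fp H (FibCat.diag (FibCat.toSelf 𝒮)) ⥤ᵇ FibCat.fp (fstComp H) (sndComp H) :=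
  FibCat.fpLift (FibCat.fpFst H (FibCat.diag (FibCat.toSelf 𝒮))) (FibCat.fpFst H (FibCat.diag (FibCat.toSelf 𝒮)))
    (wr (FibCat.fpIso H (FibCat.diag (FibCat.toSelf 𝒮))) (FibCat.fpFst (FibCat.toSelf 𝒮) (FibCat.toSelf 𝒮)) ≪≫
      (wr (FibCat.fpIso H (FibCat.diag (FibCat.toSelf 𝒮))) (FibCat.fpSnd (FibCat.toSelf 𝒮) (FibCat.toSelf 𝒮))).symm)

theorem points_iso (z : (FibCat.fp H (FibCat.diag (FibCat.toSelf 𝒮))).obj) :
    ((points H).obj z).obj.iso.hom = z.obj.iso.hom.hom.fst ≫ z.obj.iso.inv.hom.snd := rfl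

/-- The underlying pair of arguments. -/
abbrev toPair : FibCat.fp (fstComp H) (sndComp H) ⥤ᵇ prodOver 𝒲 𝒲 :=
  FibCat.fpLift (FibCat.fpFst (fstComp H) (sndComp H)) (FibCat.fpSnd (fstComp H) (sndComp H)) (selfIso _ _)

/-- The comparison 2-cell. -/
abbrev pointsIso : BasedFunctor.comp (points H) (toPair H) ≅
    BasedFunctor.comp (FibCat.fpFst H (FibCat.diag (FibCat.toSelf 𝒮))) (FibCat.diag (FibCat.toSelf 𝒲)) :=
  fpIsoMk (F := FibCat.toSelf 𝒲) (G := FibCat.toSelf 𝒲) (Iso.refl _) (Iso.refl _) (fun z => by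
    have h1 : 𝒲.p.IsHomLift (𝟙 (𝒲.p.obj z.obj.fst)) (𝟙 z.obj.fst) := IsHomLift.id rfl
    exact self_w (F := FibCat.toSelf 𝒲) (G := FibCat.toSelf 𝒲)
      (z := (BasedFunctor.comp (points H) (toPair H)).obj z)
      (w := (BasedFunctor.comp (FibCat.fpFst H (FibCat.diag (FibCat.toSelf 𝒮))) (FibCat.diag (FibCat.toSelf 𝒲))).obj z)
      (𝟙 z.obj.fst) (𝟙 z.obj.fst) (𝟙 (𝒲.p.obj z.obj.fst)))

/-- The comparison of the pullback of the diagonal with the diagonal of the source. -/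
abbrev toSourceDiag : FibCat.fp H (FibCat.diag (FibCat.toSelf 𝒮)) ⥤ᵇ
    FibCat.fp (toPair H) (FibCat.diag (FibCat.toSelf 𝒲)) :=
  FibCat.fpLift (points H) (FibCat.fpFst H (FibCat.diag (FibCat.toSelf 𝒮))) (pointsIso H)

theorem toSourceDiag_isEquivOver : FibCat.IsEquivOver (toSourceDiag H) := by
  have : (toSourceDiag H).toFunctor.Faithful := ⟨fun {z w φ ψ} h => by
    have h₁ : φ.hom.fst = ψ.hom.fst :=
      congrArg (fun t : (toSourceDiag H).obj z ⟶ (toSourceDiag H).obj w => t.hom.snd) h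
    refine Fp.hom_ext h₁ ?_
    have e₁ := congrArg (fun t => t.hom.fst) (Fp.w φ)
    have e₂ := congrArg (fun t => t.hom.fst) (Fp.w ψ)
    rw [← cancel_epi z.obj.iso.hom.hom.fst]
    exact e₁.symm.trans ((congrArg (fun t => (H.map t ≫ w.obj.iso.hom).hom.fst) h₁).trans e₂)⟩
  have : (toSourceDiag H).toFunctor.Full := by
    refine ⟨fun {z w} m => ?_⟩
    let c₁ : z.obj.fst ⟶ w.obj.fst := m.hom.fst.hom.fst
    let c₂ : z.obj.fst ⟶ w.obj.fst := m.hom.fst.hom.snd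
    let c : z.obj.fst ⟶ w.obj.fst := m.hom.snd
    have hd₁ : c₁ ≫ 𝟙 _ = 𝟙 _ ≫ c := congrArg (fun t => t.hom.fst) (Fp.w m)
    have hd₂ : c₂ ≫ 𝟙 _ = 𝟙 _ ≫ c := congrArg (fun t => t.hom.snd) (Fp.w m)
    have h1 : c₁ = c := by simpa using hd₁
    have h2 : c₂ = c := by simpa using hd₂
    let s : z.obj.snd ⟶ w.obj.snd := z.obj.iso.inv.hom.fst ≫ (H.map c).hom.fst ≫ w.obj.iso.hom.hom.fst
    have hsq : (H.map c).hom.fst ≫ w.obj.iso.hom.hom.fst ≫ w.obj.iso.inv.hom.snd =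
        (z.obj.iso.hom.hom.fst ≫ z.obj.iso.inv.hom.snd) ≫ (H.map c).hom.snd := by
      have h : (H.map c₁).hom.fst ≫ w.obj.iso.hom.hom.fst ≫ w.obj.iso.inv.hom.snd =
          (z.obj.iso.hom.hom.fst ≫ z.obj.iso.inv.hom.snd) ≫ (H.map c₂).hom.snd := Fp.w m.hom.fst
      rwa [h1, h2] at h
    let i := ((FibCat.fpSnd (FibCat.toSelf 𝒮) (FibCat.toSelf 𝒮)).toFunctor.mapIso z.obj.iso)
    let i' := ((FibCat.fpSnd (FibCat.toSelf 𝒮) (FibCat.toSelf 𝒮)).toFunctor.mapIso w.obj.iso)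
    let j := ((FibCat.fpFst (FibCat.toSelf 𝒮) (FibCat.toSelf 𝒮)).toFunctor.mapIso z.obj.iso)
    let j' := ((FibCat.fpFst (FibCat.toSelf 𝒮) (FibCat.toSelf 𝒮)).toFunctor.mapIso w.obj.iso)
    have hsq' : (H.map c).hom.fst ≫ j'.hom ≫ i'.inv = (j.hom ≫ i.inv) ≫ (H.map c).hom.snd := hsq
    have e₁ : (H.map c).hom.fst ≫ j'.hom = j.hom ≫ (j.inv ≫ (H.map c).hom.fst ≫ j'.hom) :=
      (j.hom_inv_id_assoc _).symm
    have e₂ : (H.map c).hom.snd ≫ i'.hom = i.hom ≫ (j.inv ≫ (H.map c).hom.fst ≫ j'.hom) := by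
      have h3 : (H.map c).hom.fst ≫ j'.hom = ((j.hom ≫ i.inv) ≫ (H.map c).hom.snd) ≫ i'.hom := by
        have h4 := hsq' =≫ i'.hom
        simp only [Category.assoc, Iso.inv_hom_id] at h4
        simp only [Category.assoc]
        exact (congrArg ((H.map c).hom.fst ≫ ·) (Category.comp_id j'.hom)).symm.trans h4
      rw [h3]
      simp
    refine ⟨Fp.mkHom c s (prod_hom_ext e₁ e₂), ?_⟩
    exact Fp.hom_ext (Fp.hom_ext h1.symm h2.symm) rfl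
  refine isEquivOver_of_ff_essSurj _ fun η => ?_
  let t := η.obj.fst
  let c := η.obj.snd
  let R := 𝒲.p.obj t.obj.fst
  let da : t.obj.fst ≅ c :=
    (FibCat.fpFst (FibCat.toSelf 𝒲) (FibCat.toSelf 𝒲)).toFunctor.mapIso η.obj.iso
  let db : t.obj.snd ≅ c :=
    (FibCat.fpSnd (FibCat.toSelf 𝒲) (FibCat.toSelf 𝒲)).toFunctor.mapIso η.obj.iso
  have hη : (prodOver 𝒲 𝒲).p.IsHomLift (𝟙 R) η.obj.iso.hom := η.property
  have hda : 𝒲.p.IsHomLift (𝟙 R) da.hom := (Fp.isHomLift_iff η.obj.iso.hom _).mp hη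
  have hdb : 𝒲.p.IsHomLift (𝟙 R) db.hom := Fp.isHomLift_snd η.obj.iso.hom _
  have hc : 𝒲.p.obj c = R := IsHomLift.codomain_eq 𝒲.p (𝟙 R) da.hom
  have ht : 𝒮.p.IsHomLift (𝟙 R) t.obj.iso.hom := t.property
  let α : (fstComp H).obj c ≅ (sndComp H).obj c :=
    (fstComp H).toFunctor.mapIso da.symm ≪≫ t.obj.iso ≪≫ (sndComp H).toFunctor.mapIso db
  have hα : 𝒮.p.IsHomLift (𝟙 R) α.hom := by
    have h1 : 𝒲.p.IsHomLift (𝟙 R) da.inv := inferInstance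
    simp only [α, Iso.trans_hom, Functor.mapIso_hom, Iso.symm_hom]
    infer_instance
  let s : 𝒮.obj := (sndComp H).obj c
  have hs : 𝒮.p.IsHomLift (𝟙 R) (Iso.refl s).hom := IsHomLift.id (((sndComp H).w_obj c).trans hc)
  let k : H.obj c ≅ (FibCat.diag (FibCat.toSelf 𝒮)).obj s :=
    Fp.isoMk (z := H.obj c) (w := (FibCat.diag (FibCat.toSelf 𝒮)).obj s) α (Iso.refl s)
      (self_w (F := FibCat.toSelf 𝒮) (G := FibCat.toSelf 𝒮) (z := H.obj c)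
        (w := (FibCat.diag (FibCat.toSelf 𝒮)).obj s) α.hom (Iso.refl s).hom (𝟙 R))
  let ξ : (FibCat.fp H (FibCat.diag (FibCat.toSelf 𝒮))).obj :=
    Fp.mkObj c s k ((Fp.isHomLift_iff k.hom _).mpr (hc.symm ▸ hα))
  let i₁ : (points H).obj ξ ≅ t :=
    Fp.isoMk (z := (points H).obj ξ) (w := t) da.symm db.symm (by
      change (fstComp H).map da.inv ≫ t.obj.iso.hom = (α.hom ≫ 𝟙 _) ≫ (sndComp H).map db.inv
      simp [α, ← (sndComp H).toFunctor.map_comp])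
  refine ⟨ξ, Fp.isoMk (z := (toSourceDiag H).obj ξ) (w := η) i₁ (Iso.refl _) ?_, ?_⟩
  · apply prod_hom_ext
    · change da.inv ≫ da.hom = 𝟙 _ ≫ 𝟙 _
      simp
    · change db.inv ≫ db.hom = 𝟙 _ ≫ 𝟙 _
      simp
  · refine (Fp.isHomLift_iff _ _).mpr ((Fp.isHomLift_iff _ _).mpr ?_)
    change 𝒲.p.IsHomLift (𝟙 R) da.inv
    infer_instance

end Diagonal

/-- Representability of the diagonal of a slice. -/
theorem rep1_diag_slice [HasBinaryProducts C] [HasPullbacks C] (U : C) :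
    FibCat.IsRepresentable1 (FibCat.diag (FibCat.toSelf (FibCat.overCat U))) := by
  obtain ⟨K, hK⟩ := isEquivOver_prodChart U U
  obtain ⟨L, hL, -, ⟨e⟩⟩ := isEquivOver_inverse hK
  exact (rep1_postcomp_iff hL).mp (rep1_slice _)

end Groth.Agent.Lib.Fibred.Product
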