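import Mathlib.CategoryTheory.Sites.InducedTopology
import Mathlib.CategoryTheory.Sites.Over
import Mathlib.CategoryTheory.Sites.CoverPreserving
import Mathlib.CategoryTheory.Sites.CoverLifting
import Groth.Agent.Lib.Fibred.Basic

/-!
# The topology inherited by a category fibred in groupoids
-/

set_option autoImplicit false
set_option backward.isDefEq.respectTransparency false
set_option backward.isDefEq.respectTransparency.types false

universe v₂ u₂ v₃ u₃ v u

open CategoryTheory CategoryTheory.Functor Groth.Agent.Lib.Fibred.Basic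

namespace Groth.Agent.Lib.Fibred.Restricted

variable {C : Type u} [Category.{v} C] {𝒳 : Type u₂} [Category.{v₂} 𝒳] {p : 𝒳 ⥤ C}
  (h : FibCat.IsFibGrpd p)

include h

theorem exists_lift {x : 𝒳} {V : C} (f : V ⟶ p.obj x) : ∃ (z : 𝒳) (ψ : z ⟶ x), p.IsHomLift f ψ := by
  obtain ⟨z, ψ, hψ⟩ := exists_lift_of_grpd h rfl f
  exact ⟨z, ψ, inferInstance⟩

theorem exists_factor {V' V W : C} (k : V' ⟶ V) (f : V ⟶ W) {y x z : 𝒳} (φ : y ⟶ x) [p.IsHomLift f φ]
    (ψ : z ⟶ x) [p.IsHomLift (k ≫ f) ψ] : ∃ θ : z ⟶ y, p.IsHomLift k θ ∧ θ ≫ φ = ψ := by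
  have := stronglyCartesian_of_grpd h f φ
  exact (IsStronglyCartesian.universal_property p f φ k (k ≫ f) rfl ψ).exists

/-- An arrow is in the image sieve exactly when any lift of it is in the sieve. -/
theorem pushforward_iff {x : 𝒳} (S : Sieve x) {V : C} (f : V ⟶ p.obj x) {z : 𝒳} (ψ : z ⟶ x)
    [p.IsHomLift f ψ] : S.functorPushforward p f ↔ S ψ := by
  constructor
  · rintro ⟨y, g, k, hg, rfl⟩
    have : p.IsHomLift (k ≫ p.map g) ψ := ‹_›
    obtain ⟨θ, -, rfl⟩ := exists_factor h k (p.map g) g ψ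
    exact S.downward_closed hg θ
  · intro hS
    exact ⟨z, ψ, eqToHom (IsHomLift.domain_eq p f ψ).symm, hS, by simp [IsHomLift.fac' p f ψ]⟩

theorem pushforward_map_iff {x y : 𝒳} (S : Sieve x) (g : y ⟶ x) : S.functorPushforward p (p.map g) ↔ S g :=
  pushforward_iff h S (p.map g) g

theorem pushforward_pullback {x y : 𝒳} (S : Sieve x) (g : y ⟶ x) :
    (S.pullback g).functorPushforward p = (S.functorPushforward p).pullback (p.map g) := by
  ext V f
  obtain ⟨z, ψ, hψ⟩ := exists_lift h f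
  rw [pushforward_iff h (S.pullback g) f ψ, Sieve.pullback_apply, Sieve.pullback_apply,
    pushforward_iff h S (f ≫ p.map g) (ψ ≫ g)]

theorem pushforward_pull {x : 𝒳} (R : Sieve (p.obj x)) : (R.functorPullback p).functorPushforward p = R := by
  ext V f
  obtain ⟨z, ψ, hψ⟩ := exists_lift h f
  rw [pushforward_iff h _ f ψ]
  change R (p.map ψ) ↔ R f
  have e : p.map ψ = eqToHom (IsHomLift.domain_eq p f ψ) ≫ f := by simpa using IsHomLift.fac' p f ψ
  rw [e]
  refine ⟨fun hR => ?_, fun hR => R.downward_closed hR _⟩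
  simpa using R.downward_closed hR (eqToHom (IsHomLift.domain_eq p f ψ).symm)

variable (J : GrothendieckTopology C)

/-- The sieves with covering image are exactly the covering sieves of the inherited topology. -/
theorem mem_restricted_iff {x : 𝒳} (S : Sieve x) :
    S ∈ p.restrictedTopology J x ↔ S.functorPushforward p ∈ J (p.obj x) := by
  refine ⟨fun hS => ?_, mem_restrictedTopology_of_functorPushforward_mem⟩
  rw [Functor.restrictedTopology] at hS
  induction hS with
  | of X S hS => rwa [← Sieve.generate_map_eq_functorPushforward]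
  | top X => simp
  | pullback X S _ Y f ih =>
    rw [pushforward_pullback h]
    exact J.pullback_stable _ ih
  | transitive X S R _ _ hS H' =>
    apply J.transitive hS
    rintro V _ ⟨Y, g, k, hg, rfl⟩
    rw [Sieve.pullback_comp]
    apply J.pullback_stable
    rw [← pushforward_pullback h]
    exact H' hg

/-- The post-composition functor on slices is an equivalence. -/
theorem overPost_isEquivalence (x : 𝒳) : (Over.post p : Over x ⥤ Over (p.obj x)).IsEquivalence := by
  refine { faithful := ⟨fun {a b m n} e => ?_⟩, full := ⟨fun {a b} m => ?_⟩, essSurj := ⟨fun b => ?_⟩ }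
  · have e' : p.map m.left = p.map n.left := congrArg CommaMorphism.left e
    have : p.IsHomLift (p.map m.left) n.left := by rw [e']; infer_instance
    have := stronglyCartesian_of_grpd h (p.map b.hom) b.hom
    exact Over.OverMorphism.ext (IsStronglyCartesian.ext p (p.map b.hom) b.hom (p.map m.left)
      ((Over.w m).trans (Over.w n).symm))
  · have e : p.map a.hom = m.left ≫ p.map b.hom := (Over.w m).symm
    have : p.IsHomLift (m.left ≫ p.map b.hom) a.hom := by rw [← e]; infer_instance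
    obtain ⟨θ, hθ, hθe⟩ := exists_factor h m.left (p.map b.hom) b.hom a.hom
    refine ⟨Over.homMk θ hθe, Over.OverMorphism.ext ?_⟩
    change p.map θ = m.left
    exact (IsHomLift.fac' p m.left θ).trans ((Category.id_comp _).trans (Category.comp_id _))
  · obtain ⟨z, ψ, hψ⟩ := exists_lift h b.hom
    have ez : p.obj z = b.left := IsHomLift.domain_eq p b.hom ψ
    refine ⟨Over.mk ψ, ⟨Over.isoMk (eqToIso ez) ?_⟩⟩
    change eqToHom ez ≫ b.hom = p.map ψ
    simp [IsHomLift.fac' p b.hom ψ]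

theorem over_mem_iff (x : 𝒳) (a : Over x) (S : Sieve a) :
    S ∈ (p.restrictedTopology J).over x a ↔
      S.functorPushforward (Over.post p) ∈ (J.over (p.obj x)) ((Over.post p).obj a) := by
  rw [GrothendieckTopology.mem_over_iff, GrothendieckTopology.mem_over_iff,
    Sieve.overEquiv_functorPushforward_post, mem_restricted_iff h]
  rfl

section Functor

variable {𝒴 : Type u₃} [Category.{v₃} 𝒴] {q : 𝒴 ⥤ C} (h' : FibCat.IsFibGrpd q) (F : 𝒳 ⥤ 𝒴) (w : F ⋙ q = p)

include h' w

omit h' in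
theorem map_isHomLift {V W : C} (f : V ⟶ W) {a b : 𝒳} (ψ : a ⟶ b) [p.IsHomLift f ψ] :
    q.IsHomLift f (F.map ψ) := by
  subst w
  exact IsHomLift.of_fac q f (F.map ψ) (IsHomLift.domain_eq (F ⋙ q) f ψ) (IsHomLift.codomain_eq (F ⋙ q) f ψ)
    (IsHomLift.fac (F ⋙ q) f ψ)

theorem mem_iff_pushforward_mem {x : 𝒳} (S : Sieve x) :
    S ∈ p.restrictedTopology J x ↔ S.functorPushforward F ∈ q.restrictedTopology J (F.obj x) := by
  rw [mem_restricted_iff h, mem_restricted_iff h', ← Sieve.functorPushforward_comp]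
  subst w
  rfl

theorem coverPreserving : CoverPreserving (p.restrictedTopology J) (q.restrictedTopology J) F :=
  ⟨fun hS => (mem_iff_pushforward_mem h J h' F w _).mp hS⟩

theorem isCocontinuous : F.IsCocontinuous (p.restrictedTopology J) (q.restrictedTopology J) := by
  refine ⟨fun {x} {S} hS => (mem_iff_pushforward_mem h J h' F w _).mpr ?_⟩
  refine (q.restrictedTopology J).superset_covering (fun y g hg => ?_) hS
  have e : q.obj (F.obj x) = p.obj x := Functor.congr_obj w x
  obtain ⟨z, ψ, hψ⟩ := exists_lift h (q.map g ≫ eqToHom e)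
  have := map_isHomLift h F w (q.map g ≫ eqToHom e) ψ
  have : q.IsHomLift (q.map g ≫ eqToHom e) g := IsHomLift.of_fac q _ g rfl e (by simp)
  have : q.IsHomLift (𝟙 (q.obj y) ≫ q.map g ≫ eqToHom e) g := by rw [Category.id_comp]; infer_instance
  obtain ⟨θ, hθ, hθe⟩ := exists_factor h' (𝟙 (q.obj y)) (q.map g ≫ eqToHom e) (F.map ψ) g
  have : IsIso θ := isIso_of_grpd_lift h' (q.obj y) θ
  refine ⟨z, ψ, θ, ?_, hθe.symm⟩
  change S (F.map ψ)
  rw [show F.map ψ = inv θ ≫ g by rw [← hθe, IsIso.inv_hom_id_assoc]]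
  exact S.downward_closed hg _

theorem isContinuous :
    F.IsContinuous (p.restrictedTopology J) (q.restrictedTopology J) := by
  refine Functor.isContinuous_of_coverPreserving ⟨?_⟩ (coverPreserving h J h' F w)
  intro ℱ Z T x hx Y₁ Y₂ X f₁ f₂ g₁ g₂ hg₁ hg₂ e
  subst w
  obtain ⟨X', ψ₁, hψ₁⟩ := exists_lift h (q.map f₁)
  have : q.IsHomLift (q.map f₁) (F.map ψ₁) := map_isHomLift h F rfl (q.map f₁) ψ₁
  have : q.IsHomLift (𝟙 (q.obj X) ≫ q.map f₁) f₁ := by rw [Category.id_comp]; infer_instance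
  obtain ⟨θ, hθ, hθe⟩ := exists_factor h' (𝟙 (q.obj X)) (q.map f₁) (F.map ψ₁) f₁
  have : IsIso θ := isIso_of_grpd_lift h' (q.obj X) θ
  have : (F ⋙ q).IsHomLift (q.map f₁ ≫ (F ⋙ q).map g₁) (ψ₁ ≫ g₁) := inferInstance
  have e₀ : q.map f₁ ≫ (F ⋙ q).map g₁ = q.map f₂ ≫ (F ⋙ q).map g₂ := by
    change q.map f₁ ≫ q.map (F.map g₁) = q.map f₂ ≫ q.map (F.map g₂)
    rw [← q.map_comp, ← q.map_comp, e]
  have : (F ⋙ q).IsHomLift (q.map f₂ ≫ (F ⋙ q).map g₂) (ψ₁ ≫ g₁) := by rw [← e₀]; infer_instance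
  obtain ⟨ψ₂, hψ₂, hψ₂e⟩ := exists_factor h (q.map f₂) ((F ⋙ q).map g₂) g₂ (ψ₁ ≫ g₁)
  have e₂ : θ ≫ F.map ψ₂ = f₂ := by
    have : q.IsHomLift (q.map f₂) (F.map ψ₂) := map_isHomLift h F rfl (q.map f₂) ψ₂
    have : q.IsHomLift (q.map f₂) (θ ≫ F.map ψ₂) := IsHomLift.comp_lift_id_left' q (q.obj X) θ (q.map f₂) (F.map ψ₂)
    have := stronglyCartesian_of_grpd h' (q.map (F.map g₂)) (F.map g₂)
    refine IsStronglyCartesian.ext q (q.map (F.map g₂)) (F.map g₂) (q.map f₂) ?_
    rw [Category.assoc, ← F.map_comp, hψ₂e, F.map_comp, ← Category.assoc, hθe, e]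
  have key := hx ψ₁ ψ₂ hg₁ hg₂ hψ₂e.symm
  rw [← hθe, ← e₂, op_comp, op_comp, Functor.map_comp_apply, Functor.map_comp_apply]
  exact congrArg (ℱ.obj.map θ.op) key

end Functor

end Groth.Agent.Lib.Fibred.Restricted
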