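import Groth.Prelude.Def_AlgSt
import Groth.Prelude.Def_FibCat2
import Groth.Prelude.Def_W4c2modmodulilectNerve
import Groth.Agent.Lib.Fibred.Descent
import Mathlib.CategoryTheory.Category.ULift
import Mathlib.CategoryTheory.Comma.StructuredArrow.Basic

/-!
# Sections over a diagram with simply connected comma categories
-/

set_option autoImplicit false
set_option backward.isDefEq.respectTransparency false
set_option backward.isDefEq.respectTransparency.types false

universe w v₃ u₃ v₂ u₂ v₁ u₁

open CategoryTheory CategoryTheory.Functor Groth.Agent.Lib.Fibred.Basic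

namespace Groth.Agent.Lib.Fibred.Sections

/-- Functors to a groupoid are isomorphic to constants and invariant families are constant. -/
def Good.{a, b, c, d} (I : Type b) [Category.{a} I] : Prop :=
  Nonempty I ∧ ∀ (G : Type d) [Category.{c} G] [IsGroupoid G],
    (∀ K : I ⥤ G, ∃ g : G, Nonempty (K ≅ (Functor.const I).obj g)) ∧
    ∀ (g g' : G) (t : I → (g ⟶ g')), (∀ ⦃i j : I⦄, (i ⟶ j) → t i = t j) → ∀ i j, t i = t j

theorem good_of_contractible {I : Type u₁} [Category.{v₁} I]
    (h : W4c2modmodulilect.HasContractibleNerve.{max w u₃ v₃, max w u₃ v₃} I) :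
    Good.{v₁, u₁, v₃, u₃} I := by
  refine ⟨h.1, fun G _ _ => ?_⟩
  letI : Groupoid.{max w u₃ v₃} (AsSmall.{max w u₃ v₃} G) := Groupoid.ofIsIso fun {X Y} f => by
    have : IsIso ((AsSmall.down (C := G)).map f) := IsGroupoid.all_isIso _
    exact isIso_of_reflects_iso f (AsSmall.equiv (C := G)).inverse
  have hE := h.2 (AsSmall.{max w u₃ v₃} G)
  let up : G ⥤ AsSmall.{max w u₃ v₃} G := AsSmall.up
  let down : AsSmall.{max w u₃ v₃} G ⥤ G := AsSmall.down
  refine ⟨fun K => ?_, fun g g' t ht i j => ?_⟩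
  · obtain ⟨g, ⟨e⟩⟩ := hE.essSurj.mem_essImage (K ⋙ up)
    exact ⟨down.obj g, ⟨(isoWhiskerRight e down).symm⟩⟩
  · let α : (Functor.const I).obj (up.obj g) ⟶ (Functor.const I).obj (up.obj g') :=
      { app := fun k => up.map (t k)
        naturality := fun a b m => (Category.id_comp _).trans
          ((congrArg up.map (ht m).symm).trans (Category.comp_id _).symm) }
    obtain ⟨s, hs⟩ := hE.full.map_surjective α
    have e : ∀ k, t k = down.map s := fun k => (congrArg (fun a : (Functor.const I).obj (up.obj g) ⟶ (Functor.const I).obj (up.obj g') =>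
      down.map (a.app k)) hs).symm
    rw [e i, e j]

theorem good_transfer {I : Type u₁} [Category.{v₁} I] {J : Type u₂} [Category.{v₂} J] (i : I ⥤ J)
    (r : J ⥤ I) (ε : r ⋙ i ⟶ 𝟭 J) (h : Good.{v₁, u₁, v₃, u₃} I) : Good.{v₂, u₂, v₃, u₃} J := by
  refine ⟨h.1.map i.obj, fun G _ _ => ⟨fun K => ?_, fun g g' t ht a b => ?_⟩⟩
  · obtain ⟨g, ⟨e⟩⟩ := (h.2 G).1 (i ⋙ K)
    exact ⟨g, ⟨(NatIso.ofComponents (fun j => (@asIso _ _ _ _ (K.map (ε.app j)) (IsGroupoid.all_isIso _)).symm ≪≫
      e.app (r.obj j)) (fun {a b} m => by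
        have : IsIso (K.map (ε.app a)) := IsGroupoid.all_isIso _
        have : IsIso (K.map (ε.app b)) := IsGroupoid.all_isIso _
        have h1 := congrArg K.map (ε.naturality m)
        simp only [K.map_comp, Functor.comp_map, Functor.id_map] at h1
        have h2 := e.hom.naturality (r.map m)
        simp only [Functor.comp_map, Functor.const_obj_map, Category.comp_id] at h2
        simp only [Iso.trans_hom, Iso.symm_hom, asIso_inv, Iso.app_hom, Functor.const_obj_map, Category.comp_id]
        rw [← cancel_epi (K.map (ε.app a))]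
        simp only [Category.assoc, IsIso.hom_inv_id_assoc]
        rw [← reassoc_of% h1, IsIso.hom_inv_id_assoc, h2]))⟩⟩
  · have h1 : ∀ j, t (i.obj (r.obj j)) = t j := fun j => ht (ε.app j)
    rw [← h1 a, ← h1 b]
    exact (h.2 G).2 g g' (fun k => t (i.obj k)) (fun k l m => ht (i.map m)) _ _

variable {C : Type u₁} [Category.{v₁} C] {D : Type u₂} [Category.{v₂} D] {F : Type u₃} [Category.{v₃} F]
  (φ : C ⥤ D) {p : F ⥤ D} (hp : FibCat.IsFibGrpd p)

theorem main (hφ : ∀ Y : D, Good.{v₁, max u₁ v₂, v₃, u₃} (StructuredArrow Y φ)) (hp : FibCat.IsFibGrpd p) :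
    (Stk.restr (FibCat.toSelf (BasedCategory.ofFunctor φ)) (BasedCategory.ofFunctor p)).IsEquivalence := by
  let 𝒞 := BasedCategory.ofFunctor φ
  let ℱ := BasedCategory.ofFunctor p
  have hG : ∀ (G : FibCat.selfOver D ⥤ᵇ ℱ) {Y Z : D} (k : Y ⟶ Z), p.IsHomLift k (G.map k) := fun G Y Z k => by
    have : (FibCat.selfOver D).p.IsHomLift k k := IsHomLift.map (𝟭 D) k
    exact (inferInstance : ℱ.p.IsHomLift k (G.map k))
  have hCart : ∀ {Y Z : D} {k : Y ⟶ Z} {a b : F} (m : a ⟶ b), p.IsHomLift k m → p.IsStronglyCartesian k m :=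
    fun {Y Z k a b} m hm => stronglyCartesian_of_grpd hp k m
  refine { faithful := ⟨fun {G G'} α β e => ?_⟩, full := ⟨fun {G G'} β => ?_⟩, essSurj := ⟨fun H => ?_⟩ }
  · apply BasedNatTrans.homCategory.ext
    apply NatTrans.ext
    funext Y
    obtain ⟨i⟩ := (hφ Y).1
    have e1 : α.toNatTrans.app (φ.obj i.right) = β.toNatTrans.app (φ.obj i.right) :=
      congrArg (fun s => s.toNatTrans.app i.right) e
    have := hCart (G'.map i.hom) (hG G' i.hom)
    have : p.IsHomLift (𝟙 Y) (α.toNatTrans.app Y) := α.isHomLift' Y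
    have : p.IsHomLift (𝟙 Y) (β.toNatTrans.app Y) := β.isHomLift' Y
    refine IsCartesian.ext p i.hom (G'.map i.hom) _ _ ?_
    rw [← α.toNatTrans.naturality, ← β.toNatTrans.naturality, e1]
  · have hY : ∀ (Y : D) (i : StructuredArrow Y φ), ∃ t : G.obj Y ⟶ G'.obj Y, p.IsHomLift (𝟙 Y) t ∧
        t ≫ G'.map i.hom = G.map i.hom ≫ β.toNatTrans.app i.right := fun Y i => by
      have := hCart (G'.map i.hom) (hG G' i.hom)
      have := hG G i.hom
      have h2 : p.IsHomLift (𝟙 (φ.obj i.right)) (β.toNatTrans.app i.right) := β.isHomLift' i.right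
      have : p.IsHomLift i.hom (G.map i.hom ≫ β.toNatTrans.app i.right) :=
        IsHomLift.comp_lift_id_right' p i.hom (G.map i.hom) (φ.obj i.right) (β.toNatTrans.app i.right)
      exact (IsCartesian.universal_property (p := p) (f := i.hom) (φ := G'.map i.hom) _).exists
    choose t ht hte using hY
    have hconst : ∀ (Y : D) (i j : StructuredArrow Y φ), t Y i = t Y j := by
      intro Y i j
      let A : p.Fiber Y := ⟨G.obj Y, G.w_obj Y⟩
      let B : p.Fiber Y := ⟨G'.obj Y, G'.w_obj Y⟩
      have := isGroupoid_fiber_of_grpd hp Y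
      have h1 := ((hφ Y).2 (p.Fiber Y)).2 A B (fun k => ⟨t Y k, ht Y k⟩) (fun k l m => ?_) i j
      · exact congrArg Subtype.val h1
      · apply Fiber.hom_ext
        change t Y k = t Y l
        have := hCart (G'.map l.hom) (hG G' l.hom)
        have := ht Y k
        have := ht Y l
        refine IsCartesian.ext p l.hom (G'.map l.hom) _ _ ?_
        rw [hte Y l, ← StructuredArrow.w m, G.toFunctor.map_comp, G'.toFunctor.map_comp, reassoc_of% (hte Y k),
          Category.assoc]
        congr 1
        exact (β.toNatTrans.naturality m.right).symm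
    let app : ∀ Y : D, G.obj Y ⟶ G'.obj Y := fun Y => t Y (hφ Y).1.some
    have happ : ∀ (Y : D) (i : StructuredArrow Y φ), app Y ≫ G'.map i.hom = G.map i.hom ≫ β.toNatTrans.app i.right :=
      fun Y i => by
        change t Y (hφ Y).1.some ≫ _ = _
        rw [hconst Y (hφ Y).1.some i]; exact hte Y i
    refine ⟨⟨{ app := app, naturality := fun Y Z k => ?_ }, fun Y => ht Y _⟩, ?_⟩
    · obtain ⟨i⟩ := (hφ Z).1
      let i' : StructuredArrow Y φ := StructuredArrow.mk (k ≫ i.hom)
      have := hG G k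
      have := hG G' k
      have hz : p.IsHomLift (𝟙 Z) (app Z) := ht Z _
      have hy : p.IsHomLift (𝟙 Y) (app Y) := ht Y _
      have h1 : p.IsHomLift k (G.map k ≫ app Z) := IsHomLift.comp_lift_id_right' p k (G.map k) Z (app Z)
      have h2 : p.IsHomLift k (app Y ≫ G'.map k) := IsHomLift.comp_lift_id_left' p Y (app Y) k (G'.map k)
      have := hCart (G'.map i.hom) (hG G' i.hom)
      refine IsStronglyCartesian.ext p i.hom (G'.map i.hom) k ?_
      rw [Category.assoc, happ Z i, Category.assoc, ← G'.toFunctor.map_comp, ← Category.assoc,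
        ← G.toFunctor.map_comp]
      exact (happ Y i').symm
    · apply BasedNatTrans.homCategory.ext
      apply NatTrans.ext
      funext c
      have := happ (φ.obj c) (StructuredArrow.mk (𝟙 (φ.obj c)))
      change app (φ.obj c) = β.toNatTrans.app c
      simpa [G.toFunctor.map_id, G'.toFunctor.map_id] using this
  · have hlift : ∀ (Y : D) (i : StructuredArrow Y φ), ∃ (z : F) (ψ : z ⟶ H.obj i.right), p.IsHomLift i.hom ψ :=
      fun Y i => Descent.exists_lift (𝒳 := ℱ) hp (H.w_obj i.right : p.obj (H.obj i.right) = φ.obj i.right) i.hom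
    choose L l hl using hlift
    have hHm : ∀ {a b : C} (m : a ⟶ b), p.IsHomLift (φ.map m) (H.map m) := fun {a b} m => by
      have : 𝒞.p.IsHomLift (φ.map m) m := IsHomLift.map φ m
      exact (inferInstance : ℱ.p.IsHomLift (φ.map m) (H.map m))
    have exμ : ∀ (Y : D) {i j : StructuredArrow Y φ} (m : i ⟶ j),
        ∃! μ : L Y i ⟶ L Y j, p.IsHomLift (𝟙 Y) μ ∧ μ ≫ l Y j = l Y i ≫ H.map m.right := fun Y {i j} m => by
      have := hCart (l Y j) (hl Y j)
      have := hl Y i
      have := hHm m.right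
      have h1 : p.IsHomLift (i.hom ≫ φ.map m.right) (l Y i ≫ H.map m.right) := inferInstance
      rw [StructuredArrow.w m] at h1
      exact IsCartesian.universal_property (p := p) (f := j.hom) (φ := l Y j) _
    have hobj : ∀ Y : D, ∃ (g : p.Fiber Y) (ι : ∀ i : StructuredArrow Y φ, g.1 ⟶ H.obj i.right),
        (∀ i, p.IsHomLift i.hom (ι i)) ∧ ∀ {i j : StructuredArrow Y φ} (m : i ⟶ j), ι i ≫ H.map m.right = ι j := by
      intro Y
      choose μ hμ hμu using @exμ Y
      let fb : ∀ i, p.Fiber Y := fun i => ⟨L Y i, haveI := hl Y i; IsHomLift.domain_eq p i.hom (l Y i)⟩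
      let K : StructuredArrow Y φ ⥤ p.Fiber Y :=
        { obj := fb
          map := fun {i j} m => (⟨μ m, (hμ m).1⟩ : fb i ⟶ fb j)
          map_id := fun i => Fiber.hom_ext (by
            change μ (𝟙 i) = 𝟙 _
            refine (hμu (𝟙 i) _ ⟨IsHomLift.id (fb i).2, ?_⟩).symm
            change 𝟙 _ ≫ l Y i = l Y i ≫ H.map (𝟙 i.right)
            rw [H.toFunctor.map_id, Category.comp_id]
            exact Category.id_comp _)
          map_comp := fun {i j k} m n => Fiber.hom_ext (by
            change μ (m ≫ n) = μ m ≫ μ n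
            refine (hμu (m ≫ n) _ ⟨?_, ?_⟩).symm
            · have := (hμ m).1
              have := (hμ n).1
              infer_instance
            · change (μ m ≫ μ n) ≫ l Y k = l Y i ≫ H.map (m.right ≫ n.right)
              rw [Category.assoc, (hμ n).2, ← Category.assoc, (hμ m).2, Category.assoc, H.toFunctor.map_comp]) }
      have := isGroupoid_fiber_of_grpd hp Y
      obtain ⟨g, ⟨e⟩⟩ := ((hφ Y).2 (p.Fiber Y)).1 K
      refine ⟨g, fun i => Fiber.fiberInclusion.map (e.inv.app i) ≫ l Y i, fun i => ?_, fun {i j} m => ?_⟩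
      · have := hl Y i
        have h1 : p.IsHomLift (𝟙 Y) (Fiber.fiberInclusion.map (e.inv.app i)) := inferInstance
        exact IsHomLift.comp_lift_id_left' p Y _ i.hom (l Y i)
      · have h1 := congrArg Fiber.fiberInclusion.map (e.inv.naturality m)
        simp only [Functor.map_comp, Functor.const_obj_map, CategoryTheory.Functor.map_id] at h1
        erw [Category.id_comp] at h1
        rw [Category.assoc, ← (hμ m).2, ← Category.assoc]
        exact congrArg (fun s => s ≫ l Y j) h1.symm
    choose g ι hι hιw using hobj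
    have exmap : ∀ {Y Z : D} (k : Y ⟶ Z) (i : StructuredArrow Z φ), ∃ χ : (g Y).1 ⟶ (g Z).1,
        p.IsHomLift k χ ∧ χ ≫ ι Z i = ι Y (StructuredArrow.mk (k ≫ i.hom)) := fun {Y Z} k i => by
      have := hCart (ι Z i) (hι Z i)
      have : p.IsHomLift (k ≫ i.hom) (ι Y (StructuredArrow.mk (k ≫ i.hom))) := hι Y (StructuredArrow.mk (k ≫ i.hom))
      exact (IsStronglyCartesian.universal_property p i.hom (ι Z i) k (k ≫ i.hom) rfl _).exists
    choose χ hχ hχe using @exmap
    have hχc : ∀ {Y Z : D} (k : Y ⟶ Z) (i j : StructuredArrow Z φ), χ k i = χ k j := by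
      intro Y Z k i j
      obtain ⟨B₀, ω, hω⟩ := Descent.exists_lift (𝒳 := ℱ) hp ((g Z).2 : ℱ.p.obj (g Z).1 = Z) k
      have := hCart ω hω
      have hθ : ∀ a : StructuredArrow Z φ, ∃ θ : (g Y).1 ⟶ B₀, p.IsHomLift (𝟙 Y) θ ∧ θ ≫ ω = χ k a := fun a => by
        have := hχ k a
        exact (IsCartesian.universal_property (p := p) (f := k) (φ := ω) (χ k a)).exists
      choose θ hθ hθe using hθ
      let B : p.Fiber Y := ⟨B₀, haveI := hω; IsHomLift.domain_eq p k ω⟩
      have := isGroupoid_fiber_of_grpd hp Y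
      have h1 := ((hφ Z).2 (p.Fiber Y)).2 (g Y) B (fun a => ⟨θ a, hθ a⟩) (fun a b m => ?_) i j
      · rw [← hθe i, ← hθe j, show θ i = θ j from congrArg Subtype.val h1]
      · apply Fiber.hom_ext
        change θ a = θ b
        have := hθ a
        have := hθ b
        refine IsCartesian.ext p k ω _ _ ?_
        rw [hθe, hθe]
        have := hCart (ι Z b) (hι Z b)
        have := hχ k a
        have := hχ k b
        refine IsStronglyCartesian.ext p b.hom (ι Z b) k ?_
        rw [hχe k b, ← hιw Z m, reassoc_of% (hχe k a)]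
        exact hιw Y (StructuredArrow.homMk m.right (by
          change (k ≫ a.hom) ≫ φ.map m.right = k ≫ b.hom
          rw [Category.assoc, StructuredArrow.w m]) : StructuredArrow.mk (k ≫ a.hom) ⟶ StructuredArrow.mk (k ≫ b.hom))
    have hcongr : ∀ {Y : D} {c : C} {h h' : Y ⟶ φ.obj c}, h = h' →
        ι Y (StructuredArrow.mk h) = ι Y (StructuredArrow.mk h') := fun e => by subst e; rfl
    let gm : ∀ {Y Z : D}, (Y ⟶ Z) → ((g Y).1 ⟶ (g Z).1) := fun {Y Z} k => χ k (hφ Z).1.some
    have hgm : ∀ {Y Z : D} (k : Y ⟶ Z) (i : StructuredArrow Z φ), gm k ≫ ι Z i = ι Y (StructuredArrow.mk (k ≫ i.hom)) :=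
      fun k i => by
        change χ k _ ≫ _ = _
        rw [hχc k _ i]; exact hχe k i
    let G₀ : D ⥤ F :=
      { obj := fun Y => (g Y).1
        map := fun k => gm k
        map_id := fun Y => by
          obtain ⟨i⟩ := (hφ Y).1
          have := hCart (ι Y i) (hι Y i)
          have h1 : p.IsHomLift (𝟙 Y) (gm (𝟙 Y)) := hχ _ _
          have h2 : p.IsHomLift (𝟙 Y) (𝟙 (g Y).1) := IsHomLift.id (g Y).2
          refine IsCartesian.ext p i.hom (ι Y i) _ _ ?_
          rw [hgm]
          exact (hcongr (Category.id_comp i.hom)).trans (Category.id_comp (ι Y i)).symm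
        map_comp := fun {X Y Z} k k' => by
          obtain ⟨i⟩ := (hφ Z).1
          have := hCart (ι Z i) (hι Z i)
          have h1 : p.IsHomLift (k ≫ k') (gm (k ≫ k')) := hχ _ _
          have h3 : p.IsHomLift k (gm k) := hχ _ _
          have h4 : p.IsHomLift k' (gm k') := hχ _ _
          refine IsStronglyCartesian.ext p i.hom (ι Z i) (k ≫ k') ?_
          rw [hgm, Category.assoc (gm k) (gm k'), hgm k' i, hgm k (StructuredArrow.mk (k' ≫ i.hom))]
          exact hcongr (Category.assoc k k' i.hom) }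
    let G : FibCat.selfOver D ⥤ᵇ ℱ :=
      { toFunctor := G₀
        w := CategoryTheory.Functor.ext (fun Y => (g Y).2) (fun Y Z k =>
          haveI : p.IsHomLift k (gm k) := hχ _ _
          IsHomLift.fac' p k (gm k)) }
    let e : ∀ c : C, (g (φ.obj c)).1 ⟶ H.obj c := fun c => ι (φ.obj c) (StructuredArrow.mk (𝟙 (φ.obj c)))
    have he : ∀ c, IsIso (e c) := fun c => by
      have : p.IsHomLift (𝟙 (φ.obj c)) (e c) := hι (φ.obj c) (StructuredArrow.mk (𝟙 (φ.obj c)))
      exact isIso_of_grpd_lift hp (φ.obj c) (e c)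
    refine ⟨G, ⟨BasedNatIso.mkNatIso (NatIso.ofComponents (fun c => @asIso _ _ _ _ (e c) (he c)) fun {a b} m => ?_)
      fun c => hι (φ.obj c) (StructuredArrow.mk (𝟙 (φ.obj c)))⟩⟩
    change gm (φ.map m) ≫ e b = e a ≫ H.map m
    rw [hgm]
    exact (hcongr (Category.comp_id (φ.map m))).trans (hιw (φ.obj a) (StructuredArrow.homMk m
      (Category.id_comp (φ.map m)) : StructuredArrow.mk (𝟙 (φ.obj a)) ⟶ StructuredArrow.mk (φ.map m))).symm

omit hp

/-- The fibres of a fibred category compute the comma categories. -/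
theorem good_structuredArrow {f : C ⥤ D} [f.IsFibered] (Y : D) (h : Good.{v₁, u₁, v₃, u₃} (f.Fiber Y)) :
    Good.{v₁, max u₁ v₂, v₃, u₃} (StructuredArrow Y f) := by
  let i : f.Fiber Y ⥤ StructuredArrow Y f :=
    { obj := fun a => StructuredArrow.mk (eqToHom a.2.symm)
      map := fun {a b} m => StructuredArrow.homMk (Fiber.fiberInclusion.map m) (by
        change eqToHom a.2.symm ≫ f.map (Fiber.fiberInclusion.map m) = eqToHom b.2.symm
        rw [IsHomLift.fac' f (𝟙 Y) (Fiber.fiberInclusion.map m)]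
        simp) }
  choose L l hl using fun s : StructuredArrow Y f => IsPreFibered.exists_isCartesian f (rfl : f.obj s.right = _) s.hom
  have hL : ∀ s, f.obj (L s) = Y := fun s => haveI := hl s; IsHomLift.domain_eq f s.hom (l s)
  have ex : ∀ {s s' : StructuredArrow Y f} (m : s ⟶ s'),
      ∃! ν : L s ⟶ L s', f.IsHomLift (𝟙 Y) ν ∧ ν ≫ l s' = l s ≫ m.right := fun {s s'} m => by
    have := hl s
    have := hl s'
    have h1 : f.IsHomLift (s.hom ≫ f.map m.right) (l s ≫ m.right) := inferInstance
    rw [StructuredArrow.w m] at h1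
    exact IsCartesian.universal_property (p := f) (f := s'.hom) (φ := l s') _
  choose ν hν hνu using @ex
  let fb : StructuredArrow Y f → f.Fiber Y := fun s => ⟨L s, hL s⟩
  let r : StructuredArrow Y f ⥤ f.Fiber Y :=
    { obj := fb
      map := fun {s s'} m => (⟨ν m, (hν m).1⟩ : fb s ⟶ fb s')
      map_id := fun s => Fiber.hom_ext (by
        change ν (𝟙 s) = 𝟙 _
        refine (hνu (𝟙 s) _ ⟨IsHomLift.id (hL s), ?_⟩).symm
        exact (Category.id_comp (l s)).trans (Category.comp_id _).symm)
      map_comp := fun {s s' s''} m n => Fiber.hom_ext (by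
        change ν (m ≫ n) = ν m ≫ ν n
        refine (hνu (m ≫ n) _ ⟨?_, ?_⟩).symm
        · have := (hν m).1
          have := (hν n).1
          infer_instance
        · change (ν m ≫ ν n) ≫ l s'' = l s ≫ m.right ≫ n.right
          rw [Category.assoc, (hν n).2, ← Category.assoc, (hν m).2, Category.assoc]) }
  refine good_transfer i r { app := fun s => StructuredArrow.homMk (l s) ?_, naturality := fun s s' m => ?_ } h
  · have := hl s
    change eqToHom (hL s).symm ≫ f.map (l s) = s.hom
    rw [IsHomLift.fac' f s.hom (l s)]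
    simp
  · exact StructuredArrow.hom_ext _ _ (hν m).2

end Groth.Agent.Lib.Fibred.Sections
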