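import Groth.Agent.Lib.Fibred.EquivOver
import Groth.Agent.Lib.Fibred.FibSet
import Groth.Prelude.Def_AlgSt

/-!
# A category fibred in setoids is equivalent to one fibred in sets
-/

set_option autoImplicit false
set_option backward.isDefEq.respectTransparency false
set_option backward.isDefEq.respectTransparency.types false

universe v₂ u₂ w v u

open CategoryTheory CategoryTheory.Functor CategoryTheory.Functor.IsPreFibered Opposite
  Groth.Agent.Lib.Fibred.Basic Groth.Agent.Lib.Fibred.EquivOver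

namespace Groth.Agent.Lib.Fibred.SetModel

variable {C : Type u} [Category.{v} C] {𝒳 : BasedCategory.{v₂, u₂} C}

/-- The category attached to a presheaf of sets is fibred in sets. -/
theorem ofPsh_isFibSet (P : Cᵒᵖ ⥤ Type w) : FibCat.IsFibSet (Stk.ofPsh P).p := by
  refine ⟨Stk.isFibGrpd_ofPsh P, fun U => ?_⟩
  have hf : (Stk.EltObj.forget P).Faithful := ⟨fun h => Stk.EltObj.hom_ext h⟩
  refine { subsingleton := fun a b => (isThin_fiber_of_faithful (p := Stk.EltObj.forget P) U) a b,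
           eq_of_hom := ?_ }
  rintro ⟨⟨a, s⟩, ha⟩ ⟨⟨b, t⟩, hb⟩ φ
  change a = U at ha
  change b = U at hb
  subst ha hb
  apply Subtype.ext
  have e : (Fiber.fiberInclusion.map φ).hom = 𝟙 b := by
    have := IsHomLift.fac' (Stk.EltObj.forget P) (𝟙 b) (Fiber.fiberInclusion.map φ)
    exact this.trans ((Category.id_comp _).trans (Category.id_comp _))
  have hs : P.map (Fiber.fiberInclusion.map φ).hom.op t = s := (Fiber.fiberInclusion.map φ).map_sec
  rw [e] at hs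
  have hs' : t = s := by
    have h1 : P.map (𝟙 b).op t = t := by simp
    exact h1.symm.trans hs
  subst hs'
  rfl

variable (h : FibCat.IsFibSetoid 𝒳.p)

/-- Objects over `U` up to vertical isomorphism. -/
def setoidAt (h : FibCat.IsFibSetoid 𝒳.p) (U : C) : Setoid (𝒳.p.Fiber U) where
  r a b := Nonempty (a ⟶ b)
  iseqv := ⟨fun a => ⟨𝟙 a⟩,
    fun {a b} ⟨f⟩ => have := (isGroupoid_fiber_of_grpd h.1 U).all_isIso f; ⟨inv f⟩,
    fun ⟨f⟩ ⟨g⟩ => ⟨f ≫ g⟩⟩

/-- A chosen pullback. -/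
noncomputable def pull (h : FibCat.IsFibSetoid 𝒳.p) {U V : C} (k : V ⟶ U) (a : 𝒳.p.Fiber U) : 𝒳.p.Fiber V :=
  have := isFibered_of_grpd h.1
  ⟨pullbackObj a.2 k, pullbackObj_proj a.2 k⟩

/-- The map of a chosen pullback. -/
noncomputable def pullMap (h : FibCat.IsFibSetoid 𝒳.p) {U V : C} (k : V ⟶ U) (a : 𝒳.p.Fiber U) :
    (pull h k a).1 ⟶ a.1 :=
  have := isFibered_of_grpd h.1
  pullbackMap a.2 k

theorem pullMap_isStronglyCartesian {U V : C} (k : V ⟶ U) (a : 𝒳.p.Fiber U) :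
    𝒳.p.IsStronglyCartesian k (pullMap h k a) :=
  have := isFibered_of_grpd h.1
  have : 𝒳.p.IsCartesian k (pullMap h k a) := pullbackMap.IsCartesian a.2 k
  inferInstance

/-- An object with a morphism over `k` to `a` is the pullback of `a` in the quotient. -/
theorem rel_pull {U V : C} (k : V ⟶ U) (a : 𝒳.p.Fiber U) (b : 𝒳.p.Fiber V) (φ : b.1 ⟶ a.1)
    [𝒳.p.IsHomLift k φ] : Nonempty (b ⟶ pull h k a) := by
  have := pullMap_isStronglyCartesian h k a
  exact ⟨⟨IsStronglyCartesian.map 𝒳.p k (pullMap h k a) (g := 𝟙 V) (f' := k) (Category.id_comp k).symm φ,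
    IsStronglyCartesian.map_isHomLift 𝒳.p k (pullMap h k a) (Category.id_comp k).symm φ⟩⟩

theorem pull_congr {U V : C} (k : V ⟶ U) {a b : 𝒳.p.Fiber U} (φ : a ⟶ b) :
    Nonempty (pull h k a ⟶ pull h k b) := by
  have := pullMap_isStronglyCartesian h k a
  have : 𝒳.p.IsHomLift (𝟙 U) φ.1 := φ.2
  have : 𝒳.p.IsHomLift k (pullMap h k a ≫ φ.1) := inferInstance
  exact rel_pull h k b (pull h k a) (pullMap h k a ≫ φ.1)

/-- Equality of classes from a morphism. -/
theorem mk_eq {U : C} {a b : 𝒳.p.Fiber U} (e : Nonempty (a ⟶ b)) :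
    Quotient.mk (setoidAt h U) a = Quotient.mk (setoidAt h U) b :=
  Quotient.sound e

/-- The presheaf of isomorphism classes. -/
noncomputable def classes (h : FibCat.IsFibSetoid 𝒳.p) : Cᵒᵖ ⥤ Type u₂ where
  obj U := Quotient (setoidAt h U.unop)
  map {U V} k := ↾fun x => Quotient.liftOn x (fun a => Quotient.mk (setoidAt h V.unop) (pull h k.unop a))
    (fun a b ⟨φ⟩ => mk_eq h (pull_congr h k.unop φ))
  map_id U := by
    ext x
    obtain ⟨a⟩ := x
    refine (mk_eq h ?_).symm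
    have : 𝒳.p.IsHomLift (𝟙 U.unop) (𝟙 a.1) := IsHomLift.id a.2
    exact rel_pull h (𝟙 U.unop) a a (𝟙 a.1)
  map_comp {U V W} k l := by
    ext x
    obtain ⟨a⟩ := x
    refine (mk_eq h ?_).symm
    have := pullMap_isStronglyCartesian h k.unop a
    have := pullMap_isStronglyCartesian h l.unop (pull h k.unop a)
    exact rel_pull h (l.unop ≫ k.unop) a _ (pullMap h l.unop (pull h k.unop a) ≫ pullMap h k.unop a)

/-- The class of an object. -/
def cls (h : FibCat.IsFibSetoid 𝒳.p) (x : 𝒳.obj) : (classes h).obj (op (𝒳.p.obj x)) :=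
  Quotient.mk (setoidAt h (𝒳.p.obj x)) ⟨x, rfl⟩

theorem cls_map {x y : 𝒳.obj} (φ : x ⟶ y) : (classes h).map (𝒳.p.map φ).op (cls h y) = cls h x :=
  (mk_eq h (rel_pull h (𝒳.p.map φ) ⟨y, rfl⟩ ⟨x, rfl⟩ φ)).symm

/-- The comparison functor. -/
noncomputable def toModel (h : FibCat.IsFibSetoid 𝒳.p) : 𝒳 ⥤ᵇ Stk.ofPsh (classes h) where
  toFunctor :=
    { obj := fun x => ⟨𝒳.p.obj x, cls h x⟩
      map := fun {x y} φ => ⟨𝒳.p.map φ, cls_map h φ⟩
      map_id := fun x => Stk.EltObj.hom_ext (𝒳.p.map_id x)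
      map_comp := fun φ ψ => Stk.EltObj.hom_ext (𝒳.p.map_comp φ ψ) }
  w := rfl

theorem toModel_isEquivOver : FibCat.IsEquivOver (toModel h) := by
  have hp := faithful_of_setoid h
  have : (toModel h).toFunctor.Faithful := ⟨fun e => 𝒳.p.map_injective (congrArg Stk.EltObj.Hom.hom e)⟩
  have : (toModel h).toFunctor.Full := by
    refine ⟨fun {x y} g => ?_⟩
    let k : 𝒳.p.obj x ⟶ 𝒳.p.obj y := g.hom
    have hk : (classes h).map k.op (cls h y) = cls h x := g.map_sec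
    let X₀ : 𝒳.p.Fiber (𝒳.p.obj x) := ⟨x, rfl⟩
    obtain ⟨φ⟩ : Nonempty (X₀ ⟶ pull h k ⟨y, rfl⟩) :=
      Quotient.exact hk.symm
    have : 𝒳.p.IsHomLift (𝟙 (𝒳.p.obj x)) φ.1 := φ.2
    have := pullMap_isStronglyCartesian h k ⟨y, rfl⟩
    have hl : 𝒳.p.IsHomLift k (φ.1 ≫ pullMap h k ⟨y, rfl⟩) := inferInstance
    exact ⟨φ.1 ≫ pullMap h k ⟨y, rfl⟩, Stk.EltObj.hom_ext (IsHomLift.eq_of_isHomLift 𝒳.p k _).symm⟩
  refine isEquivOver_of_ff_essSurj _ fun η => ?_
  obtain ⟨U, c⟩ := η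
  obtain ⟨a⟩ := c
  obtain ⟨x, hx⟩ := a
  change 𝒳.p.obj x = U at hx
  subst hx
  exact ⟨x, Iso.refl _, IsHomLift.id rfl⟩

/-- Every category fibred in setoids has a model fibred in sets. -/
theorem exists_setModel {C : Type u} [Category.{v} C] {𝒳 : BasedCategory.{v, max u v} C}
    (h : FibCat.IsFibSetoid 𝒳.p) :
    ∃ (𝒴 : BasedCategory.{v, max u v} C) (F : 𝒳 ⥤ᵇ 𝒴), FibCat.IsFibSet 𝒴.p ∧ FibCat.IsEquivOver F :=
  ⟨Stk.ofPsh (classes h), toModel h, ofPsh_isFibSet _, toModel_isEquivOver h⟩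

end Groth.Agent.Lib.Fibred.SetModel
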