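import Groth.Agent.Lib.Fibred.Yoneda
import Groth.Agent.Lib.Fibred.CatEqToHom

/-!
# A strict model of a fibred category
-/

set_option autoImplicit false
set_option backward.isDefEq.respectTransparency false
set_option backward.isDefEq.respectTransparency.types false

universe v₂ u₂ v u

open CategoryTheory CategoryTheory.Functor CategoryTheory.Functor.IsPreFibered Opposite
  Groth.Agent.Lib.Fibred.Basic Groth.Agent.Lib.Fibred.EquivOver

namespace Groth.Agent.Lib.Fibred.Split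

variable {C : Type u} [Category.{v} C]

/-- An object of the strict model over `U`: an object with a morphism to its image. -/
structure SObj (𝒳 : BasedCategory.{v, max u v} C) (U : C) where
  /-- the object -/
  pt : 𝒳.obj
  /-- the morphism -/
  arr : U ⟶ 𝒳.p.obj pt

variable {𝒳 : BasedCategory.{v, max u v} C} [𝒳.p.IsFibered] {U V W : C}

/-- The pulled back object. -/
noncomputable def SObj.pull (a : SObj 𝒳 U) : 𝒳.obj := pullbackObj (rfl : 𝒳.p.obj a.pt = _) a.arr

/-- Its map to the object. -/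
noncomputable def SObj.toPt (a : SObj 𝒳 U) : a.pull ⟶ a.pt := pullbackMap (rfl : 𝒳.p.obj a.pt = _) a.arr

theorem SObj.toPt_isStronglyCartesian (a : SObj 𝒳 U) : 𝒳.p.IsStronglyCartesian a.arr a.toPt :=
  have : 𝒳.p.IsCartesian a.arr a.toPt := pullbackMap.IsCartesian (rfl : 𝒳.p.obj a.pt = _) a.arr
  inferInstance

theorem SObj.p_pull (a : SObj 𝒳 U) : 𝒳.p.obj a.pull = U := pullbackObj_proj (rfl : 𝒳.p.obj a.pt = _) a.arr

/-- The category of the strict model over `U`. -/
noncomputable instance sObjCategory : Category.{v} (SObj 𝒳 U) where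
  Hom a b := {φ : a.pull ⟶ b.pull // 𝒳.p.IsHomLift (𝟙 U) φ}
  id a := ⟨𝟙 a.pull, IsHomLift.id a.p_pull⟩
  comp φ ψ := ⟨φ.1 ≫ ψ.1, by have := φ.2; have := ψ.2; infer_instance⟩
  id_comp φ := Subtype.ext (Category.id_comp _)
  comp_id φ := Subtype.ext (Category.comp_id _)
  assoc φ ψ χ := Subtype.ext (Category.assoc _ _ _)

@[simp] theorem id_val (a : SObj 𝒳 U) : (𝟙 a : a ⟶ a).1 = 𝟙 a.pull := rfl

@[simp] theorem comp_val {a b c : SObj 𝒳 U} (φ : a ⟶ b) (ψ : b ⟶ c) : (φ ≫ ψ).1 = φ.1 ≫ ψ.1 := rfl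

theorem eqToHom_toPt {a b : SObj 𝒳 U} (h : a = b) :
    (eqToHom h).1 ≫ b.toPt = a.toPt ≫ eqToHom (congrArg SObj.pt h) := by
  subst h; simp

/-- Two morphisms of the model agree if they agree after projecting to the object. -/
theorem hom_ext {a b : SObj 𝒳 U} {φ ψ : a ⟶ b} (h : φ.1 ≫ b.toPt = ψ.1 ≫ b.toPt) : φ = ψ := by
  have := b.toPt_isStronglyCartesian
  have := φ.2
  have := ψ.2
  exact Subtype.ext (IsStronglyCartesian.ext 𝒳.p b.arr b.toPt (𝟙 U) h)

/-- The reindexed object. -/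
def SObj.restrict (k : V ⟶ U) (a : SObj 𝒳 U) : SObj 𝒳 V := ⟨a.pt, k ≫ a.arr⟩

/-- The comparison morphism. -/
noncomputable def SObj.proj (k : V ⟶ U) (a : SObj 𝒳 U) : (a.restrict k).pull ⟶ a.pull :=
  have := a.toPt_isStronglyCartesian
  have : 𝒳.p.IsHomLift (k ≫ a.arr) (a.restrict k).toPt :=
    (a.restrict k).toPt_isStronglyCartesian.toIsHomLift
  IsStronglyCartesian.map 𝒳.p a.arr a.toPt (g := k) rfl (a.restrict k).toPt

theorem SObj.proj_isHomLift (k : V ⟶ U) (a : SObj 𝒳 U) : 𝒳.p.IsHomLift k (a.proj k) :=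
  have := a.toPt_isStronglyCartesian
  have : 𝒳.p.IsHomLift (k ≫ a.arr) (a.restrict k).toPt :=
    (a.restrict k).toPt_isStronglyCartesian.toIsHomLift
  IsStronglyCartesian.map_isHomLift 𝒳.p a.arr a.toPt (g := k) rfl (a.restrict k).toPt

@[simp] theorem SObj.proj_toPt (k : V ⟶ U) (a : SObj 𝒳 U) : a.proj k ≫ a.toPt = (a.restrict k).toPt :=
  have := a.toPt_isStronglyCartesian
  have : 𝒳.p.IsHomLift (k ≫ a.arr) (a.restrict k).toPt :=
    (a.restrict k).toPt_isStronglyCartesian.toIsHomLift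
  IsStronglyCartesian.fac 𝒳.p a.arr a.toPt (g := k) rfl (a.restrict k).toPt

theorem SObj.proj_isStronglyCartesian (k : V ⟶ U) (a : SObj 𝒳 U) : 𝒳.p.IsStronglyCartesian k (a.proj k) := by
  have := a.toPt_isStronglyCartesian
  have := a.proj_isHomLift k
  have : 𝒳.p.IsStronglyCartesian (k ≫ a.arr) (a.proj k ≫ a.toPt) := by
    rw [a.proj_toPt]; exact (a.restrict k).toPt_isStronglyCartesian
  exact IsStronglyCartesian.of_comp 𝒳.p (g := a.arr) (ψ := a.toPt)

theorem restrictHom_exists (k : V ⟶ U) {a b : SObj 𝒳 U} (φ : a ⟶ b) :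
    ∃! χ : (a.restrict k).pull ⟶ (b.restrict k).pull,
      𝒳.p.IsHomLift (𝟙 V) χ ∧ χ ≫ b.proj k = a.proj k ≫ φ.1 := by
  have := b.proj_isStronglyCartesian k
  have := a.proj_isHomLift k
  have := φ.2
  exact IsStronglyCartesian.universal_property 𝒳.p k (b.proj k) (𝟙 V) k (Category.id_comp k).symm
    (a.proj k ≫ φ.1)

/-- The reindexing of a morphism. -/
noncomputable def restrictHom (k : V ⟶ U) {a b : SObj 𝒳 U} (φ : a ⟶ b) : a.restrict k ⟶ b.restrict k :=
  ⟨(restrictHom_exists k φ).exists.choose, (restrictHom_exists k φ).exists.choose_spec.1⟩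

@[simp, reassoc] theorem restrictHom_proj (k : V ⟶ U) {a b : SObj 𝒳 U} (φ : a ⟶ b) :
    (restrictHom k φ).1 ≫ b.proj k = a.proj k ≫ φ.1 :=
  (restrictHom_exists k φ).exists.choose_spec.2

@[simp] theorem restrictHom_toPt (k : V ⟶ U) {a b : SObj 𝒳 U} (φ : a ⟶ b) :
    (restrictHom k φ).1 ≫ (b.restrict k).toPt = a.proj k ≫ φ.1 ≫ b.toPt := by
  rw [← b.proj_toPt, restrictHom_proj_assoc]

/-- The reindexing functor. -/
noncomputable def reindex (k : V ⟶ U) : SObj 𝒳 U ⥤ SObj 𝒳 V where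
  obj a := a.restrict k
  map φ := restrictHom k φ
  map_id a := hom_ext (by simp)
  map_comp {a b c} φ ψ := hom_ext (by
    rw [restrictHom_toPt, comp_val, comp_val, Category.assoc, Category.assoc, restrictHom_toPt,
      restrictHom_proj_assoc])

theorem restrict_id (a : SObj 𝒳 U) : a.restrict (𝟙 U) = a := by
  cases a; simp [SObj.restrict]

theorem restrict_comp (k : W ⟶ V) (l : V ⟶ U) (a : SObj 𝒳 U) :
    (a.restrict l).restrict k = a.restrict (k ≫ l) := by
  simp [SObj.restrict]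

theorem proj_id (a : SObj 𝒳 U) : a.proj (𝟙 U) = (eqToHom (restrict_id a)).1 := by
  have := a.toPt_isStronglyCartesian
  have := a.proj_isHomLift (𝟙 U)
  have := (eqToHom (restrict_id a)).2
  apply IsStronglyCartesian.ext 𝒳.p a.arr a.toPt (𝟙 U)
  rw [a.proj_toPt, eqToHom_toPt]
  simp

theorem proj_comp (k : W ⟶ V) (l : V ⟶ U) (a : SObj 𝒳 U) :
    (eqToHom (restrict_comp k l a)).1 ≫ a.proj (k ≫ l) = (a.restrict l).proj k ≫ a.proj l := by
  have := a.toPt_isStronglyCartesian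
  have := a.proj_isHomLift (k ≫ l)
  have := a.proj_isHomLift l
  have := (a.restrict l).proj_isHomLift k
  have := (eqToHom (restrict_comp k l a)).2
  apply IsStronglyCartesian.ext 𝒳.p a.arr a.toPt (k ≫ l)
  rw [Category.assoc, Category.assoc, a.proj_toPt, eqToHom_toPt, a.proj_toPt, SObj.proj_toPt]
  simp

theorem reindex_id : reindex (𝒳 := 𝒳) (𝟙 U) = Functor.id _ := by
  refine CategoryTheory.Functor.ext restrict_id fun a b φ => ?_
  have h : restrictHom (𝟙 U) φ ≫ eqToHom (restrict_id b) = eqToHom (restrict_id a) ≫ φ := by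
    apply Subtype.ext
    rw [comp_val, comp_val, ← proj_id, ← proj_id, restrictHom_proj]
  change restrictHom (𝟙 U) φ = eqToHom _ ≫ φ ≫ eqToHom _
  rw [← Category.assoc, ← h]
  simp

theorem reindex_comp (k : W ⟶ V) (l : V ⟶ U) :
    reindex (𝒳 := 𝒳) (k ≫ l) = reindex l ⋙ reindex k := by
  refine CategoryTheory.Functor.ext (fun a => (restrict_comp k l a).symm) fun a b φ => ?_
  change restrictHom (k ≫ l) φ = eqToHom _ ≫ restrictHom k (restrictHom l φ) ≫ eqToHom _
  have h : restrictHom k (restrictHom l φ) ≫ eqToHom (restrict_comp k l b) =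
      eqToHom (restrict_comp k l a) ≫ restrictHom (k ≫ l) φ := by
    have := b.proj_isStronglyCartesian (k ≫ l)
    have := a.proj_isHomLift (k ≫ l)
    have := (restrictHom k (restrictHom l φ) ≫ eqToHom (restrict_comp k l b)).2
    have := (eqToHom (restrict_comp k l a) ≫ restrictHom (k ≫ l) φ).2
    apply Subtype.ext
    apply IsStronglyCartesian.ext 𝒳.p (k ≫ l) (b.proj (k ≫ l)) (𝟙 W)
    simp only [comp_val, Category.assoc, proj_comp, restrictHom_proj]
    rw [restrictHom_proj_assoc, restrictHom_proj, ← Category.assoc, ← proj_comp, Category.assoc]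
  rw [h]
  simp

variable (𝒳) in
/-- The strict functor. -/
noncomputable def splitFunctor : Cᵒᵖ ⥤ Cat.{v, max u v} where
  obj U := Cat.of (SObj 𝒳 U.unop)
  map k := (reindex k.unop).toCatHom
  map_id U := by
    change (reindex (𝟙 U.unop)).toCatHom = _
    rw [reindex_id]; rfl
  map_comp k l := by
    change (reindex (l.unop ≫ k.unop)).toCatHom = _
    rw [reindex_comp]; rfl

/-- The projection of a reindexed object along a composite of `eqToHom`. -/
theorem eqToHom_val_toPt {a b : SObj 𝒳 U} (h : a = b) (hp : a.pt = b.pt) :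
    (eqToHom h).1 ≫ b.toPt = a.toPt ≫ eqToHom hp :=
  eqToHom_toPt h

variable (𝒳) in
/-- From the strict model back to the category. -/
noncomputable def fromModelFunctor :
    Pseudofunctor.CoGrothendieck (splitFunctor 𝒳).toPseudofunctor' ⥤ 𝒳.obj where
  obj a := SObj.pull (U := a.base) a.fiber
  map {a b} m := (m.fiber : (a.fiber : SObj 𝒳 a.base) ⟶ SObj.restrict m.base b.fiber).1 ≫
    SObj.proj m.base b.fiber
  map_id a := by
    obtain ⟨h, e⟩ := CatEqToHom.id_fiber a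
    have h' : (a.fiber : SObj 𝒳 a.base) = SObj.restrict (𝟙 a.base) a.fiber := h
    change ((𝟙 a : a ⟶ a).fiber : (a.fiber : SObj 𝒳 a.base) ⟶ SObj.restrict (𝟙 a.base) a.fiber).1 ≫ _ = _
    rw [e]
    change (eqToHom h').1 ≫ SObj.proj (𝟙 a.base) a.fiber = 𝟙 _
    rw [proj_id, ← comp_val, eqToHom_trans]
    simp
  map_comp {a b c} f g := by
    obtain ⟨h, e⟩ := CatEqToHom.comp_fiber f g
    have h' : SObj.restrict f.base (SObj.restrict g.base c.fiber) = SObj.restrict (f.base ≫ g.base) c.fiber := h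
    let φ : (a.fiber : SObj 𝒳 a.base) ⟶ SObj.restrict f.base b.fiber := f.fiber
    let ψ : (b.fiber : SObj 𝒳 b.base) ⟶ SObj.restrict g.base c.fiber := g.fiber
    change ((f ≫ g).fiber : (a.fiber : SObj 𝒳 a.base) ⟶ SObj.restrict (f.base ≫ g.base) c.fiber).1 ≫ _ =
      (φ.1 ≫ SObj.proj f.base b.fiber) ≫ ψ.1 ≫ SObj.proj g.base c.fiber
    rw [e]
    change (φ.1 ≫ (restrictHom f.base ψ).1 ≫ (eqToHom h').1) ≫ SObj.proj (f.base ≫ g.base) c.fiber = _
    simp only [Category.assoc]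
    rw [proj_comp, restrictHom_proj_assoc]

variable (𝒳) in
/-- From the strict model back to the category, over the base. -/
noncomputable def fromModel :
    BasedCategory.ofFunctor (Pseudofunctor.CoGrothendieck.forget (splitFunctor 𝒳).toPseudofunctor') ⥤ᵇ 𝒳 where
  toFunctor := fromModelFunctor 𝒳
  w := CategoryTheory.Functor.ext (fun a => SObj.p_pull a.fiber) fun a b m => by
    let φ : (a.fiber : SObj 𝒳 a.base) ⟶ SObj.restrict m.base b.fiber := m.fiber
    have := φ.2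
    have := SObj.proj_isHomLift m.base b.fiber
    have hl : 𝒳.p.IsHomLift m.base (φ.1 ≫ SObj.proj m.base b.fiber) := inferInstance
    exact IsHomLift.fac' 𝒳.p m.base (φ.1 ≫ SObj.proj m.base b.fiber)

theorem fromModel_isEquivOver : FibCat.IsEquivOver (fromModel 𝒳) := by
  have : (fromModel 𝒳).toFunctor.Full := by
    refine ⟨fun {a b} g => ?_⟩
    let α : SObj 𝒳 a.base := a.fiber
    let β : SObj 𝒳 b.base := b.fiber
    let g' : α.pull ⟶ β.pull := g
    let k : a.base ⟶ b.base := eqToHom α.p_pull.symm ≫ 𝒳.p.map g' ≫ eqToHom β.p_pull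
    have hk : 𝒳.p.IsHomLift k g' := IsHomLift.of_fac _ _ _ α.p_pull β.p_pull rfl
    have := β.proj_isStronglyCartesian k
    obtain ⟨χ, ⟨hχ, hχ'⟩, -⟩ := IsStronglyCartesian.universal_property 𝒳.p k (β.proj k) (𝟙 a.base) k
      (Category.id_comp k).symm g'
    exact ⟨⟨k, (⟨χ, hχ⟩ : α ⟶ β.restrict k)⟩, hχ'⟩
  have : (fromModel 𝒳).toFunctor.Faithful := by
    refine ⟨fun {a b f g} he => ?_⟩
    obtain ⟨k, φ⟩ := f
    obtain ⟨k', ψ⟩ := g
    let α : SObj 𝒳 a.base := a.fiber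
    let β : SObj 𝒳 b.base := b.fiber
    let φ' : α ⟶ β.restrict k := φ
    let ψ' : α ⟶ β.restrict k' := ψ
    have := φ'.2
    have := ψ'.2
    have := β.proj_isHomLift k
    have := β.proj_isHomLift k'
    have hek : φ'.1 ≫ β.proj k = ψ'.1 ≫ β.proj k' := he
    have hk : k = k' := by
      have h1 : 𝒳.p.IsHomLift k (φ'.1 ≫ β.proj k) := inferInstance
      have h2 : 𝒳.p.IsHomLift k' (φ'.1 ≫ β.proj k) := by rw [hek]; infer_instance
      rw [IsHomLift.fac 𝒳.p k (φ'.1 ≫ β.proj k)]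
      exact (IsHomLift.fac 𝒳.p k' (φ'.1 ≫ β.proj k)).symm
    subst hk
    have := β.proj_isStronglyCartesian k
    have hφψ : φ' = ψ' := Subtype.ext (IsStronglyCartesian.ext 𝒳.p k (β.proj k) (𝟙 a.base) hek)
    exact congrArg _ hφψ
  refine isEquivOver_of_ff_essSurj _ fun x => ?_
  let α : SObj 𝒳 (𝒳.p.obj x) := ⟨x, 𝟙 _⟩
  have : 𝒳.p.IsStronglyCartesian (𝟙 (𝒳.p.obj x)) α.toPt := α.toPt_isStronglyCartesian
  have := IsStronglyCartesian.isIso_of_base_isIso 𝒳.p (𝟙 (𝒳.p.obj x)) α.toPt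
  exact ⟨⟨𝒳.p.obj x, α⟩, asIso α.toPt, inferInstanceAs (𝒳.p.IsHomLift (𝟙 (𝒳.p.obj x)) α.toPt)⟩

/-- The fibres of the strict model of a category fibred in groupoids are groupoids. -/
theorem isGroupoid_splitFunctor (h : FibCat.IsFibGrpd 𝒳.p) (U : Cᵒᵖ) :
    IsGroupoid ((splitFunctor 𝒳).obj U) where
  all_isIso {a b} φ := by
    let φ' : (a : SObj 𝒳 U.unop) ⟶ b := φ
    have := φ'.2
    have := isIso_of_grpd_lift h U.unop φ'.1
    exact ⟨⟨⟨inv φ'.1, IsHomLift.lift_id_inv_isIso 𝒳.p U.unop _⟩,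
      Subtype.ext (IsIso.hom_inv_id φ'.1), Subtype.ext (IsIso.inv_hom_id φ'.1)⟩⟩

end Groth.Agent.Lib.Fibred.Split
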