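import Groth.Agent.Lib.Fibred.Cleavage

/-!
# Split categories and strict functors
-/

set_option autoImplicit false
set_option backward.isDefEq.respectTransparency false
set_option backward.isDefEq.respectTransparency.types false

universe v₁ v₂ u₁ u₂

open CategoryTheory CategoryTheory.Functor Opposite Groth.Agent.Lib.Fibred.Basic

namespace Groth.Agent.Lib.Fibred.Splitting

variable {𝒮 : Type u₁} [Category.{v₁} 𝒮] {𝒳 : Type u₂} [Category.{v₂} 𝒳] {p : 𝒳 ⥤ 𝒮}

/-- A lift at an equal object. -/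
theorem lift_congr {𝒜 : Type u₂} [Category.{v₂} 𝒜] {q : 𝒜 ⥤ 𝒮} (K : FibCat.Cleavage q) {R S : 𝒮} {o o' : 𝒜}
    (e : o' = o) (ha : q.obj o = S) (ha' : q.obj o' = S) (f : R ⟶ S) :
    ∃ h : K.obj ha' f = K.obj ha f, K.lift ha' f = eqToHom h ≫ K.lift ha f ≫ eqToHom e.symm := by
  subst e
  exact ⟨rfl, by simp⟩

/-- A category isomorphic over the base to the construction of a strict functor is split. -/
theorem exists_isSplitting (F : 𝒮ᵒᵖ ⥤ Cat.{v₂, u₂})
    (Φ : 𝒳 ⥤ Pseudofunctor.CoGrothendieck F.toPseudofunctor')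
    (Ψ : Pseudofunctor.CoGrothendieck F.toPseudofunctor' ⥤ 𝒳)
    (h₁ : Φ ⋙ Ψ = 𝟭 𝒳) (h₂ : Ψ ⋙ Φ = 𝟭 _)
    (h₃ : Φ ⋙ Pseudofunctor.CoGrothendieck.forget F.toPseudofunctor' = p) :
    ∃ K : FibCat.Cleavage p, K.IsSplitting := by
  subst h₃
  let q := Pseudofunctor.CoGrothendieck.forget F.toPseudofunctor'
  let K₀ := FibCat.Cleavage.ofCoGrothendieck F.toPseudofunctor'
  let 𝒜 := BasedCategory.ofFunctor q
  let ℬ := BasedCategory.ofFunctor (Φ ⋙ q)
  let Ψ' : 𝒜 ⥤ᵇ ℬ := ⟨Ψ, by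
    change Ψ ⋙ Φ ⋙ q = q
    rw [← Functor.assoc, h₂, Functor.id_comp]⟩
  let Φ' : ℬ ⥤ᵇ 𝒜 := ⟨Φ, rfl⟩
  have hΨ : FibCat.IsEquivOver Ψ' := by
    refine ⟨Φ', ⟨BasedNatIso.mkNatIso (eqToIso h₂) fun x => ?_⟩, ⟨BasedNatIso.mkNatIso (eqToIso h₁) fun x => ?_⟩⟩
    · rw [eqToIso.hom, eqToHom_app]
      exact IsHomLift.eqToHom_codomain_lift_id (p := q) (Functor.congr_obj h₂ x) rfl
    · rw [eqToIso.hom, eqToHom_app]
      exact IsHomLift.eqToHom_codomain_lift_id (p := Φ ⋙ q) (Functor.congr_obj h₁ x) rfl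
  let K : FibCat.Cleavage (Φ ⋙ q) :=
    { obj := fun {R S a} ha f => Ψ.obj (K₀.obj (a := Φ.obj a) ha f)
      lift := fun {R S a} ha f => Ψ.map (K₀.lift (a := Φ.obj a) ha f) ≫ eqToHom (Functor.congr_obj h₁ a)
      isCartesian := fun {R S a} ha f => by
        have : 𝒜.p.IsCartesian f (K₀.lift (a := Φ.obj a) ha f) := K₀.isCartesian ha f
        have hc : (Φ ⋙ q).IsCartesian f (Ψ.map (K₀.lift (a := Φ.obj a) ha f)) :=
          EquivOver.map_isCartesian (F := Ψ') hΨ f (K₀.lift (a := Φ.obj a) ha f)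
        have : (Φ ⋙ q).IsHomLift (𝟙 S) (eqToIso (Functor.congr_obj h₁ a)).hom :=
          IsHomLift.eqToHom_codomain_lift_id (p := Φ ⋙ q) (Functor.congr_obj h₁ a) ha
        exact (inferInstanceAs ((Φ ⋙ q).IsCartesian f
          (Ψ.map (K₀.lift (a := Φ.obj a) ha f) ≫ (eqToIso (Functor.congr_obj h₁ a)).hom))) }
  obtain ⟨hn, hc⟩ := Cleavage.ofCoGrothendieck_isSplitting (F := F)
  refine ⟨K, fun S a ha => ?_, fun S T U f g a ha => ?_⟩
  · obtain ⟨h, e⟩ := hn (a := Φ.obj a) ha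
    refine ⟨(congrArg Ψ.obj h).trans (Functor.congr_obj h₁ a), ?_⟩
    change Ψ.map (K₀.lift (a := Φ.obj a) ha (𝟙 S)) ≫ eqToHom _ = _
    rw [e, eqToHom_map, eqToHom_trans]
  · let o := K₀.obj (a := Φ.obj a) ha f
    obtain ⟨h, e⟩ := hc f g (a := Φ.obj a) ha
    obtain ⟨h', e'⟩ := lift_congr K₀ (o := o) (o' := Φ.obj (Ψ.obj o)) (Functor.congr_obj h₂ o)
      (K₀.obj_proj ha f) (K.obj_proj ha f) g
    refine ⟨(congrArg Ψ.obj h').trans (congrArg Ψ.obj h), ?_⟩
    change (Ψ.map (K₀.lift (a := Φ.obj (Ψ.obj o)) (K.obj_proj ha f) g) ≫ eqToHom _) ≫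
        Ψ.map (K₀.lift (a := Φ.obj a) ha f) ≫ eqToHom _ =
      eqToHom _ ≫ Ψ.map (K₀.lift (a := Φ.obj a) ha (g ≫ f)) ≫ eqToHom _
    rw [e']
    have e'' := congrArg Ψ.map e
    rw [Ψ.map_comp, Ψ.map_comp, eqToHom_map] at e''
    simp only [Functor.map_comp, eqToHom_map, Category.assoc, eqToHom_trans_assoc, eqToHom_refl,
      Category.id_comp]
    rw [reassoc_of% e'', eqToHom_trans_assoc]

section ToStrict

variable {K : FibCat.Cleavage p} (hK : K.IsSplitting)

include hK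

theorem lift_id {S : 𝒮} (a : p.Fiber S) :
    ∃ h : (K.inverseImage (𝟙 S)).obj a = a, K.lift a.2 (𝟙 S) = Fiber.fiberInclusion.map (eqToHom h) := by
  obtain ⟨h, e⟩ := hK.1 a.2
  exact ⟨Subtype.ext h, e.trans (eqToHom_map (Fiber.fiberInclusion (p := p) (S := S)) (Subtype.ext h : (K.inverseImage (𝟙 S)).obj a = a)).symm⟩

theorem inverseImage_id_eq (S : 𝒮) : K.inverseImage (𝟙 S) = 𝟭 _ := by
  refine CategoryTheory.Functor.ext (fun a => (lift_id hK a).choose) fun a b φ => ?_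
  refine Cleavage.hom_ext K (𝟙 S) ?_
  rw [Cleavage.inverseImage_lift]
  refine (eq_whisker (lift_id hK a).choose_spec _).trans ?_
  refine Eq.trans ?_ (whisker_eq _ (lift_id hK b).choose_spec).symm
  rw [← Functor.map_comp, ← Functor.map_comp]
  simp

theorem inverseImage_comp_eq {S T U : 𝒮} (f : T ⟶ S) (g : U ⟶ T) :
    K.inverseImage (g ≫ f) = K.inverseImage f ⋙ K.inverseImage g := by
  refine CategoryTheory.Functor.ext (fun a => Subtype.ext (hK.2 f g a.2).choose.symm) fun a b φ => ?_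
  refine Cleavage.hom_ext K (g ≫ f) ?_
  have ea := (hK.2 f g a.2).choose_spec
  have eb := (hK.2 f g b.2).choose_spec
  rw [Cleavage.inverseImage_lift]
  simp only [Functor.map_comp, eqToHom_map, Category.assoc]
  have e1 : eqToHom (hK.2 f g b.2).choose ≫ K.lift b.2 (g ≫ f) =
      K.lift (K.obj_proj b.2 f) g ≫ K.lift b.2 f := eb.symm
  refine Eq.trans ?_ (congrArg (fun t => eqToHom _ ≫ Fiber.fiberInclusion.map
    ((K.inverseImage g).map ((K.inverseImage f).map φ)) ≫ t) e1.symm)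
  have e2 := Cleavage.inverseImage_lift K g ((K.inverseImage f).map φ)
  erw [reassoc_of% e2, Cleavage.inverseImage_lift K f φ, reassoc_of% ea]
  simp

/-- The strict functor of a split category. -/
noncomputable def toStrict : 𝒮ᵒᵖ ⥤ Cat.{v₂, u₂} where
  obj U := Cat.of (p.Fiber U.unop)
  map k := (K.inverseImage k.unop).toCatHom
  map_id U := by
    change (K.inverseImage (𝟙 U.unop)).toCatHom = _
    rw [inverseImage_id_eq hK]; rfl
  map_comp k l := by
    change (K.inverseImage (l.unop ≫ k.unop)).toCatHom = _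
    rw [inverseImage_comp_eq hK]; rfl

theorem inverse_iso :
    ∃ (F : 𝒮ᵒᵖ ⥤ Cat.{v₂, u₂}) (Φ : 𝒳 ⥤ Pseudofunctor.CoGrothendieck F.toPseudofunctor')
      (Ψ : Pseudofunctor.CoGrothendieck F.toPseudofunctor' ⥤ 𝒳),
      Φ ⋙ Ψ = 𝟭 𝒳 ∧ Ψ ⋙ Φ = 𝟭 _ ∧ Φ ⋙ Pseudofunctor.CoGrothendieck.forget F.toPseudofunctor' = p := by
  let E := Pseudofunctor.CoGrothendieck (toStrict hK).toPseudofunctor'
  let fib : ∀ a : E, p.Fiber a.base := fun a => a.fiber
  let out : ∀ {a b : E} (m : a ⟶ b), fib a ⟶ (K.inverseImage m.base).obj (fib b) := fun m => m.fiber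
  let Ψ : E ⥤ 𝒳 :=
    { obj := fun a => (fib a).1
      map := fun {a b} m => Fiber.fiberInclusion.map (out m) ≫ K.lift (fib b).2 m.base
      map_id := fun a => by
        obtain ⟨h, e⟩ := CatEqToHom.id_fiber a
        have h' : fib a = (K.inverseImage (𝟙 a.base)).obj (fib a) := h
        have e' : out (𝟙 a) = eqToHom h' := e
        change Fiber.fiberInclusion.map (out (𝟙 a)) ≫ K.lift (fib a).2 (𝟙 a.base) = _
        rw [e', (hK.1 (fib a).2).choose_spec, eqToHom_map, eqToHom_trans]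
        rfl
      map_comp := fun {a b c} f g => by
        obtain ⟨h, e⟩ := CatEqToHom.comp_fiber f g
        have h' : (K.inverseImage f.base).obj ((K.inverseImage g.base).obj (fib c)) =
            (K.inverseImage (f.base ≫ g.base)).obj (fib c) := h
        have e' : out (f ≫ g) = out f ≫ (K.inverseImage f.base).map (out g) ≫ eqToHom h' := e
        change Fiber.fiberInclusion.map (out (f ≫ g)) ≫ K.lift (fib c).2 (f.base ≫ g.base) = _
        have es : K.lift (K.obj_proj (fib c).2 g.base) f.base ≫ K.lift (fib c).2 g.base =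
            eqToHom (congrArg Subtype.val h') ≫ K.lift (fib c).2 (f.base ≫ g.base) :=
          (hK.2 g.base f.base (fib c).2).choose_spec
        rw [e', Functor.map_comp, Functor.map_comp, eqToHom_map]
        simp only [Category.assoc]
        erw [← es]
        erw [reassoc_of% (Cleavage.inverseImage_lift K f.base (out g))] }
  have hl : ∀ {a b : E} (m : a ⟶ b), p.IsHomLift m.base (Ψ.map m) := fun {a b} m => by
    have : p.IsHomLift (𝟙 a.base) (Fiber.fiberInclusion.map (out m)) := inferInstance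
    exact IsHomLift.comp_lift_id_left' p a.base (Fiber.fiberInclusion.map (out m)) m.base
      (K.lift (fib b).2 m.base)
  have hΨ : Ψ.Faithful := by
    refine ⟨fun {a b m n} he => ?_⟩
    have hb : m.base = n.base := by
      have := hl m
      have h2 : p.IsHomLift n.base (Ψ.map m) := he ▸ hl n
      rw [IsHomLift.fac p m.base (Ψ.map m)]
      exact (IsHomLift.fac p n.base (Ψ.map m)).symm
    obtain ⟨k, φ⟩ := m
    obtain ⟨k', ψ⟩ := n
    change k = k' at hb
    subst hb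
    have h3 : out (a := a) (b := b) ⟨k, φ⟩ = out (a := a) (b := b) ⟨k, ψ⟩ :=
      Cleavage.hom_ext K k (a := fib b) (φ := out (a := a) (b := b) ⟨k, φ⟩) (ψ := out (a := a) (b := b) ⟨k, ψ⟩) he
    exact congrArg (fun t => (⟨k, t⟩ : a ⟶ b)) h3
  let fb : ∀ x : 𝒳, p.Fiber (p.obj x) := fun x => ⟨x, rfl⟩
  let Φobj : 𝒳 → E := fun x => ⟨p.obj x, fb x⟩
  let Φmap : ∀ {x y : 𝒳}, (x ⟶ y) → (Φobj x ⟶ Φobj y) := fun {x y} φ =>
    ⟨p.map φ, (⟨IsCartesian.map p (p.map φ) (K.lift (rfl : p.obj y = p.obj y) (p.map φ)) φ,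
      IsCartesian.map_isHomLift p _ _ _⟩ : fb x ⟶ (K.inverseImage (p.map φ)).obj (fb y))⟩
  have hΦ : ∀ {x y : 𝒳} (φ : x ⟶ y), Ψ.map (Φmap φ) = φ := fun {x y} φ =>
    IsCartesian.fac p (p.map φ) (K.lift (rfl : p.obj y = p.obj y) (p.map φ)) φ
  let Φ : 𝒳 ⥤ E :=
    { obj := Φobj
      map := fun φ => Φmap φ
      map_id := fun x => Ψ.map_injective (by rw [hΦ, Ψ.map_id])
      map_comp := fun φ ψ => Ψ.map_injective (by rw [hΦ, Ψ.map_comp, hΦ, hΦ]) }
  refine ⟨toStrict hK, Φ, Ψ, CategoryTheory.Functor.ext (fun x => rfl) (fun x y φ => ?_), ?_, rfl⟩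
  · simp only [eqToHom_refl]
    exact (hΦ φ).trans ((Category.id_comp _).trans (Category.comp_id _)).symm
  · refine CategoryTheory.Functor.ext (fun a => ?_) fun a b m => ?_
    · obtain ⟨U, ⟨x, hx⟩⟩ := a
      change p.obj x = U at hx
      subst hx
      rfl
    · apply Ψ.map_injective
      rw [Ψ.map_comp, Ψ.map_comp, eqToHom_map, eqToHom_map]
      change Ψ.map (Φmap (Ψ.map m)) = _
      rw [hΦ]
      simp only [Functor.id_map, eqToHom_refl]
      exact ((Category.id_comp _).trans (Category.comp_id _)).symm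

end ToStrict

end Groth.Agent.Lib.Fibred.Splitting
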