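import Groth.Agent.Lib.Fibred.StackLocal
import Groth.Agent.Lib.Fibred.Restricted
import Groth.Agent.Lib.Fibred.FibSet

/-!
# A stack over a stack is a stack
-/

set_option autoImplicit false
set_option backward.isDefEq.respectTransparency false
set_option backward.isDefEq.respectTransparency.types false

universe v₂ u₂ v₃ u₃ v u

open CategoryTheory CategoryTheory.Functor Groth.Agent.Lib.Fibred.Basic Groth.Agent.Lib.Fibred.EquivOver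
  Groth.Agent.Lib.Fibred.Descent Groth.Agent.Lib.Fibred.StackLemmas Groth.Agent.Lib.Fibred.StackLocal

namespace Groth.Agent.Lib.Fibred.StackComp

variable {C : Type u} [Category.{v} C] {𝒳 : BasedCategory.{v₂, u₂} C} {𝒴 : BasedCategory.{v₃, u₃} 𝒳.obj}

/-- The composite category over the base. -/
abbrev total (𝒴 : BasedCategory.{v₃, u₃} 𝒳.obj) : BasedCategory.{v₃, u₃} C :=
  BasedCategory.ofFunctor (𝒴.p ⋙ 𝒳.p)

/-- The structure functor as a functor over the base. -/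
def proj (𝒴 : BasedCategory.{v₃, u₃} 𝒳.obj) : total 𝒴 ⥤ᵇ 𝒳 where
  toFunctor := 𝒴.p
  w := rfl

theorem lift_total {w x : 𝒳.obj} (g : w ⟶ x) {z ξ : 𝒴.obj} (ψ : z ⟶ ξ) [𝒴.p.IsHomLift g ψ] :
    (𝒴.p ⋙ 𝒳.p).IsHomLift (𝒳.p.map g) ψ := by
  have hz : 𝒴.p.obj z = w := IsHomLift.domain_eq 𝒴.p g ψ
  have hξ : 𝒴.p.obj ξ = x := IsHomLift.codomain_eq 𝒴.p g ψ
  refine IsHomLift.of_fac' (𝒴.p ⋙ 𝒳.p) _ _ (congrArg 𝒳.p.obj hz) (congrArg 𝒳.p.obj hξ) ?_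
  rw [Functor.comp_map, IsHomLift.fac' 𝒴.p g ψ]
  simp [eqToHom_map]

variable (h𝒳 : FibCat.IsFibGrpd 𝒳.p) (h𝒴 : FibCat.IsFibGrpd 𝒴.p)
include h𝒳 h𝒴

omit h𝒳 in
theorem sep_total {U : C} {R : Sieve U} (hS : Sep R 𝒳)
    (hS' : ∀ (x : 𝒳.obj) (e : 𝒳.p.obj x = U), Sep ((R.pullback (eqToHom e)).functorPullback 𝒳.p) 𝒴) :
    Sep R (total 𝒴) := by
  intro ξ η a b ha hb hab
  have ha0 : (𝒴.p ⋙ 𝒳.p).IsHomLift (𝟙 U) a := ha
  have hb0 : (𝒴.p ⋙ 𝒳.p).IsHomLift (𝟙 U) b := hb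
  have hξ : (𝒴.p ⋙ 𝒳.p).obj ξ = U := IsHomLift.domain_eq (𝒴.p ⋙ 𝒳.p) (𝟙 U) a
  subst hξ
  have ha' : 𝒳.p.IsHomLift (𝟙 (𝒳.p.obj (𝒴.p.obj ξ))) (𝒴.p.map a) := (FibSet.isHomLift_comp_iff _ _ _ a).mp ha0
  have hb' : 𝒳.p.IsHomLift (𝟙 (𝒳.p.obj (𝒴.p.obj ξ))) (𝒴.p.map b) := (FibSet.isHomLift_comp_iff _ _ _ b).mp hb0
  have e : 𝒴.p.map a = 𝒴.p.map b := by
    refine hS _ _ ha' hb' fun V f hf w χ hχ => ?_
    obtain ⟨z, ψ, hψ⟩ := Descent.exists_lift h𝒴 (rfl : 𝒴.p.obj ξ = _) χ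
    have hψZ : (𝒴.p ⋙ 𝒳.p).IsHomLift f ψ := by
      have hz : 𝒴.p.obj z = w := IsHomLift.domain_eq 𝒴.p χ ψ
      subst hz
      obtain rfl := IsHomLift.eq_of_isHomLift 𝒴.p χ ψ
      exact (FibSet.isHomLift_comp_iff _ _ f ψ).mpr hχ
    have hz : 𝒴.p.obj z = w := IsHomLift.domain_eq 𝒴.p χ ψ
    subst hz
    obtain rfl := IsHomLift.eq_of_isHomLift 𝒴.p χ ψ
    rw [← 𝒴.p.map_comp, ← 𝒴.p.map_comp, hab f hf ψ hψZ]
  obtain ⟨η', ω, hω⟩ := Descent.exists_lift h𝒴 (rfl : 𝒴.p.obj η = _) (𝒴.p.map a)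
  obtain ⟨θa, hθa, rfl⟩ := exists_factor h𝒴 ω hω a (IsHomLift.map 𝒴.p a)
  obtain ⟨θb, hθb, rfl⟩ := exists_factor h𝒴 ω hω b (by rw [e]; exact IsHomLift.map 𝒴.p b)
  suffices h : θa = θb by rw [h]
  refine hS' (𝒴.p.obj ξ) rfl θa θb hθa hθb fun w g hg z ψ hψ => ?_
  have hg' : R (𝒳.p.map g) := by simpa using (hg : R (𝒳.p.map g ≫ eqToHom rfl))
  refine ext_lift h𝒴 ω hω (g := g) inferInstance inferInstance ?_
  rw [Category.assoc, Category.assoc]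
  exact hab (𝒳.p.map g) hg' ψ (lift_total g ψ)

theorem glueHom_total {U : C} {R : Sieve U} (hG : GlueHom R 𝒳)
    (hG' : ∀ (x : 𝒳.obj) (e : 𝒳.p.obj x = U), GlueHom ((R.pullback (eqToHom e)).functorPullback 𝒳.p) 𝒴) :
    GlueHom R (total 𝒴) := by
  intro ξ η hξ hη c hc
  change 𝒳.p.obj (𝒴.p.obj ξ) = U at hξ
  change 𝒳.p.obj (𝒴.p.obj η) = U at hη
  subst hξ
  obtain ⟨c₀, hc₀, hc₀c⟩ := exists_map_fam (proj 𝒴) (FibSet.grpd_comp h𝒴 h𝒳) h𝒳 rfl c hc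
  obtain ⟨b, hb, hbe⟩ := hG (rfl : 𝒳.p.obj (𝒴.p.obj ξ) = _) hη c₀ hc₀
  obtain ⟨η', ω, hω⟩ := Descent.exists_lift h𝒴 (rfl : 𝒴.p.obj η = _) (b : 𝒴.p.obj ξ ⟶ 𝒴.p.obj η)
  let R' : Sieve (𝒴.p.obj ξ) := (R.pullback (eqToHom rfl)).functorPullback 𝒳.p
  have hR' : ∀ {w : 𝒳.obj} (g : w ⟶ 𝒴.p.obj ξ), R' g → R (𝒳.p.map g) := fun g hg => by
    have h1 : R (𝒳.p.map g ≫ eqToHom rfl) := hg
    simpa using h1
  have key : ∀ {w : 𝒳.obj} (g : w ⟶ 𝒴.p.obj ξ) (hg : R' g) {z : 𝒴.obj} (ψ : z ⟶ ξ)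
      (hψ : 𝒴.p.IsHomLift g ψ), ∃ θ : z ⟶ η', 𝒴.p.IsHomLift g θ ∧
        θ ≫ ω = c (𝒳.p.map g) (hR' g hg) ψ (haveI := hψ; lift_total g ψ) := by
    intro w g hg z ψ hψ
    have hz : 𝒴.p.obj z = w := IsHomLift.domain_eq 𝒴.p g ψ
    subst hz
    have hgψ : g = 𝒴.p.map ψ := IsHomLift.eq_of_isHomLift 𝒴.p g ψ
    subst hgψ
    have hl : 𝒳.p.IsHomLift (𝒳.p.map (𝒴.p.map ψ)) (𝒴.p.map ψ) := inferInstance
    have e1 : 𝒴.p.map (c (𝒳.p.map (𝒴.p.map ψ)) (hR' _ hg) ψ (lift_total (𝒴.p.map ψ) ψ)) = 𝒴.p.map ψ ≫ b :=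
      (hc₀c _ _ ψ _ hl).symm.trans (hbe _ _ (𝒴.p.map ψ) hl).symm
    have := cart h𝒴 ω hω
    have : 𝒴.p.IsHomLift (𝒴.p.map ψ ≫ b) (c (𝒳.p.map (𝒴.p.map ψ)) (hR' _ hg) ψ (lift_total (𝒴.p.map ψ) ψ)) := by
      rw [← e1]; exact IsHomLift.map 𝒴.p _
    exact (IsStronglyCartesian.universal_property 𝒴.p b ω (𝒴.p.map ψ) _ rfl _).exists
  choose θ hθ hθe using @key
  let d : Fam R' 𝒴 ξ η' := fun w g hg z ψ hψ => θ g hg ψ hψ
  have hd : d.Compatible := by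
    refine ⟨fun w g hg z ψ hψ => hθ g hg ψ hψ, fun w g hg z ψ hψ w' k z' ρ hρ hψ' => ?_⟩
    change θ (k ≫ g) _ _ hψ' = ρ ≫ θ g hg ψ hψ
    have := hθ g hg ψ hψ
    refine ext_lift h𝒴 ω hω (hθ (k ≫ g) _ _ hψ') inferInstance ?_
    have := hψ
    have := lift_total (𝒴 := 𝒴) g ψ
    have hρZ := lift_total (𝒴 := 𝒴) k ρ
    have := hρ
    rw [Category.assoc, hθe, hθe]
    refine (Fam.Compatible.congr (𝒳.p.map_comp k g) _ (R.downward_closed (hR' g hg) _) rfl _ ?_).trans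
      (hc.comp (𝒳.p.map g) _ ψ _ (𝒳.p.map k) ρ hρZ _)
    exact (inferInstanceAs ((𝒴.p ⋙ 𝒳.p).IsHomLift (𝒳.p.map k ≫ 𝒳.p.map g) (ρ ≫ ψ)))
  obtain ⟨a₁, ha₁, ha₁e⟩ := hG' (𝒴.p.obj ξ) rfl rfl (IsHomLift.domain_eq 𝒴.p b ω) d hd
  have e2 : 𝒴.p.map (a₁ ≫ ω) = b := by
    have h1 : 𝒴.p.IsHomLift b (a₁ ≫ ω) := IsHomLift.comp_lift_id_left' 𝒴.p (𝒴.p.obj ξ) a₁ b ω
    exact (IsHomLift.eq_of_isHomLift 𝒴.p b (a₁ ≫ ω)).symm
  refine ⟨a₁ ≫ ω, (FibSet.isHomLift_comp_iff _ _ _ _).mpr (e2.symm ▸ hb), fun V f hf z ψ hψ => ?_⟩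
  have hψ0 : (𝒴.p ⋙ 𝒳.p).IsHomLift f ψ := hψ
  have hz : (𝒴.p ⋙ 𝒳.p).obj z = V := IsHomLift.domain_eq (𝒴.p ⋙ 𝒳.p) f ψ
  subst hz
  have hfψ : f = (𝒴.p ⋙ 𝒳.p).map ψ := IsHomLift.eq_of_isHomLift (𝒴.p ⋙ 𝒳.p) f ψ
  subst hfψ
  have hg : R' (𝒴.p.map ψ) := by
    change R (𝒳.p.map (𝒴.p.map ψ) ≫ eqToHom rfl)
    simpa using hf
  rw [← Category.assoc, ha₁e (𝒴.p.map ψ) hg ψ (IsHomLift.map 𝒴.p ψ)]
  exact (hθe _ _ _ _).trans rfl

theorem glueObj_total {U : C} {R : Sieve U} (hO : GlueObj R 𝒳)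
    (hO' : ∀ (x : 𝒳.obj) (e : 𝒳.p.obj x = U), GlueObj ((R.pullback (eqToHom e)).functorPullback 𝒳.p) 𝒴) :
    GlueObj R (total 𝒴) := by
  intro H
  obtain ⟨⟨x, hx, κ, hκ, hw⟩⟩ := hO (BasedFunctor.comp H (proj 𝒴))
  subst hx
  let R' : Sieve x := (R.pullback (eqToHom rfl)).functorPullback 𝒳.p
  let aObj : (Stk.sieveCat R').obj → (Stk.sieveCat R).obj := fun b =>
    arr (𝒳.p.map b.obj.hom) (by
      have h1 : R (𝒳.p.map b.obj.hom ≫ eqToHom rfl) := b.property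
      simpa using h1)
  let aMap : ∀ {b b' : (Stk.sieveCat R').obj}, (b ⟶ b') → (aObj b ⟶ aObj b') := fun {b b'} m =>
    ObjectProperty.homMk (Over.homMk (𝒳.p.map m.hom.left) (by
      change 𝒳.p.map m.hom.left ≫ 𝒳.p.map b'.obj.hom = 𝒳.p.map b.obj.hom
      rw [← 𝒳.p.map_comp, Over.w m.hom]))
  have exν : ∀ b, ∃ ν : b.obj.left ⟶ 𝒴.p.obj (H.obj (aObj b)),
      𝒳.p.IsHomLift (𝟙 (𝒳.p.obj b.obj.left)) ν ∧ ν ≫ κ (aObj b) = b.obj.hom := fun b =>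
    exists_factor h𝒳 (κ (aObj b)) (hκ (aObj b)) b.obj.hom (IsHomLift.map 𝒳.p b.obj.hom)
  choose ν hν hνe using exν
  choose k l hl using fun b => Descent.exists_lift h𝒴 (rfl : 𝒴.p.obj (H.obj (aObj b)) = _) (ν b)
  have hHlift : ∀ {b b' : (Stk.sieveCat R').obj} (m : b ⟶ b'),
      𝒳.p.IsHomLift (𝒳.p.map m.hom.left) (𝒴.p.map (H.map (aMap m))) := fun {b b'} m => by
    refine (FibSet.isHomLift_comp_iff _ _ _ _).mp ?_
    have : (Stk.sieveCat R).p.IsHomLift (aMap m).hom.left (aMap m) := sieveCat_isHomLift (aMap m)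
    exact BasedFunctor.preserves_isHomLift H (aMap m).hom.left (aMap m)
  have exK : ∀ {b b' : (Stk.sieveCat R').obj} (m : b ⟶ b'),
      ∃! χ : k b ⟶ k b', 𝒴.p.IsHomLift m.hom.left χ ∧ χ ≫ l b' = l b ≫ H.map (aMap m) := fun {b b'} m => by
    have := cart h𝒴 (l b') (hl b')
    have := hl b
    have e : ν b ≫ 𝒴.p.map (H.map (aMap m)) = m.hom.left ≫ ν b' := by
      have := hν b
      have := hν b'
      have := hHlift m
      have h1 : 𝒳.p.IsHomLift (𝒳.p.map m.hom.left) (ν b ≫ 𝒴.p.map (H.map (aMap m))) :=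
        IsHomLift.comp_lift_id_left' 𝒳.p (𝒳.p.obj b.obj.left) (ν b) (𝒳.p.map m.hom.left) _
      have h2 : 𝒳.p.IsHomLift (𝒳.p.map m.hom.left) (m.hom.left ≫ ν b') :=
        IsHomLift.comp_lift_id_right' 𝒳.p (𝒳.p.map m.hom.left) m.hom.left (𝒳.p.obj b'.obj.left) (ν b')
      refine ext_lift h𝒳 (κ (aObj b')) (hκ (aObj b')) h1 h2 ?_
      simp only [Category.assoc, hνe, Over.w m.hom]
      have := hw (aMap m)
      change 𝒴.p.map (H.map (aMap m)) ≫ κ (aObj b') = κ (aObj b) at this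
      rw [this, hνe]
    exact IsStronglyCartesian.universal_property 𝒴.p (ν b') (l b') m.hom.left
      (ν b ≫ 𝒴.p.map (H.map (aMap m))) e (l b ≫ H.map (aMap m))
  choose Km hKm hKu using @exK
  have haid : ∀ b, aMap (𝟙 b) = 𝟙 (aObj b) := fun b =>
    ObjectProperty.hom_ext _ (Over.OverMorphism.ext (𝒳.p.map_id _))
  have hacomp : ∀ {b b' b'' : (Stk.sieveCat R').obj} (m : b ⟶ b') (n : b' ⟶ b''),
      aMap (m ≫ n) = aMap m ≫ aMap n := fun m n =>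
    ObjectProperty.hom_ext _ (Over.OverMorphism.ext (𝒳.p.map_comp _ _))
  let K₀ : (Stk.sieveCat R').obj ⥤ 𝒴.obj :=
    { obj := k
      map := fun m => Km m
      map_id := fun b => by
        refine (hKu (𝟙 b) (𝟙 (k b)) ⟨?_, ?_⟩).symm
        · have := hl b
          exact IsHomLift.id (IsHomLift.domain_eq 𝒴.p (ν b) (l b))
        · rw [haid, H.toFunctor.map_id, Category.id_comp, Category.comp_id]
      map_comp := fun {b b' b''} m n => by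
        refine (hKu (m ≫ n) (Km m ≫ Km n) ⟨?_, ?_⟩).symm
        · have := (hKm m).1
          have := (hKm n).1
          exact (inferInstanceAs (𝒴.p.IsHomLift (m.hom.left ≫ n.hom.left) (Km m ≫ Km n)))
        · rw [Category.assoc, (hKm n).2, ← Category.assoc, (hKm m).2, Category.assoc, ← H.toFunctor.map_comp,
            ← hacomp] }
  let K : Stk.sieveCat R' ⥤ᵇ 𝒴 :=
    { toFunctor := K₀
      w := CategoryTheory.Functor.ext (fun b => haveI := hl b; IsHomLift.domain_eq 𝒴.p (ν b) (l b))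
        (fun b b' m => haveI := (hKm m).1; IsHomLift.fac' 𝒴.p m.hom.left (Km m)) }
  obtain ⟨⟨ξ, hξ, ι, hι, hιw⟩⟩ := hO' x rfl K
  have hR : ∀ a : (Stk.sieveCat R).obj, R' (κ a) := fun a => by
    change R (𝒳.p.map (κ a) ≫ eqToHom rfl)
    have := hκ a
    have e : 𝒳.p.map (κ a) = _ := IsHomLift.fac' 𝒳.p a.obj.hom (κ a)
    rw [e]
    simpa using a.property
  let bObj : (Stk.sieveCat R).obj → (Stk.sieveCat R').obj := fun a => arr (κ a) (hR a)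
  have ea : ∀ a : (Stk.sieveCat R).obj, a.obj.left = 𝒳.p.obj (𝒴.p.obj (H.obj a)) := fun a =>
    (haveI := hκ a; IsHomLift.domain_eq 𝒳.p a.obj.hom (κ a)).symm
  let θ : ∀ a, a ⟶ aObj (bObj a) := fun a => ObjectProperty.homMk (Over.homMk (eqToHom (ea a)) (by
    have := hκ a
    change eqToHom (ea a) ≫ 𝒳.p.map (κ a) = a.obj.hom
    have e : 𝒳.p.map (κ a) = _ := IsHomLift.fac' 𝒳.p a.obj.hom (κ a)
    rw [e]
    simp))
  have hlIso : ∀ b, IsIso (l b) := fun b => by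
    have : IsIso (ν b) := isIso_of_vertical h𝒳 (ν b) (hν b)
    have := cart h𝒴 (l b) (hl b)
    exact IsStronglyCartesian.isIso_of_base_isIso 𝒴.p (ν b) (l b)
  have hν' : ∀ a, ν (bObj a) = 𝒴.p.map (H.map (θ a)) := fun a => by
    have : (Stk.sieveCat R).p.IsHomLift (θ a).hom.left (θ a) := sieveCat_isHomLift (θ a)
    have h1 : (𝒴.p ⋙ 𝒳.p).IsHomLift (θ a).hom.left (H.map (θ a)) :=
      BasedFunctor.preserves_isHomLift H (θ a).hom.left (θ a)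
    have h2 : (𝒴.p ⋙ 𝒳.p).IsHomLift (𝟙 (𝒳.p.obj (𝒴.p.obj (H.obj a)))) (H.map (θ a)) := by
      refine IsHomLift.of_fac' (𝒴.p ⋙ 𝒳.p) _ _ rfl ((H.w_obj (aObj (bObj a))).trans rfl) ?_
      rw [IsHomLift.fac' (𝒴.p ⋙ 𝒳.p) (θ a).hom.left (H.map (θ a))]
      simp [θ]
    refine ext_lift h𝒳 (κ (aObj (bObj a))) (hκ _) (hν (bObj a)) ((FibSet.isHomLift_comp_iff _ _ _ _).mp h2) ?_
    rw [hνe]
    exact (hw (θ a)).symm
  refine ⟨⟨ξ, (congrArg 𝒳.p.obj hξ : 𝒳.p.obj (𝒴.p.obj ξ) = 𝒳.p.obj x),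
    fun a => H.map (θ a) ≫ @inv _ _ _ _ (l (bObj a)) (hlIso _) ≫ ι (bObj a), fun a => ?_, fun a a' m => ?_⟩⟩
  · have := hlIso (bObj a)
    have := hι (bObj a)
    have := hl (bObj a)
    have hνiso : IsIso (ν (bObj a)) := isIso_of_vertical h𝒳 _ (hν _)
    refine (FibSet.isHomLift_comp_iff _ _ _ _).mpr ?_
    have h1 : 𝒴.p.IsHomLift (κ a) (H.map (θ a) ≫ inv (l (bObj a)) ≫ ι (bObj a)) := by
      have h2 : 𝒴.p.IsHomLift (ν (bObj a)) (H.map (θ a)) := by rw [hν' a]; infer_instance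
      have h3 : 𝒴.p.IsHomLift (κ a) (ι (bObj a)) := hι (bObj a)
      have h4 : 𝒴.p.IsHomLift (inv (ν (bObj a))) (inv (l (bObj a))) := inferInstance
      have h5 : 𝒴.p.IsHomLift (ν (bObj a) ≫ inv (ν (bObj a)) ≫ κ a)
          (H.map (θ a) ≫ inv (l (bObj a)) ≫ ι (bObj a)) := inferInstance
      simpa using h5
    have e := IsHomLift.fac' 𝒴.p (κ a) (H.map (θ a) ≫ inv (l (bObj a)) ≫ ι (bObj a))
    rw [e]
    have := hκ a
    have : 𝒳.p.IsHomLift (𝟙 (𝒳.p.obj x)) (eqToHom hξ.symm) := IsHomLift.eqToHom_domain_lift_id hξ.symm rfl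
    simp only [eqToHom_refl]
    erw [Category.id_comp]
    infer_instance
  · have := hlIso (bObj a)
    have := hlIso (bObj a')
    let m' : bObj a ⟶ bObj a' := ObjectProperty.homMk (Over.homMk (𝒴.p.map (H.map m)) (hw m))
    have hsq : m ≫ θ a' = θ a ≫ aMap m' := by
      refine ObjectProperty.hom_ext _ (Over.OverMorphism.ext ?_)
      change m.hom.left ≫ eqToHom (ea a') = eqToHom (ea a) ≫ 𝒳.p.map (𝒴.p.map (H.map m))
      have : (Stk.sieveCat R).p.IsHomLift m.hom.left m := sieveCat_isHomLift m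
      have h1 : (𝒴.p ⋙ 𝒳.p).IsHomLift m.hom.left (H.map m) :=
        BasedFunctor.preserves_isHomLift H m.hom.left m
      rw [← Functor.comp_map, IsHomLift.fac' (𝒴.p ⋙ 𝒳.p) m.hom.left (H.map m)]
      simp
    have e2 : H.map (aMap m') ≫ inv (l (bObj a')) = inv (l (bObj a)) ≫ Km m' := by
      rw [IsIso.comp_inv_eq, Category.assoc, (hKm m').2, IsIso.inv_hom_id_assoc]
    change H.map m ≫ H.map (θ a') ≫ inv (l (bObj a')) ≫ ι (bObj a') =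
      H.map (θ a) ≫ inv (l (bObj a)) ≫ ι (bObj a)
    rw [← Category.assoc (H.map m), ← H.toFunctor.map_comp, hsq, H.toFunctor.map_comp, Category.assoc,
      reassoc_of% e2]
    exact congrArg (fun t => H.map (θ a) ≫ inv (l (bObj a)) ≫ t) (hιw m')

omit h𝒳 h𝒴

/-- A stack over a stack is a stack over the base. -/
theorem isStack_total (J : GrothendieckTopology C) (h𝒳 : Stk.IsStack J 𝒳)
    (h𝒴 : Stk.IsStack (𝒳.p.restrictedTopology J) 𝒴) : Stk.IsStack J (total 𝒴) := by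
  have hg : FibCat.IsFibGrpd (total 𝒴).p := FibSet.grpd_comp h𝒴.1 h𝒳.1
  refine ⟨hg, fun U R hR => (isStackFor_iff hg).2 ?_⟩
  obtain ⟨hs, hh, ho⟩ := (isStackFor_iff h𝒳.1).mp (h𝒳.2 R hR)
  have key : ∀ (x : 𝒳.obj) (e : 𝒳.p.obj x = U),
      Sep ((R.pullback (eqToHom e)).functorPullback 𝒳.p) 𝒴 ∧
        GlueHom ((R.pullback (eqToHom e)).functorPullback 𝒳.p) 𝒴 ∧
          GlueObj ((R.pullback (eqToHom e)).functorPullback 𝒳.p) 𝒴 := by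
    intro x e
    refine (isStackFor_iff h𝒴.1).mp (h𝒴.2 _ ?_)
    rw [Restricted.mem_restricted_iff h𝒳.1, Restricted.pushforward_pull h𝒳.1]
    exact J.pullback_stable _ hR
  exact ⟨sep_total h𝒴.1 hs fun x e => (key x e).1, glueHom_total h𝒳.1 h𝒴.1 hh fun x e => (key x e).2.1,
    glueObj_total h𝒳.1 h𝒴.1 ho fun x e => (key x e).2.2⟩

end Groth.Agent.Lib.Fibred.StackComp
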