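import Groth.Agent.Lib.Fibred.StackLocal
import Mathlib.CategoryTheory.Sites.Over

/-!
# A category over a stack with stack fibres is a stack
-/

set_option autoImplicit false
set_option backward.isDefEq.respectTransparency false
set_option backward.isDefEq.respectTransparency.types false

universe v₂ u₂ v₃ u₃ v u

open CategoryTheory CategoryTheory.Functor Groth.Agent.Lib.Fibred.Basic Groth.Agent.Lib.Fibred.EquivOver
  Groth.Agent.Lib.Fibred.Descent Groth.Agent.Lib.Fibred.StackLemmas Groth.Agent.Lib.Fibred.StackLocal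
  Groth.Agent.Lib.Fibred.Yoneda

namespace Groth.Agent.Lib.Fibred.StackFibres

variable {C : Type u} [Category.{v} C] {U : C} {R : Sieve U}
  {𝒮 : BasedCategory.{v₂, u₂} C} {𝒯 : BasedCategory.{v₃, u₃} C} (F : 𝒮 ⥤ᵇ 𝒯)

/-- The fibre over a point of the base. -/
abbrev fibre (y : FibCat.overCat U ⥤ᵇ 𝒯) : BasedCategory (Over U) :=
  BasedCategory.ofFunctor ((FibCat.fpFst y F).toFunctor : (FibCat.fp y F).obj ⥤ Over U)

/-- The sieve induced on the terminal object of the slice. -/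
abbrev top' (R : Sieve U) : Sieve (Over.mk (𝟙 U)) := (Sieve.overEquiv (Over.mk (𝟙 U))).symm R

theorem left_eq {a b a' b' : Over U} (h : a' = a) (h' : b' = b) (m : a ⟶ b) :
    (eqToHom h ≫ m ≫ eqToHom h'.symm).left =
      eqToHom (congrArg Over.left h) ≫ m.left ≫ eqToHom (congrArg Over.left h'.symm) := by
  subst h h'
  simp

theorem fst_eq {y : FibCat.overCat U ⥤ᵇ 𝒯} {z w : (fibre F y).obj} (φ : z ⟶ w) {a b : Over U} (m : a ⟶ b)
    (h : (fibre F y).p.IsHomLift m φ) :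
    ∃ (h₁ : z.obj.fst = a) (h₂ : w.obj.fst = b), φ.hom.fst = eqToHom h₁ ≫ m ≫ eqToHom h₂.symm := by
  have : (FibCat.fpFst y F).toFunctor.IsHomLift m φ := h
  exact ⟨IsHomLift.domain_eq (FibCat.fpFst y F).toFunctor m φ,
    IsHomLift.codomain_eq (FibCat.fpFst y F).toFunctor m φ, IsHomLift.fac' (FibCat.fpFst y F).toFunctor m φ⟩

theorem snd_lifts {y : FibCat.overCat U ⥤ᵇ 𝒯} {z w : (fibre F y).obj} (φ : z ⟶ w) :
    𝒮.p.IsHomLift φ.hom.fst.left φ.hom.snd := by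
  have : (FibCat.fp y F).p.IsHomLift φ.hom.fst.left φ :=
    (Fp.isHomLift_iff φ φ.hom.fst.left).mpr (IsHomLift.map (Over.forget U) φ.hom.fst)
  exact Fp.isHomLift_snd φ φ.hom.fst.left

variable (h𝒮 : FibCat.IsFibGrpd 𝒮.p) (h𝒯 : FibCat.IsFibGrpd 𝒯.p)
include h𝒮 h𝒯

theorem glueHom_of_fibres (hG : GlueHom R 𝒯) (hP : ∀ y : FibCat.overCat U ⥤ᵇ 𝒯, GlueHom (top' R) (fibre F y)) :
    GlueHom R 𝒮 := by
  intro ξ η hξ hη c hc
  obtain ⟨c₀, hc₀, hc₀c⟩ := exists_map_fam F h𝒮 h𝒯 hξ c hc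
  obtain ⟨b, hb, hbe⟩ := hG (by rw [F.w_obj, hξ]) (by rw [F.w_obj, hη]) c₀ hc₀
  have : IsIso b := isIso_of_vertical h𝒯 b hb
  obtain ⟨G, e, he⟩ := exists_fromFiber h𝒯 (show 𝒯.p.obj (F.obj η) = U by rw [F.w_obj, hη])
  let z₁ : (fibre F G).obj := Fp.mkObj (Over.mk (𝟙 U)) ξ (e ≪≫ (asIso b).symm)
    (show 𝒯.p.IsHomLift (𝟙 U) (e.hom ≫ inv b) by infer_instance)
  let z₂ : (fibre F G).obj := Fp.mkObj (Over.mk (𝟙 U)) η e he
  have sq : ∀ {z : (fibre F G).obj} (ψ : z ⟶ z₁) (hg : R ψ.hom.fst.left),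
      G.map ψ.hom.fst ≫ z₂.obj.iso.hom =
        z.obj.iso.hom ≫ F.map (c ψ.hom.fst.left hg ψ.hom.snd (snd_lifts F ψ)) := by
    intro z ψ hg
    have h1 := Fp.w ψ
    have := snd_lifts F ψ
    have h2 := hc₀c ψ.hom.fst.left hg ψ.hom.snd (snd_lifts F ψ) inferInstance
    rw [← h2, ← hbe, ← Category.assoc, ← h1]
    simp [z₁, z₂, Fp.mkObj]
  have hmem : ∀ {w : Over U} (g : w ⟶ Over.mk (𝟙 U)), top' R g → ∀ {z : (fibre F G).obj} (ψ : z ⟶ z₁),
      (fibre F G).p.IsHomLift g ψ → R ψ.hom.fst.left := by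
    intro w g hg z ψ hψ
    obtain ⟨h₁, h₂, e'⟩ := fst_eq F ψ g hψ
    rw [e', left_eq h₁ h₂ g]
    have hg' : R g.left := hg
    simpa using R.downward_closed hg' (eqToHom (congrArg Over.left h₁))
  let c' : Fam (top' R) (fibre F G) z₁ z₂ := fun w g hg z ψ hψ =>
    Fp.mkHom ψ.hom.fst (c ψ.hom.fst.left (hmem g hg ψ hψ) ψ.hom.snd (snd_lifts F ψ)) (sq ψ _)
  have hc' : c'.Compatible := by
    refine ⟨fun w g hg z ψ hψ => ?_, fun w g hg z ψ hψ w' k z' ρ hρ hψ' => Fp.hom_ext rfl ?_⟩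
    · obtain ⟨h₁, h₂, e'⟩ := fst_eq F ψ g hψ
      exact IsHomLift.of_fac' (FibCat.fpFst G F).toFunctor g _ h₁ rfl e'
    · have := hρ
      change c (ρ.hom.fst ≫ ψ.hom.fst).left _ (ρ.hom.snd ≫ ψ.hom.snd) _ = ρ.hom.snd ≫ c ψ.hom.fst.left _ ψ.hom.snd _
      have := snd_lifts F ρ
      have := snd_lifts F ψ
      refine (Fam.Compatible.congr (Over.comp_left _ _ _ ρ.hom.fst ψ.hom.fst) _
        (R.downward_closed (hmem g hg ψ hψ) ρ.hom.fst.left) rfl _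
        (inferInstanceAs (𝒮.p.IsHomLift (ρ.hom.fst.left ≫ ψ.hom.fst.left) (ρ.hom.snd ≫ ψ.hom.snd)))).trans
        (hc.comp ψ.hom.fst.left _ ψ.hom.snd (snd_lifts F ψ) ρ.hom.fst.left ρ.hom.snd (snd_lifts F ρ) _)
  obtain ⟨a, ha, hae⟩ := hP G (rfl : (fibre F G).p.obj z₁ = _) (rfl : (fibre F G).p.obj z₂ = _) c' hc'
  refine ⟨a.hom.snd, ?_, fun V f hf z ψ hψ => ?_⟩
  · obtain ⟨h₁, h₂, e'⟩ := fst_eq F a (𝟙 (Over.mk (𝟙 U))) ha
    have := snd_lifts F a
    have e'' : a.hom.fst.left = 𝟙 U := by rw [e', left_eq h₁ h₂]; exact (Category.id_comp _).trans (Category.id_comp _)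
    rwa [e''] at this
  · have hl : 𝒯.p.IsHomLift f (G.map (toId (Over.mk f)) ≫ e.hom ≫ inv b) := by
      have : 𝒯.p.IsHomLift f (G.map (toId (Over.mk f))) := toId_map_isHomLift G (Over.mk f)
      infer_instance
    obtain ⟨θ, hθ, hθe⟩ := exists_factor h𝒯 (F.map ψ) inferInstance _ hl
    have := isIso_of_vertical h𝒯 θ hθ
    have hz : 𝒮.p.obj z = V := IsHomLift.domain_eq 𝒮.p f ψ
    let zz : (fibre F G).obj := Fp.mkObj (Over.mk f) z (asIso θ) hθ
    let m : zz ⟶ z₁ := Fp.mkHom (toId (Over.mk f)) ψ hθe.symm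
    have key := hae (toId (Over.mk f)) hf m
      (IsHomLift.map (FibCat.fpFst G F).toFunctor m)
    exact congrArg (fun t => t.hom.snd) key

omit h𝒮 in
theorem glueObj_of_fibres (hO : GlueObj R 𝒯) (hP : ∀ y : FibCat.overCat U ⥤ᵇ 𝒯, GlueObj (top' R) (fibre F y)) :
    GlueObj R 𝒮 := by
  intro H
  obtain ⟨⟨t, ht, κ, hκ, hw⟩⟩ := hO (BasedFunctor.comp H F)
  obtain ⟨G, e, he⟩ := exists_fromFiber h𝒯 ht
  have hl : ∀ a : (Stk.sieveCat R).obj, 𝒯.p.IsHomLift a.obj.hom (G.map (toId a.obj) ≫ e.hom) := fun a => by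
    have := toId_map_isHomLift G a.obj; infer_instance
  choose θ hθ hθe using fun a : (Stk.sieveCat R).obj => exists_factor h𝒯 (κ a) (hκ a) _ (hl a)
  have hsq : ∀ {a a' : (Stk.sieveCat R).obj} (m : a ⟶ a'), G.map m.hom ≫ θ a' = θ a ≫ F.map (H.map m) := by
    intro a a' m
    have : (Stk.sieveCat R).p.IsHomLift m.hom.left m := sieveCat_isHomLift m
    have : 𝒯.p.IsHomLift m.hom.left (G.map m.hom) := haveI := left_isHomLift m.hom; inferInstance
    have := hθ a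
    have := hθ a'
    have h1 : 𝒯.p.IsHomLift m.hom.left (G.map m.hom ≫ θ a') :=
      IsHomLift.comp_lift_id_right' 𝒯.p m.hom.left (G.map m.hom) a'.obj.left (θ a')
    have h2 : 𝒯.p.IsHomLift m.hom.left (θ a ≫ F.map (H.map m)) :=
      IsHomLift.comp_lift_id_left' 𝒯.p a.obj.left (θ a) m.hom.left (F.map (H.map m))
    refine ext_lift h𝒯 (κ a') (hκ a') h1 h2 ?_
    have hw' : F.map (H.map m) ≫ κ a' = κ a := hw m
    rw [Category.assoc, hθe, Category.assoc, hw', hθe, ← Category.assoc, ← G.toFunctor.map_comp, toId_naturality]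
  have hiso : ∀ a, IsIso (θ a) := fun a => isIso_of_vertical h𝒯 (θ a) (hθ a)
  let Z : (Stk.sieveCat R).obj → (fibre F G).obj := fun a =>
    Fp.mkObj a.obj (H.obj a) (@asIso _ _ _ _ (θ a) (hiso a)) (hθ a)
  let L : (Stk.sieveCat (top' R)).obj ⥤ (Stk.sieveCat R).obj :=
    { obj := fun b => ⟨b.obj.left, by
        have h1 : R b.obj.hom.left := b.property
        have h2 : b.obj.hom.left = b.obj.left.hom := (Category.comp_id _).symm.trans (Over.w b.obj.hom)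
        exact h2 ▸ h1⟩
      map := fun m => ObjectProperty.homMk m.hom.left }
  let K : Stk.sieveCat (top' R) ⥤ᵇ fibre F G :=
    { toFunctor :=
        { obj := fun b => Z (L.obj b)
          map := fun {b b'} m => Fp.mkHom m.hom.left (H.map (L.map m)) (hsq (L.map m))
          map_id := fun b => Fp.hom_ext rfl (by
            change H.map (L.map (𝟙 b)) = 𝟙 _
            rw [L.map_id, H.toFunctor.map_id])
          map_comp := fun {b b' b''} m n => Fp.hom_ext rfl (by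
            change H.map (L.map (m ≫ n)) = H.map (L.map m) ≫ H.map (L.map n)
            rw [L.map_comp, H.toFunctor.map_comp]) }
      w := rfl }
  obtain ⟨⟨z₀, hz₀, ι, hι, hιw⟩⟩ := hP G K
  change z₀.obj.fst = Over.mk (𝟙 U) at hz₀
  let B : (Stk.sieveCat R).obj → (Stk.sieveCat (top' R)).obj := fun a =>
    ⟨Over.mk (toId a.obj), a.property⟩
  refine ⟨⟨z₀.obj.snd, (Fp.p_snd z₀).trans (congrArg Over.left hz₀), fun a => (ι (B a)).hom.snd, fun a => ?_,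
    fun a a' m => ?_⟩⟩
  · change 𝒮.p.IsHomLift a.obj.hom (ι (B a)).hom.snd
    obtain ⟨h₁, h₂, e'⟩ := fst_eq F (ι (B a)) (toId a.obj) (hι (B a))
    have h3 := snd_lifts F (ι (B a))
    rw [e', left_eq h₁ h₂ (toId a.obj)] at h3
    simpa [toId] using h3
  · let m' : B a ⟶ B a' := ObjectProperty.homMk (Over.homMk m.hom (toId_naturality m.hom))
    exact congrArg (fun t => t.hom.snd) (hιw m')

omit h𝒮 h𝒯

/-- The stack property from the fibres. -/
theorem isStack_of_fibres (J : GrothendieckTopology C) [F.toFunctor.Faithful] (h𝒮 : FibCat.IsFibGrpd 𝒮.p)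
    (h𝒯 : Stk.IsStack J 𝒯) (h3 : ∀ (U : C) (y : FibCat.overCat U ⥤ᵇ 𝒯), Stk.IsStack (J.over U) (fibre F y)) :
    Stk.IsStack J 𝒮 := by
  refine ⟨h𝒮, fun U R hR => (isStackFor_iff h𝒮).2 ?_⟩
  obtain ⟨hs, hh, ho⟩ := (isStackFor_iff h𝒯.1).mp (h𝒯.2 R hR)
  have hT : ∀ y : FibCat.overCat U ⥤ᵇ 𝒯, Sep (top' R) (fibre F y) ∧ GlueHom (top' R) (fibre F y) ∧
      GlueObj (top' R) (fibre F y) := fun y =>
    (isStackFor_iff (h3 U y).1).mp ((h3 U y).2 _ (J.overEquiv_symm_mem_over (Over.mk (𝟙 U)) R hR))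
  exact ⟨sep_of_faithful F h𝒮 h𝒯.1 hs, glueHom_of_fibres F h𝒮 h𝒯.1 hh fun y => (hT y).2.1,
    glueObj_of_fibres F h𝒯.1 ho fun y => (hT y).2.2⟩

end Groth.Agent.Lib.Fibred.StackFibres
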