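import Groth.Agent.Lib.Fibred.StackLocal
import Groth.Agent.Lib.Fibred.Restricted

/-!
# Stacks over a stack
-/

set_option autoImplicit false
set_option backward.isDefEq.respectTransparency false
set_option backward.isDefEq.respectTransparency.types false

universe v₂ u₂ v₃ u₃ v u

open CategoryTheory CategoryTheory.Functor Groth.Agent.Lib.Fibred.Basic Groth.Agent.Lib.Fibred.EquivOver
  Groth.Agent.Lib.Fibred.Descent Groth.Agent.Lib.Fibred.StackLemmas Groth.Agent.Lib.Fibred.StackLocal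

namespace Groth.Agent.Lib.Fibred.StackOver

variable {C : Type u} [Category.{v} C] {𝒳 : BasedCategory.{v₂, u₂} C} {𝒴 : BasedCategory.{v₃, u₃} C}

section Slice

variable (h𝒳 : FibCat.IsFibGrpd 𝒳.p) (h𝒴 : FibCat.IsFibGrpd 𝒴.p) (F : 𝒳 ⥤ᵇ 𝒴) {y : 𝒴.obj} (R : Sieve y)
include h𝒴

/-- The image of a lift lies in the sieve. -/
theorem mem_of_lift {V : C} (f : V ⟶ 𝒴.p.obj y) (hf : R.functorPushforward 𝒴.p f) {w : 𝒴.obj} (g : w ⟶ y)
    [𝒴.p.IsHomLift f g] : R g :=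
  (Restricted.pushforward_iff h𝒴 R f g).mp hf

include h𝒳

omit h𝒳 in
theorem sep_over (hS : Sep (R.functorPushforward 𝒴.p) 𝒳) :
    Sep R (BasedCategory.ofFunctor F.toFunctor) := by
  intro ξ η a b ha hb hab
  have hξ : F.obj ξ = y :=
    haveI : F.toFunctor.IsHomLift (𝟙 y) a := ha
    IsHomLift.domain_eq F.toFunctor (𝟙 y) a
  subst hξ
  have hp : ∀ {c : ξ ⟶ η}, F.toFunctor.IsHomLift (𝟙 (F.obj ξ)) c →
      𝒳.p.IsHomLift (𝟙 (𝒴.p.obj (F.obj ξ))) c := fun {c} hc => by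
    refine (F.isHomLift_iff (𝟙 (𝒴.p.obj (F.obj ξ))) c).mp ?_
    have e := IsHomLift.fac' F.toFunctor (𝟙 (F.obj ξ)) c
    rw [e]
    exact IsHomLift.of_fac' 𝒴.p _ _ rfl (congrArg 𝒴.p.obj (IsHomLift.codomain_eq F.toFunctor (𝟙 (F.obj ξ)) c))
      (by simp [eqToHom_map])
  refine hS a b (hp ha) (hp hb) fun V f hf z ψ hψ => ?_
  have : 𝒴.p.IsHomLift f (F.map ψ) := inferInstance
  exact hab (F.map ψ) (mem_of_lift h𝒴 R f hf (F.map ψ)) ψ (IsHomLift.map F.toFunctor ψ)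

theorem glueHom_over (hS : Sep (R.functorPushforward 𝒴.p) 𝒴) (hG : GlueHom (R.functorPushforward 𝒴.p) 𝒳) :
    GlueHom R (BasedCategory.ofFunctor F.toFunctor) := by
  intro ξ η hξ hη c hc
  change F.obj ξ = y at hξ
  subst hξ
  change F.obj η = F.obj ξ at hη
  let c' : Fam (R.functorPushforward 𝒴.p) 𝒳 ξ η := fun V f hf z ψ hψ =>
    haveI := hψ
    c (F.map ψ) (mem_of_lift h𝒴 R f hf (F.map ψ)) ψ (IsHomLift.map F.toFunctor ψ)
  have hcc : ∀ {w : 𝒴.obj} (g : w ⟶ F.obj ξ) (hg : R g) {z : 𝒳.obj} (ψ : z ⟶ ξ)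
      (hψ : F.toFunctor.IsHomLift g ψ), F.map (c g hg ψ hψ) ≫ eqToHom hη = F.map ψ := by
    intro w g hg z ψ hψ
    have : F.toFunctor.IsHomLift g (c g hg ψ hψ) := hc.lifts g hg ψ hψ
    rw [IsHomLift.fac' F.toFunctor g (c g hg ψ hψ), IsHomLift.fac' F.toFunctor g ψ]
    simp
  have hc' : c'.Compatible := by
    refine ⟨fun V f hf z ψ hψ => ?_, fun V f hf z ψ hψ V' k z' ρ hρ hψ' => ?_⟩
    · change 𝒳.p.IsHomLift f (c (F.map ψ) _ ψ _)
      refine (F.isHomLift_iff f _).mp ?_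
      have := hψ
      have e := hcc (F.map ψ) (mem_of_lift h𝒴 R f hf (F.map ψ)) ψ (IsHomLift.map F.toFunctor ψ)
      have e' : F.map (c (F.map ψ) (mem_of_lift h𝒴 R f hf (F.map ψ)) ψ (IsHomLift.map F.toFunctor ψ)) =
          F.map ψ ≫ eqToHom hη.symm := (comp_eqToHom_iff _ _ _).mp e
      rw [e']
      have : 𝒴.p.IsHomLift (𝟙 (𝒴.p.obj (F.obj ξ))) (eqToHom hη.symm) :=
        IsHomLift.eqToHom_domain_lift_id hη.symm rfl
      infer_instance
    · have := hψ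
      change c (F.map (ρ ≫ ψ)) _ _ _ = ρ ≫ c (F.map ψ) _ _ _
      refine (Fam.Compatible.congr (F.toFunctor.map_comp ρ ψ) _
        (R.downward_closed (mem_of_lift h𝒴 R f hf (F.map ψ)) (F.map ρ)) rfl _ ?_).trans
        (hc.comp (F.map ψ) _ ψ (IsHomLift.map F.toFunctor ψ) (F.map ρ) ρ (IsHomLift.map F.toFunctor ρ) _)
      exact (inferInstanceAs (F.toFunctor.IsHomLift (F.map ρ ≫ F.map ψ) (ρ ≫ ψ)))
  obtain ⟨a, ha, hae⟩ := hG (F.w_obj ξ).symm ((F.w_obj η).symm.trans (congrArg 𝒴.p.obj hη)) c' hc'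
  have hFa : F.map a ≫ eqToHom hη = 𝟙 (F.obj ξ) := by
    have : 𝒴.p.IsHomLift (𝟙 (𝒴.p.obj (F.obj ξ))) (eqToHom hη) := IsHomLift.eqToHom_codomain_lift_id hη rfl
    refine hS _ _ (by infer_instance) (IsHomLift.id rfl) fun V f hf w χ hχ => ?_
    obtain ⟨z, ψ, hψ⟩ := Descent.exists_lift h𝒳 (F.w_obj ξ).symm f
    obtain ⟨θ, -, rfl⟩ := exists_factor h𝒴 (F.map ψ) inferInstance χ hχ
    rw [Category.comp_id, Category.assoc, ← Category.assoc (F.map ψ), ← F.toFunctor.map_comp, hae f hf ψ hψ]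
    exact congrArg (fun t => θ ≫ t) (hcc _ _ ψ _)
  refine ⟨a, IsHomLift.of_fac F.toFunctor _ a rfl hη (by simpa using hFa.symm), fun w g hg z ψ hψ => ?_⟩
  have hψ' : F.toFunctor.IsHomLift g ψ := hψ
  have hw : F.obj z = w := IsHomLift.domain_eq F.toFunctor g ψ
  subst hw
  have hg' : g = F.map ψ := by simpa using (IsHomLift.fac' F.toFunctor g ψ).symm
  subst hg'
  exact hae (𝒴.p.map (F.map ψ)) ((Restricted.pushforward_map_iff h𝒴 R (F.map ψ)).mpr hg) ψ
    ((F.isHomLift_iff _ ψ).mp inferInstance)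

omit h𝒳 in
theorem glueObj_over (hF : FibCat.IsFibGrpd F.toFunctor) (hG : GlueHom (R.functorPushforward 𝒴.p) 𝒴)
    (hO : GlueObj (R.functorPushforward 𝒴.p) 𝒳) :
    GlueObj R (BasedCategory.ofFunctor F.toFunctor) := by
  intro H
  choose z g hg using fun a : (Stk.sieveCat (R.functorPushforward 𝒴.p)).obj =>
    Descent.exists_lift h𝒴 (rfl : 𝒴.p.obj y = _) a.obj.hom
  let Lobj : (Stk.sieveCat (R.functorPushforward 𝒴.p)).obj → (Stk.sieveCat R).obj := fun a =>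
    haveI := hg a
    arr (g a) (mem_of_lift h𝒴 R a.obj.hom a.property (g a))
  have exL : ∀ {a b : (Stk.sieveCat (R.functorPushforward 𝒴.p)).obj} (m : a ⟶ b),
      ∃ ν : z a ⟶ z b, 𝒴.p.IsHomLift m.hom.left ν ∧ ν ≫ g b = g a := fun {a b} m => by
    have := cart h𝒴 (g b) (hg b)
    have := hg a
    exact (IsStronglyCartesian.universal_property 𝒴.p b.obj.hom (g b) m.hom.left a.obj.hom
      (Over.w m.hom).symm (g a)).exists
  choose ν hν hνe using @exL
  have huniq : ∀ {a b : (Stk.sieveCat (R.functorPushforward 𝒴.p)).obj} (m : a ⟶ b) (χ : z a ⟶ z b),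
      𝒴.p.IsHomLift m.hom.left χ → χ ≫ g b = g a → χ = ν m := fun {a b} m χ hχ e =>
    ext_lift h𝒴 (g b) (hg b) hχ (hν m) (e.trans (hνe m).symm)
  let L : (Stk.sieveCat (R.functorPushforward 𝒴.p)).obj ⥤ (Stk.sieveCat R).obj :=
    { obj := Lobj
      map := fun {a b} m => ObjectProperty.homMk (Over.homMk (ν m) (hνe m))
      map_id := fun a => ObjectProperty.hom_ext _ (Over.OverMorphism.ext
        (huniq (𝟙 a) (𝟙 (z a)) (haveI := hg a; IsHomLift.id (IsHomLift.domain_eq 𝒴.p a.obj.hom (g a)))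
          (Category.id_comp _)).symm)
      map_comp := fun {a b c} m n => ObjectProperty.hom_ext _ (Over.OverMorphism.ext
        (huniq (m ≫ n) (ν m ≫ ν n)
          (haveI := hν m; haveI := hν n;
            inferInstanceAs (𝒴.p.IsHomLift (m.hom.left ≫ n.hom.left) (ν m ≫ ν n)))
          (by rw [Category.assoc, hνe, hνe])).symm) }
  have hH : ∀ {a b : (Stk.sieveCat R).obj} (m : a ⟶ b),
      𝒳.p.map (H.map m) = eqToHom ((F.w_obj (H.obj a)).symm.trans (congrArg 𝒴.p.obj (H.w_obj a))) ≫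
        𝒴.p.map m.hom.left ≫ eqToHom ((congrArg 𝒴.p.obj (H.w_obj b)).symm.trans (F.w_obj (H.obj b))) := by
    intro a b m
    have : (Stk.sieveCat R).p.IsHomLift m.hom.left m := sieveCat_isHomLift m
    have : F.toFunctor.IsHomLift m.hom.left (H.map m) := BasedFunctor.preserves_isHomLift H m.hom.left m
    have e1 : F.map (H.map m) = eqToHom (H.w_obj a) ≫ m.hom.left ≫ eqToHom (H.w_obj b).symm :=
      IsHomLift.fac' F.toFunctor m.hom.left (H.map m)
    have e2 := Functor.congr_hom F.w.symm (H.map m)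
    rw [e2]
    change eqToHom _ ≫ 𝒴.p.map (F.map (H.map m)) ≫ eqToHom _ = _
    rw [e1, 𝒴.p.map_comp, 𝒴.p.map_comp, eqToHom_map, eqToHom_map]
    simp
  let H' : Stk.sieveCat (R.functorPushforward 𝒴.p) ⥤ᵇ 𝒳 :=
    { toFunctor := L ⋙ H.toFunctor
      w := CategoryTheory.Functor.ext
        (fun a => haveI := hg a
          ((F.w_obj _).symm.trans (congrArg 𝒴.p.obj (H.w_obj (L.obj a)))).trans
            (IsHomLift.domain_eq 𝒴.p a.obj.hom (g a)))
        (fun a b m => by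
          have := hν m
          change 𝒳.p.map (H.map (L.map m)) = eqToHom _ ≫ m.hom.left ≫ eqToHom _
          rw [hH, show (L.map m).hom.left = ν m from rfl, IsHomLift.fac' 𝒴.p m.hom.left (ν m)]
          simp) }
  obtain ⟨G⟩ := hO H'
  let gy : Glued (BasedFunctor.comp H' F) :=
    { pt := y
      proj := rfl
      ι := fun a => eqToHom (H.w_obj (L.obj a)) ≫ g a
      lifts := fun a => by
        have := hg a
        have : 𝒴.p.IsHomLift (𝟙 a.obj.left) (eqToHom (H.w_obj (L.obj a))) :=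
          IsHomLift.eqToHom_codomain_lift_id (H.w_obj (L.obj a)) (IsHomLift.domain_eq 𝒴.p a.obj.hom (g a))
        exact IsHomLift.comp_lift_id_left' 𝒴.p a.obj.left _ a.obj.hom (g a)
      w := fun a b m => by
        have : (Stk.sieveCat R).p.IsHomLift (L.map m).hom.left (L.map m) := sieveCat_isHomLift (L.map m)
        change F.map (H.map (L.map m)) ≫ eqToHom (H.w_obj (L.obj b)) ≫ g b = eqToHom (H.w_obj (L.obj a)) ≫ g a
        have : F.toFunctor.IsHomLift (L.map m).hom.left (H.map (L.map m)) :=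
          BasedFunctor.preserves_isHomLift H (L.map m).hom.left (L.map m)
        have e1 : F.map (H.map (L.map m)) =
            eqToHom (H.w_obj (L.obj a)) ≫ ν m ≫ eqToHom (H.w_obj (L.obj b)).symm :=
          IsHomLift.fac' F.toFunctor (L.map m).hom.left (H.map (L.map m))
        rw [e1]
        simp only [Category.assoc, eqToHom_trans_assoc, eqToHom_refl]
        erw [Category.id_comp, hνe] }
  obtain ⟨a₀, ha₀, ha₀e⟩ := exists_desc h𝒴 hG (mapGlued F G) gy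
  have : IsIso a₀ := isIso_of_vertical h𝒴 a₀ ha₀
  have ha₀i : IsIso (inv a₀ : y ⟶ F.obj G.pt) := inferInstance
  obtain ⟨ξ', ω, hω⟩ := Restricted.exists_lift hF (inv a₀ : y ⟶ F.obj G.pt)
  have : IsIso ω :=
    haveI := stronglyCartesian_of_grpd hF (inv a₀ : y ⟶ F.obj G.pt) ω
    IsStronglyCartesian.isIso_of_base_isIso F.toFunctor (inv a₀ : y ⟶ F.obj G.pt) ω
  have hωF : F.toFunctor.IsHomLift a₀ (inv ω) := by
    have h1 : F.toFunctor.IsHomLift (inv (inv a₀ : y ⟶ F.obj G.pt)) (inv ω) := inferInstance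
    simpa only [IsIso.inv_inv] using h1
  let Eobj : (Stk.sieveCat R).obj → (Stk.sieveCat (R.functorPushforward 𝒴.p)).obj := fun b =>
    arr (𝒴.p.map b.obj.hom) ((Restricted.pushforward_map_iff h𝒴 R b.obj.hom).mpr b.property)
  have exθ : ∀ b : (Stk.sieveCat R).obj, ∃ θ : b.obj.left ⟶ z (Eobj b),
      𝒴.p.IsHomLift (𝟙 (𝒴.p.obj b.obj.left)) θ ∧ θ ≫ g (Eobj b) = b.obj.hom := fun b =>
    exists_factor h𝒴 (g (Eobj b)) (hg (Eobj b)) b.obj.hom (IsHomLift.map 𝒴.p b.obj.hom)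
  choose θ hθ hθe using exθ
  let θ' : ∀ b, b ⟶ L.obj (Eobj b) := fun b => ObjectProperty.homMk (Over.homMk (θ b) (hθe b))
  refine ⟨⟨ξ', (IsHomLift.domain_eq F.toFunctor (inv a₀ : y ⟶ F.obj G.pt) ω), fun b =>
    H.map (θ' b) ≫ G.ι (Eobj b) ≫ inv ω, fun b => ?_, fun b b' m => ?_⟩⟩
  · change F.toFunctor.IsHomLift b.obj.hom (H.map (θ' b) ≫ G.ι (Eobj b) ≫ inv ω)
    have e := ha₀e (Eobj b)
    change F.map (G.ι (Eobj b)) ≫ a₀ = eqToHom (H.w_obj (L.obj (Eobj b))) ≫ g (Eobj b) at e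
    refine IsHomLift.of_fac' F.toFunctor _ _ (H.w_obj b) (IsHomLift.domain_eq F.toFunctor (inv a₀ : y ⟶ F.obj G.pt) ω) ?_
    have : (Stk.sieveCat R).p.IsHomLift (θ' b).hom.left (θ' b) := sieveCat_isHomLift (θ' b)
    have : F.toFunctor.IsHomLift (θ' b).hom.left (H.map (θ' b)) :=
      BasedFunctor.preserves_isHomLift H (θ' b).hom.left (θ' b)
    have e1 : F.map (H.map (θ' b)) = eqToHom (H.w_obj b) ≫ θ b ≫ eqToHom (H.w_obj (L.obj (Eobj b))).symm :=
      IsHomLift.fac' F.toFunctor (θ' b).hom.left (H.map (θ' b))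
    rw [F.toFunctor.map_comp, F.toFunctor.map_comp, IsHomLift.fac' F.toFunctor a₀ (inv ω), e1]
    simp only [Category.assoc, eqToHom_refl, Category.id_comp]
    rw [reassoc_of% e, eqToHom_trans_assoc]
    simp only [eqToHom_refl]
    erw [Category.id_comp]
    rw [reassoc_of% (hθe b)]
  · let m' : Eobj b ⟶ Eobj b' :=
      ObjectProperty.homMk (Over.homMk (𝒴.p.map m.hom.left) (by
        change 𝒴.p.map m.hom.left ≫ 𝒴.p.map b'.obj.hom = 𝒴.p.map b.obj.hom
        rw [← 𝒴.p.map_comp, Over.w m.hom]))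
    have hsq : m ≫ θ' b' = θ' b ≫ L.map m' := by
      refine ObjectProperty.hom_ext _ (Over.OverMorphism.ext ?_)
      change m.hom.left ≫ θ b' = θ b ≫ ν m'
      have := hθ b
      have := hθ b'
      have : 𝒴.p.IsHomLift (𝒴.p.map m.hom.left) (ν m') := hν m'
      have h1 : 𝒴.p.IsHomLift (𝒴.p.map m.hom.left) (m.hom.left ≫ θ b') :=
        IsHomLift.comp_lift_id_right' 𝒴.p (𝒴.p.map m.hom.left) m.hom.left (𝒴.p.obj b'.obj.left) (θ b')
      have h2 : 𝒴.p.IsHomLift (𝒴.p.map m.hom.left) (θ b ≫ ν m') :=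
        IsHomLift.comp_lift_id_left' 𝒴.p (𝒴.p.obj b.obj.left) (θ b) (𝒴.p.map m.hom.left) (ν m')
      refine ext_lift h𝒴 (g (Eobj b')) (hg (Eobj b')) h1 h2 ?_
      rw [Category.assoc, hθe, Category.assoc, hνe, hθe, Over.w m.hom]
    change H.map m ≫ H.map (θ' b') ≫ G.ι (Eobj b') ≫ inv ω = H.map (θ' b) ≫ G.ι (Eobj b) ≫ inv ω
    rw [← Category.assoc (H.map m), ← H.toFunctor.map_comp, hsq, H.toFunctor.map_comp, Category.assoc]
    exact congrArg (fun t => H.map (θ' b) ≫ t)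
      ((Category.assoc _ _ _).symm.trans (congrArg (fun t => t ≫ inv ω) (G.w m')))

end Slice

/-- A stack fibred in groupoids over a stack is a stack for the inherited topology. -/
theorem isStack_over (J : GrothendieckTopology C) (h𝒳 : Stk.IsStack J 𝒳) (h𝒴 : Stk.IsStack J 𝒴) (F : 𝒳 ⥤ᵇ 𝒴)
    (hF : FibCat.IsFibGrpd F.toFunctor) :
    Stk.IsStack (𝒴.p.restrictedTopology J) (BasedCategory.ofFunctor F.toFunctor) := by
  refine ⟨hF, fun y R hR => (isStackFor_iff (𝒳 := BasedCategory.ofFunctor F.toFunctor) hF).2 ?_⟩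
  have hR' := (Restricted.mem_restricted_iff h𝒴.1 J R).mp hR
  obtain ⟨hs, hh, ho⟩ := (isStackFor_iff h𝒳.1).mp (h𝒳.2 _ hR')
  obtain ⟨hs', hh', -⟩ := (isStackFor_iff h𝒴.1).mp (h𝒴.2 _ hR')
  exact ⟨sep_over h𝒴.1 F R hs, glueHom_over h𝒳.1 h𝒴.1 F R hs' hh, glueObj_over h𝒴.1 F R hF hh' ho⟩

end Groth.Agent.Lib.Fibred.StackOver
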