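import Groth.Agent.Lib.Fibred.StackLocal
import Groth.Agent.Lib.Fibred.Graph
import Mathlib.CategoryTheory.Sites.CoverPreserving
import Mathlib.CategoryTheory.Limits.Shapes.Pullback.IsPullback.Basic

/-!
# Base change of a stack along a pullback-preserving cover-preserving functor
-/

set_option autoImplicit false
set_option backward.isDefEq.respectTransparency false
set_option backward.isDefEq.respectTransparency.types false

universe v₃ u₃ v₂ u₂ v u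

open CategoryTheory CategoryTheory.Functor CategoryTheory.Limits Groth.Agent.Lib.Fibred.Basic
  Groth.Agent.Lib.Fibred.Descent Groth.Agent.Lib.Fibred.StackLemmas Groth.Agent.Lib.Fibred.StackLocal

namespace Groth.Agent.Lib.Fibred.StackPullback

variable {C : Type u} [Category.{v} C] {D : Type u₂} [Category.{v₂} D] {u : C ⥤ D}
  {𝒮 : BasedCategory.{v₃, u₃} D}

/-- The base change. -/
abbrev pb (u : C ⥤ D) (𝒮 : BasedCategory.{v₃, u₃} D) : BasedCategory C :=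
  BasedCategory.ofFunctor (CategoricalPullback.π₁ u 𝒮.p)

theorem p_snd {z ξ : CategoricalPullback u 𝒮.p} (ψ : z ⟶ ξ) :
    𝒮.p.map ψ.snd = z.iso.inv ≫ u.map ψ.fst ≫ ξ.iso.hom := by
  rw [ψ.w]; simp

theorem fst_of_isHomLift {z ξ : CategoricalPullback u 𝒮.p} (ψ : z ⟶ ξ) {V W : C} (g : V ⟶ W)
    [(CategoricalPullback.π₁ u 𝒮.p).IsHomLift g ψ] :
    ∃ (h₁ : z.fst = V) (h₂ : ξ.fst = W), ψ.fst = eqToHom h₁ ≫ g ≫ eqToHom h₂.symm :=
  ⟨IsHomLift.domain_eq (CategoricalPullback.π₁ u 𝒮.p) g ψ, IsHomLift.codomain_eq (CategoricalPullback.π₁ u 𝒮.p) g ψ,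
    IsHomLift.fac' (CategoricalPullback.π₁ u 𝒮.p) g ψ⟩

variable (h𝒮 : FibCat.IsFibGrpd 𝒮.p)
include h𝒮

theorem grpd : FibCat.IsFibGrpd (pb u 𝒮).p := by
  have := isFibered_of_grpd h𝒮
  have : (pb u 𝒮).p.IsFibered := Graph.π₁_isFibered u
  refine grpd_of_isFibered fun U => ⟨fun {z w} φ => ?_⟩
  have hφ : (CategoricalPullback.π₁ u 𝒮.p).IsHomLift (𝟙 U) (Fiber.fiberInclusion.map φ) :=
    (inferInstance : (pb u 𝒮).p.IsHomLift (𝟙 U) (Fiber.fiberInclusion.map φ))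
  obtain ⟨h₁, h₂, e⟩ := fst_of_isHomLift (Fiber.fiberInclusion.map φ) (𝟙 U)
  have : IsIso (Fiber.fiberInclusion.map φ).fst := by rw [e]; infer_instance
  have : IsIso (𝒮.p.map (Fiber.fiberInclusion.map φ).snd) := by rw [p_snd]; infer_instance
  have := isIso_of_grpd h𝒮 (Fiber.fiberInclusion.map φ).snd
  have : IsIso (Fiber.fiberInclusion.map φ) :=
    (CategoricalPullback.mkIso (asIso (Fiber.fiberInclusion.map φ).fst) (asIso (Fiber.fiberInclusion.map φ).snd)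
      (Fiber.fiberInclusion.map φ).w).isIso_hom
  exact isIso_fiber φ

theorem exists_factor_snd {z ξ : CategoricalPullback u 𝒮.p} (ψ : z ⟶ ξ) {W : D} (f : W ⟶ 𝒮.p.obj ξ.snd)
    (h : W ⟶ u.obj z.fst) (e : f ≫ ξ.iso.inv = h ≫ u.map ψ.fst) {s : 𝒮.obj} (χ : s ⟶ ξ.snd)
    (hχ : 𝒮.p.IsHomLift f χ) :
    ∃ k : s ⟶ z.snd, 𝒮.p.IsHomLift (h ≫ z.iso.hom) k ∧ k ≫ ψ.snd = χ := by
  have := cart h𝒮 ψ.snd (IsHomLift.map 𝒮.p ψ.snd)
  have e' : f = (h ≫ z.iso.hom) ≫ 𝒮.p.map ψ.snd := by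
    rw [p_snd, Category.assoc, Iso.hom_inv_id_assoc, ← reassoc_of% e]
    simp
  exact (IsStronglyCartesian.universal_property 𝒮.p (𝒮.p.map ψ.snd) ψ.snd (h ≫ z.iso.hom) f e' χ).exists

theorem sep_pb {U : C} {R : Sieve U}
    (hS : ∀ (X : D) (e : X ⟶ u.obj U), IsIso e → Sep ((R.functorPushforward u).pullback e) 𝒮) :
    Sep R (pb u 𝒮) := by
  intro ξ η a b ha hb hab
  have ha0 : (CategoricalPullback.π₁ u 𝒮.p).IsHomLift (𝟙 U) a := ha
  have hb0 : (CategoricalPullback.π₁ u 𝒮.p).IsHomLift (𝟙 U) b := hb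
  obtain ⟨hξ, hη, ea⟩ := fst_of_isHomLift a (𝟙 U)
  obtain ⟨hξ', hη', eb⟩ := fst_of_isHomLift b (𝟙 U)
  subst hξ
  have efst : a.fst = b.fst := ea.trans eb.symm
  obtain ⟨t, ω, hω⟩ := Descent.exists_lift h𝒮 (rfl : 𝒮.p.obj η.snd = _) (𝒮.p.map a.snd)
  obtain ⟨α, hα, hαe⟩ := exists_factor h𝒮 ω hω a.snd (IsHomLift.map 𝒮.p a.snd)
  obtain ⟨β, hβ, hβe⟩ := exists_factor h𝒮 ω hω b.snd
    (by rw [p_snd a, efst, ← p_snd b]; exact IsHomLift.map 𝒮.p b.snd)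
  refine CategoricalPullback.hom_ext efst ?_
  suffices e : α = β by rw [← hαe, ← hβe, e]
  refine hS _ ξ.iso.inv inferInstance α β hα hβ fun W f hf s χ hχ => ?_
  obtain ⟨V, g, h, hg, e⟩ := hf
  obtain ⟨z, ψ, hψ⟩ := Descent.exists_lift (grpd (u := u) h𝒮) (rfl : (pb u 𝒮).p.obj ξ = _) g
  obtain ⟨h₁, h₁', eg⟩ := haveI : (CategoricalPullback.π₁ u 𝒮.p).IsHomLift g ψ := hψ; fst_of_isHomLift ψ g
  subst h₁
  have hg' : ψ.fst = g := by simpa using eg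
  obtain ⟨k, hk, rfl⟩ := exists_factor_snd h𝒮 ψ f h (by rw [hg']; exact e) χ hχ
  have hc := hab g hg ψ hψ
  have hc' : ψ.snd ≫ a.snd = ψ.snd ≫ b.snd := congrArg (fun t => t.snd) hc
  refine ext_lift h𝒮 ω hω (g := f) inferInstance inferInstance ?_
  simp only [Category.assoc, hαe, hβe, hc']

variable [HasPullbacks C] [PreservesLimitsOfShape WalkingCospan u]

omit h𝒮 in
theorem exists_span {U V₁ V₂ : C} (g₁ : V₁ ⟶ U) (g₂ : V₂ ⟶ U) {W : D} (h₁ : W ⟶ u.obj V₁) (h₂ : W ⟶ u.obj V₂)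
    (e : h₁ ≫ u.map g₁ = h₂ ≫ u.map g₂) :
    ∃ (V₃ : C) (q₁ : V₃ ⟶ V₁) (q₂ : V₃ ⟶ V₂) (h₃ : W ⟶ u.obj V₃),
      q₁ ≫ g₁ = q₂ ≫ g₂ ∧ h₃ ≫ u.map q₁ = h₁ ∧ h₃ ≫ u.map q₂ = h₂ :=
  have hp := (IsPullback.of_hasPullback g₁ g₂).map u
  ⟨pullback g₁ g₂, pullback.fst g₁ g₂, pullback.snd g₁ g₂, hp.lift h₁ h₂ e, pullback.condition,
    hp.lift_fst h₁ h₂ e, hp.lift_snd h₁ h₂ e⟩

theorem glueHom_pb {U : C} {R : Sieve U}
    (hS : ∀ (X : D) (e : X ⟶ u.obj U), IsIso e → GlueHom ((R.functorPushforward u).pullback e) 𝒮) :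
    GlueHom R (pb u 𝒮) := by
  intro ξ η hξ hη c hc
  change ξ.fst = U at hξ
  change η.fst = U at hη
  subst hξ
  let φ : 𝒮.p.obj ξ.snd ⟶ 𝒮.p.obj η.snd := ξ.iso.inv ≫ u.map (eqToHom hη.symm) ≫ η.iso.hom
  obtain ⟨t, ω, hω⟩ := Descent.exists_lift h𝒮 (rfl : 𝒮.p.obj η.snd = _) φ
  have cfst : ∀ {z : CategoricalPullback u 𝒮.p} (ψ : z ⟶ ξ) (hg : R ψ.fst),
      ∀ (hψ : (pb u 𝒮).p.IsHomLift ψ.fst ψ),
      𝒮.p.map (c ψ.fst hg ψ hψ).snd = 𝒮.p.map ψ.snd ≫ φ := by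
    intro z ψ hg hψ
    have : (CategoricalPullback.π₁ u 𝒮.p).IsHomLift ψ.fst (c ψ.fst hg ψ hψ) := hc.lifts _ _ _ _
    obtain ⟨h₁, h₂, e⟩ := fst_of_isHomLift (c ψ.fst hg ψ hψ) ψ.fst
    rw [p_snd, p_snd, e]
    simp [φ]
  let R'' := (R.functorPushforward u).pullback ξ.iso.inv
  have key : ∀ {W : D} (f : W ⟶ 𝒮.p.obj ξ.snd), R'' f → ∀ {s : 𝒮.obj} (χ : s ⟶ ξ.snd), 𝒮.p.IsHomLift f χ →
      ∃ v : s ⟶ η.snd, 𝒮.p.IsHomLift (f ≫ φ) v ∧
        ∀ {z : CategoricalPullback u 𝒮.p} (ψ : z ⟶ ξ) (hg : R ψ.fst) (hψ : (pb u 𝒮).p.IsHomLift ψ.fst ψ)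
          (h : W ⟶ u.obj z.fst) (k : s ⟶ z.snd), f ≫ ξ.iso.inv = h ≫ u.map ψ.fst →
          𝒮.p.IsHomLift (h ≫ z.iso.hom) k → k ≫ ψ.snd = χ → v = k ≫ (c ψ.fst hg ψ hψ).snd := by
    intro W f hf s χ hχ
    obtain ⟨V, g, h, hg, e⟩ := hf
    obtain ⟨z, ψ, hψ⟩ := Descent.exists_lift (grpd (u := u) h𝒮) (rfl : (pb u 𝒮).p.obj ξ = _) g
    obtain ⟨h₁, h₁', eg⟩ := haveI : (CategoricalPullback.π₁ u 𝒮.p).IsHomLift g ψ := hψ; fst_of_isHomLift ψ g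
    subst h₁
    have hg' : g = ψ.fst := by simpa using eg.symm
    subst hg'
    obtain ⟨k, hk, hke⟩ := exists_factor_snd h𝒮 ψ f h e χ hχ
    have hfe : f ≫ φ = (h ≫ z.iso.hom) ≫ 𝒮.p.map ψ.snd ≫ φ := by
      have : f = (h ≫ z.iso.hom) ≫ 𝒮.p.map ψ.snd := by
        rw [p_snd, Category.assoc, Iso.hom_inv_id_assoc, ← reassoc_of% e]
        simp
      rw [this, Category.assoc]
    refine ⟨k ≫ (c ψ.fst hg ψ hψ).snd, ?_, fun {z'} ψ' hg' hψ' h' k' e' hk' hke' => ?_⟩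
    · rw [hfe, ← cfst ψ hg hψ]
      infer_instance
    obtain ⟨V₃, q₁, q₂, h₃, hq, hh₁, hh₂⟩ := exists_span ψ.fst ψ'.fst h h' (e.symm.trans e')
    obtain ⟨z₃, ψ₃, hψ₃⟩ := Descent.exists_lift (grpd (u := u) h𝒮) (rfl : (pb u 𝒮).p.obj ξ = _) (q₁ ≫ ψ.fst)
    obtain ⟨h₄, h₄', eg₃⟩ :=
      haveI : (CategoricalPullback.π₁ u 𝒮.p).IsHomLift (q₁ ≫ ψ.fst) ψ₃ := hψ₃; fst_of_isHomLift ψ₃ (q₁ ≫ ψ.fst)
    subst h₄
    have hψ₃e : ψ₃.fst = q₁ ≫ ψ.fst := by simpa using eg₃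
    obtain ⟨k₃, hk₃, hk₃e⟩ := exists_factor_snd h𝒮 ψ₃ f h₃
      (by rw [hψ₃e, u.map_comp, reassoc_of% hh₁]; exact e) χ hχ
    have step : ∀ {z₀ : CategoricalPullback u 𝒮.p} (ψ₀ : z₀ ⟶ ξ) (hg₀ : R ψ₀.fst)
        (hψ₀ : (pb u 𝒮).p.IsHomLift ψ₀.fst ψ₀) (h₀ : W ⟶ u.obj z₀.fst) (k₀ : s ⟶ z₀.snd)
        (q : z₃.fst ⟶ z₀.fst), q₁ ≫ ψ.fst = q ≫ ψ₀.fst → h₃ ≫ u.map q = h₀ →
        𝒮.p.IsHomLift (h₀ ≫ z₀.iso.hom) k₀ → k₀ ≫ ψ₀.snd = χ →
        k₀ ≫ (c ψ₀.fst hg₀ ψ₀ hψ₀).snd =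
          k₃ ≫ (c (q₁ ≫ ψ.fst) (R.downward_closed hg q₁) ψ₃ hψ₃).snd := by
      intro z₀ ψ₀ hg₀ hψ₀ h₀ k₀ q hq₀ hh₀ hk₀ hk₀e
      have := cart (grpd (u := u) h𝒮) ψ₀ hψ₀
      have hψ₃' : (pb u 𝒮).p.IsHomLift (q ≫ ψ₀.fst) ψ₃ := hq₀ ▸ hψ₃
      obtain ⟨ρ, hρ, hρe⟩ := (IsStronglyCartesian.universal_property (pb u 𝒮).p ψ₀.fst ψ₀ q (q ≫ ψ₀.fst) rfl
        ψ₃).exists
      have hρf : ρ.fst = q := by
        have : (CategoricalPullback.π₁ u 𝒮.p).IsHomLift q ρ := hρ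
        obtain ⟨a₁, a₂, e₀⟩ := fst_of_isHomLift ρ q
        simpa using e₀
      have h1 : k₀ = k₃ ≫ ρ.snd := by
        have h2 : 𝒮.p.IsHomLift (h₀ ≫ z₀.iso.hom) (k₃ ≫ ρ.snd) := by
          have e2 : h₀ ≫ z₀.iso.hom = (h₃ ≫ z₃.iso.hom) ≫ 𝒮.p.map ρ.snd := by
            rw [p_snd, hρf, Category.assoc, Iso.hom_inv_id_assoc, reassoc_of% hh₀]
          rw [e2]; infer_instance
        refine ext_lift h𝒮 ψ₀.snd (IsHomLift.map 𝒮.p ψ₀.snd) hk₀ h2 ?_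
        rw [hk₀e, Category.assoc]
        exact hk₃e.symm.trans (congrArg (fun t => k₃ ≫ t.snd) hρe.symm)
      have h3 := hc.comp ψ₀.fst hg₀ ψ₀ hψ₀ q ρ hρ (hρe ▸ hψ₃')
      have h4 : c (q₁ ≫ ψ.fst) (R.downward_closed hg q₁) ψ₃ hψ₃ = ρ ≫ c ψ₀.fst hg₀ ψ₀ hψ₀ :=
        (Fam.Compatible.congr hq₀ _ _ hρe.symm _ _).trans h3
      rw [h1, h4, Category.assoc]
      rfl
    exact (step ψ hg hψ h k q₁ rfl hh₁ hk hke).trans (step ψ' hg' hψ' h' k' q₂ hq hh₂ hk' hke').symm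
  choose v hv hve using @key
  choose θ hθ hθe using fun {W : D} (f : W ⟶ 𝒮.p.obj ξ.snd) (hf : R'' f) {s : 𝒮.obj} (χ : s ⟶ ξ.snd)
      (hχ : 𝒮.p.IsHomLift f χ) =>
    (show ∃ θ : s ⟶ t, 𝒮.p.IsHomLift f θ ∧ θ ≫ ω = v f hf χ hχ by
      have := cart h𝒮 ω hω
      have := hv f hf χ hχ
      exact (IsStronglyCartesian.universal_property 𝒮.p φ ω f (f ≫ φ) rfl (v f hf χ hχ)).exists)
  let d : Fam R'' 𝒮 ξ.snd t := fun W f hf s χ hχ => θ f hf χ hχ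
  have hd : d.Compatible := by
    refine ⟨fun W f hf s χ hχ => hθ f hf χ hχ, fun W f hf s χ hχ W' r s' ρ hρ hρχ => ?_⟩
    change θ (r ≫ f) _ _ hρχ = ρ ≫ θ f hf χ hχ
    have := hθ f hf χ hχ
    refine ext_lift h𝒮 ω hω (hθ (r ≫ f) _ _ hρχ) inferInstance ?_
    rw [Category.assoc, hθe, hθe]
    obtain ⟨V, g, h, hg, e⟩ := id hf
    obtain ⟨z, ψ, hψ⟩ := Descent.exists_lift (grpd (u := u) h𝒮) (rfl : (pb u 𝒮).p.obj ξ = _) g
    obtain ⟨h₁, h₁', eg⟩ := haveI : (CategoricalPullback.π₁ u 𝒮.p).IsHomLift g ψ := hψ; fst_of_isHomLift ψ g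
    subst h₁
    have hg' : g = ψ.fst := by simpa using eg.symm
    subst hg'
    obtain ⟨k, hk, hke⟩ := exists_factor_snd h𝒮 ψ f h e χ hχ
    rw [hve f hf χ hχ ψ hg hψ h k e hk hke,
      hve (r ≫ f) _ (ρ ≫ χ) hρχ ψ hg hψ (r ≫ h) (ρ ≫ k) (by rw [Category.assoc, e, Category.assoc])
        (by have := hρ; rw [Category.assoc]; infer_instance) (by rw [Category.assoc, hke]), Category.assoc]
  have ht : 𝒮.p.obj t = 𝒮.p.obj ξ.snd := haveI := hω; IsHomLift.domain_eq 𝒮.p φ ω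
  obtain ⟨a₁, ha₁, ha₁e⟩ := hS _ ξ.iso.inv inferInstance rfl ht d hd
  have hp : 𝒮.p.map (a₁ ≫ ω) = φ := by
    have : 𝒮.p.IsHomLift φ (a₁ ≫ ω) := IsHomLift.comp_lift_id_left' 𝒮.p (𝒮.p.obj ξ.snd) a₁ φ ω
    exact (IsHomLift.eq_of_isHomLift 𝒮.p φ (a₁ ≫ ω)).symm
  let a : ξ ⟶ η := { fst := eqToHom hη.symm, snd := a₁ ≫ ω, w := by rw [hp]; simp [φ] }
  refine ⟨a, IsHomLift.of_fac' (CategoricalPullback.π₁ u 𝒮.p) _ a rfl hη (by simp [a]), fun V g hg z ψ hψ => ?_⟩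
  obtain ⟨h₁, h₁', eg⟩ := haveI : (CategoricalPullback.π₁ u 𝒮.p).IsHomLift g ψ := hψ; fst_of_isHomLift ψ g
  subst h₁
  have hg' : g = ψ.fst := by simpa using eg.symm
  subst hg'
  refine CategoricalPullback.hom_ext ?_ ?_
  · have : (CategoricalPullback.π₁ u 𝒮.p).IsHomLift ψ.fst (c ψ.fst hg ψ hψ) := hc.lifts _ _ _ _
    obtain ⟨a₁', a₂', e⟩ := fst_of_isHomLift (c ψ.fst hg ψ hψ) ψ.fst
    rw [e]
    change ψ.fst ≫ eqToHom hη.symm = _
    simp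
  · have hf : R'' (𝒮.p.map ψ.snd) := ⟨z.fst, ψ.fst, z.iso.inv, hg, by rw [p_snd]; simp⟩
    change ψ.snd ≫ a₁ ≫ ω = _
    rw [← Category.assoc, ha₁e (𝒮.p.map ψ.snd) hf ψ.snd (IsHomLift.map 𝒮.p ψ.snd)]
    refine (hθe _ _ _ _).trans ?_
    rw [hve _ hf ψ.snd _ ψ hg hψ z.iso.inv (𝟙 z.snd) (by rw [p_snd]; simp)
      (by rw [Iso.inv_hom_id]; exact IsHomLift.id rfl) (Category.id_comp _), Category.id_comp]

/-- A datum over an object of the target site: an arrow of the sieve and a map to its image. -/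
structure Dat {U : C} (R : Sieve U) (u : C ⥤ D) (W : D) where
  /-- the arrow of the sieve -/
  a : (Stk.sieveCat R).obj
  /-- the map to the image -/
  h : W ⟶ u.obj a.obj.left

theorem glueObj_pb {U : C} {R : Sieve U} (hO : GlueObj (R.functorPushforward u) 𝒮) : GlueObj R (pb u 𝒮) := by
  intro H
  let j : ∀ a : (Stk.sieveCat R).obj, u.obj a.obj.left ⟶ 𝒮.p.obj (H.obj a).snd := fun a =>
    u.map (eqToHom (H.w_obj a).symm) ≫ (H.obj a).iso.hom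
  have hj : ∀ {a a' : (Stk.sieveCat R).obj} (m : a ⟶ a'),
      u.map m.hom.left ≫ j a' = j a ≫ 𝒮.p.map (H.map m).snd := fun {a a'} m => by
    have : (Stk.sieveCat R).p.IsHomLift m.hom.left m := sieveCat_isHomLift m
    have h1 : (CategoricalPullback.π₁ u 𝒮.p).IsHomLift m.hom.left (H.map m) :=
      BasedFunctor.preserves_isHomLift H m.hom.left m
    have e : (H.map m).fst = eqToHom (H.w_obj a) ≫ m.hom.left ≫ eqToHom (H.w_obj a').symm :=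
      IsHomLift.fac' (CategoricalPullback.π₁ u 𝒮.p) m.hom.left (H.map m)
    rw [p_snd, e]
    simp [j, eqToHom_map]
  choose T l hl using fun {W : D} (d : Dat R u W) =>
    Descent.exists_lift h𝒮 (rfl : 𝒮.p.obj (H.obj d.a).snd = _) (d.h ≫ j d.a)
  have exT : ∀ {W W' : D} (k : W ⟶ W') (d : Dat R u W) (d' : Dat R u W') (m : d.a ⟶ d'.a),
      d.h ≫ u.map m.hom.left = k ≫ d'.h →
      ∃! χ : T d ⟶ T d', 𝒮.p.IsHomLift k χ ∧ χ ≫ l d' = l d ≫ (H.map m).snd := by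
    intro W W' k d d' m e
    have := cart h𝒮 (l d') (hl d')
    have := hl d
    refine IsStronglyCartesian.universal_property 𝒮.p (d'.h ≫ j d'.a) (l d') k
      ((d.h ≫ j d.a) ≫ 𝒮.p.map (H.map m).snd) ?_ (l d ≫ (H.map m).snd)
    rw [Category.assoc, ← hj m, reassoc_of% e]
  have Tcomp : ∀ {W W' W'' : D} (k : W ⟶ W') (k' : W' ⟶ W'') (d : Dat R u W) (d' : Dat R u W')
      (d'' : Dat R u W'') (m : d.a ⟶ d'.a) (m' : d'.a ⟶ d''.a) (e : d.h ≫ u.map m.hom.left = k ≫ d'.h)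
      (e' : d'.h ≫ u.map m'.hom.left = k' ≫ d''.h)
      (e'' : d.h ≫ u.map (m ≫ m').hom.left = (k ≫ k') ≫ d''.h),
      (exT k d d' m e).choose ≫ (exT k' d' d'' m' e').choose = (exT (k ≫ k') d d'' (m ≫ m') e'').choose := by
    intro W W' W'' k k' d d' d'' m m' e e' e''
    obtain ⟨h1, h1e⟩ := (exT k d d' m e).choose_spec.1
    obtain ⟨h2, h2e⟩ := (exT k' d' d'' m' e').choose_spec.1
    refine (exT (k ≫ k') d d'' (m ≫ m') e'').choose_spec.2 _ ⟨inferInstance, ?_⟩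
    rw [Category.assoc, h2e, ← Category.assoc, h1e, Category.assoc, H.toFunctor.map_comp]
    rfl
  have Tid : ∀ {W : D} (d : Dat R u W) (e : d.h ≫ u.map (𝟙 d.a : d.a ⟶ d.a).hom.left = 𝟙 W ≫ d.h),
      (exT (𝟙 W) d d (𝟙 d.a) e).choose = 𝟙 _ := by
    intro W d e
    refine ((exT (𝟙 W) d d (𝟙 d.a) e).choose_spec.2 _ ⟨?_, ?_⟩).symm
    · have := hl d; exact IsHomLift.id (IsHomLift.domain_eq 𝒮.p (d.h ≫ j d.a) (l d))
    · rw [H.toFunctor.map_id]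
      exact (Category.id_comp _).trans (Category.comp_id _).symm
  have Tcongr : ∀ {W W' : D} {k k' : W ⟶ W'} (d : Dat R u W) (d' : Dat R u W') {m m' : d.a ⟶ d'.a}
      (_ : k = k') (_ : m = m') (e : d.h ≫ u.map m.hom.left = k ≫ d'.h)
      (e' : d.h ≫ u.map m'.hom.left = k' ≫ d'.h), (exT k d d' m e).choose = (exT k' d d' m' e').choose := by
    intro W W' k k' d d' m m' hk hm e e'
    subst hk hm
    rfl
  let fd : ∀ {W : D}, Dat R u W → (W ⟶ u.obj U) := fun d => d.h ≫ u.map d.a.obj.hom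
  have exCan : ∀ {W W' : D} (k : W ⟶ W') (d : Dat R u W) (d' : Dat R u W'), k ≫ fd d' = fd d →
      ∃! χ : T d ⟶ T d', 𝒮.p.IsHomLift k χ ∧
        ∀ {W₀ : D} (k₀ : W₀ ⟶ W) (d₀ : Dat R u W₀) (m₁ : d₀.a ⟶ d.a) (m₂ : d₀.a ⟶ d'.a)
          (e₁ : d₀.h ≫ u.map m₁.hom.left = k₀ ≫ d.h) (e₂ : d₀.h ≫ u.map m₂.hom.left = (k₀ ≫ k) ≫ d'.h),
          (exT k₀ d₀ d m₁ e₁).choose ≫ χ = (exT (k₀ ≫ k) d₀ d' m₂ e₂).choose := by
    intro W W' k d d' e
    have hp := (IsPullback.of_hasPullback d.a.obj.hom d'.a.obj.hom).map u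
    have e' : d.h ≫ u.map d.a.obj.hom = (k ≫ d'.h) ≫ u.map d'.a.obj.hom := by
      rw [Category.assoc]; exact e.symm
    let a₃ : (Stk.sieveCat R).obj :=
      arr (pullback.fst d.a.obj.hom d'.a.obj.hom ≫ d.a.obj.hom) (R.downward_closed d.a.property _)
    let d₃ : Dat R u W := ⟨a₃, hp.lift d.h (k ≫ d'.h) e'⟩
    let n₁ : a₃ ⟶ d.a := ObjectProperty.homMk (Over.homMk (pullback.fst d.a.obj.hom d'.a.obj.hom) rfl)
    let n₂ : a₃ ⟶ d'.a :=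
      ObjectProperty.homMk (Over.homMk (pullback.snd d.a.obj.hom d'.a.obj.hom) pullback.condition.symm)
    have en₁ : d₃.h ≫ u.map n₁.hom.left = 𝟙 W ≫ d.h := (hp.lift_fst _ _ e').trans (Category.id_comp _).symm
    have en₂ : d₃.h ≫ u.map n₂.hom.left = k ≫ d'.h := hp.lift_snd _ _ e'
    let A := (exT (𝟙 W) d₃ d n₁ en₁).choose
    have hA : 𝒮.p.IsHomLift (𝟙 W) A := (exT (𝟙 W) d₃ d n₁ en₁).choose_spec.1.1
    have : IsIso A := isIso_of_vertical h𝒮 A hA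
    let B := (exT k d₃ d' n₂ en₂).choose
    have hB : 𝒮.p.IsHomLift k B := (exT k d₃ d' n₂ en₂).choose_spec.1.1
    refine ⟨inv A ≫ B, ⟨IsHomLift.comp_lift_id_left' 𝒮.p W (inv A) k B, fun {W₀} k₀ d₀ m₁ m₂ e₁ e₂ => ?_⟩,
      fun χ hχ => ?_⟩
    · let n₀ : d₀.a ⟶ a₃ := ObjectProperty.homMk (Over.homMk (pullback.lift m₁.hom.left m₂.hom.left
        ((Over.w m₁.hom).trans (Over.w m₂.hom).symm)) (by
          change pullback.lift _ _ _ ≫ pullback.fst _ _ ≫ d.a.obj.hom = _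
          rw [pullback.lift_fst_assoc]
          exact Over.w m₁.hom))
      have en₀ : d₀.h ≫ u.map n₀.hom.left = k₀ ≫ d₃.h := by
        refine hp.hom_ext ?_ ?_
        · rw [Category.assoc, ← u.map_comp, Category.assoc, hp.lift_fst]
          change d₀.h ≫ u.map (pullback.lift _ _ _ ≫ pullback.fst _ _) = _
          rw [pullback.lift_fst]; exact e₁
        · rw [Category.assoc, ← u.map_comp, Category.assoc, hp.lift_snd]
          change d₀.h ≫ u.map (pullback.lift _ _ _ ≫ pullback.snd _ _) = _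
          rw [pullback.lift_snd, ← Category.assoc]; exact e₂
      have hn₁ : n₀ ≫ n₁ = m₁ :=
        ObjectProperty.hom_ext _ (Over.OverMorphism.ext (pullback.lift_fst _ _ _))
      have hn₂ : n₀ ≫ n₂ = m₂ :=
        ObjectProperty.hom_ext _ (Over.OverMorphism.ext (pullback.lift_snd _ _ _))
      have E₁ : (exT k₀ d₀ d₃ n₀ en₀).choose ≫ A = (exT k₀ d₀ d m₁ e₁).choose :=
        (Tcomp k₀ (𝟙 W) d₀ d₃ d n₀ n₁ en₀ en₁ (by rw [hn₁, Category.comp_id]; exact e₁)).trans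
          (Tcongr d₀ d (Category.comp_id k₀) hn₁ (by rw [hn₁, Category.comp_id]; exact e₁) e₁)
      have E₂ : (exT k₀ d₀ d₃ n₀ en₀).choose ≫ B = (exT (k₀ ≫ k) d₀ d' m₂ e₂).choose :=
        (Tcomp k₀ k d₀ d₃ d' n₀ n₂ en₀ en₂ (by rw [hn₂]; exact e₂)).trans
          (Tcongr d₀ d' rfl hn₂ (by rw [hn₂]; exact e₂) e₂)
      rw [← E₁, ← E₂, Category.assoc, IsIso.hom_inv_id_assoc]
    · have h1 := hχ.2 (𝟙 W) d₃ n₁ n₂ en₁ (by rw [Category.id_comp]; exact en₂)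
      rw [← cancel_epi A, IsIso.hom_inv_id_assoc]
      exact h1.trans (Tcongr d₃ d' (Category.id_comp k) rfl (by rw [Category.id_comp]; exact en₂) en₂)
  have canSpan : ∀ {W W' : D} (k : W ⟶ W') (d : Dat R u W) (d' : Dat R u W') (e : k ≫ fd d' = fd d)
      (m : d.a ⟶ d'.a) (e' : d.h ≫ u.map m.hom.left = k ≫ d'.h),
      (exCan k d d' e).choose = (exT k d d' m e').choose := by
    intro W W' k d d' e m e'
    have e₁ : d.h ≫ u.map (𝟙 d.a : d.a ⟶ d.a).hom.left = 𝟙 W ≫ d.h := by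
      rw [Category.id_comp]; exact (congrArg (fun t => d.h ≫ t) (u.map_id _)).trans (Category.comp_id _)
    have h1 := (exCan k d d' e).choose_spec.1.2 (𝟙 W) d (𝟙 d.a) m e₁ (by rw [Category.id_comp]; exact e')
    rw [Tid d e₁, Category.id_comp] at h1
    exact h1.trans (Tcongr d d' (Category.id_comp k) rfl (by rw [Category.id_comp]; exact e') e')
  have canComp : ∀ {W W' W'' : D} (k : W ⟶ W') (k' : W' ⟶ W'') (d : Dat R u W) (d' : Dat R u W')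
      (d'' : Dat R u W'') (e : k ≫ fd d' = fd d) (e' : k' ≫ fd d'' = fd d') (e'' : (k ≫ k') ≫ fd d'' = fd d),
      (exCan k d d' e).choose ≫ (exCan k' d' d'' e').choose = (exCan (k ≫ k') d d'' e'').choose := by
    intro W W' W'' k k' d d' d'' e e' e''
    obtain ⟨V₁, p₁, p₂, g₁, hp₁, hg₁, hg₂⟩ := exists_span d.a.obj.hom d'.a.obj.hom d.h (k ≫ d'.h)
      (by rw [Category.assoc]; exact e.symm)
    obtain ⟨V₂, r₁, r₂, g₂, hr₁, hg₃, hg₄⟩ := exists_span (p₂ ≫ d'.a.obj.hom) d''.a.obj.hom g₁ ((k ≫ k') ≫ d''.h)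
      (by
        rw [u.map_comp, reassoc_of% hg₂, Category.assoc, Category.assoc]
        exact congrArg (fun t => k ≫ t) e'.symm)
    let a₀ : (Stk.sieveCat R).obj :=
      arr (r₁ ≫ p₁ ≫ d.a.obj.hom) (R.downward_closed (R.downward_closed d.a.property p₁) r₁)
    let d₀ : Dat R u W := ⟨a₀, g₂⟩
    let m₁ : a₀ ⟶ d.a := ObjectProperty.homMk (Over.homMk (r₁ ≫ p₁) (Category.assoc _ _ _))
    let m₂ : a₀ ⟶ d'.a := ObjectProperty.homMk (Over.homMk (r₁ ≫ p₂) (by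
      change (r₁ ≫ p₂) ≫ d'.a.obj.hom = r₁ ≫ p₁ ≫ d.a.obj.hom
      rw [Category.assoc, hp₁]))
    let m₃ : a₀ ⟶ d''.a := ObjectProperty.homMk (Over.homMk r₂ (by
      change r₂ ≫ d''.a.obj.hom = r₁ ≫ p₁ ≫ d.a.obj.hom
      rw [← hr₁, hp₁]))
    have f₁ : d₀.h ≫ u.map m₁.hom.left = 𝟙 W ≫ d.h := by
      change g₂ ≫ u.map (r₁ ≫ p₁) = _
      rw [u.map_comp, reassoc_of% hg₃, hg₁, Category.id_comp]
    have f₂ : d₀.h ≫ u.map m₂.hom.left = k ≫ d'.h := by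
      change g₂ ≫ u.map (r₁ ≫ p₂) = _
      rw [u.map_comp, reassoc_of% hg₃, hg₂]
    have f₃ : d₀.h ≫ u.map m₃.hom.left = (k ≫ k') ≫ d''.h := hg₄
    have : IsIso (exT (𝟙 W) d₀ d m₁ f₁).choose :=
      isIso_of_vertical h𝒮 _ (exT (𝟙 W) d₀ d m₁ f₁).choose_spec.1.1
    rw [← cancel_epi (exT (𝟙 W) d₀ d m₁ f₁).choose]
    rw [← Category.assoc, (exCan k d d' e).choose_spec.1.2 (𝟙 W) d₀ m₁ m₂ f₁ (by rw [Category.id_comp]; exact f₂),
      (exCan (k ≫ k') d d'' e'').choose_spec.1.2 (𝟙 W) d₀ m₁ m₃ f₁ (by rw [Category.id_comp]; exact f₃),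
      (exCan k' d' d'' e').choose_spec.1.2 (𝟙 W ≫ k) d₀ m₂ m₃ (by rw [Category.id_comp]; exact f₂)
        (by rw [Category.id_comp]; exact f₃)]
    exact Tcongr d₀ d'' (Category.assoc _ _ _) rfl (by rw [Category.id_comp]; exact f₃) (by rw [Category.id_comp]; exact f₃)
  have exDat : ∀ b : (Stk.sieveCat (R.functorPushforward u)).obj, ∃ d : Dat R u b.obj.left, fd d = b.obj.hom := by
    intro b
    obtain ⟨V, g, h, hg, e⟩ := b.property
    exact ⟨⟨arr g hg, h⟩, e.symm⟩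
  choose dat hdat using exDat
  have hcond : ∀ {b b' : (Stk.sieveCat (R.functorPushforward u)).obj} (m : b ⟶ b'),
      m.hom.left ≫ fd (dat b') = fd (dat b) := fun {b b'} m => by rw [hdat, hdat]; exact Over.w m.hom
  let K₀ : (Stk.sieveCat (R.functorPushforward u)).obj ⥤ 𝒮.obj :=
    { obj := fun b => T (dat b)
      map := fun {b b'} m => (exCan m.hom.left (dat b) (dat b') (hcond m)).choose
      map_id := fun b => by
        have e₁ : (dat b).h ≫ u.map (𝟙 (dat b).a : (dat b).a ⟶ (dat b).a).hom.left = 𝟙 b.obj.left ≫ (dat b).h := by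
          rw [Category.id_comp]; exact (congrArg (fun t => (dat b).h ≫ t) (u.map_id _)).trans (Category.comp_id _)
        exact (canSpan (𝟙 b.obj.left) (dat b) (dat b) (Category.id_comp _) (𝟙 _) e₁).trans (Tid _ e₁)
      map_comp := fun {b b' b''} m n =>
        (canComp m.hom.left n.hom.left (dat b) (dat b') (dat b'') (hcond m) (hcond n) (hcond (m ≫ n))).symm }
  let K : Stk.sieveCat (R.functorPushforward u) ⥤ᵇ 𝒮 :=
    { toFunctor := K₀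
      w := CategoryTheory.Functor.ext
        (fun b => haveI := hl (dat b); IsHomLift.domain_eq 𝒮.p ((dat b).h ≫ j (dat b).a) (l (dat b)))
        (fun b b' m =>
          haveI := (exCan m.hom.left (dat b) (dat b') (hcond m)).choose_spec.1.1
          IsHomLift.fac' 𝒮.p m.hom.left ((exCan m.hom.left (dat b) (dat b') (hcond m)).choose)) }
  obtain ⟨⟨s, hs, ι, hι, hιw⟩⟩ := hO K
  let bOf : (Stk.sieveCat R).obj → (Stk.sieveCat (R.functorPushforward u)).obj := fun a =>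
    arr (u.map a.obj.hom) ⟨_, a.obj.hom, 𝟙 _, a.property, (Category.id_comp _).symm⟩
  let d0 : ∀ a : (Stk.sieveCat R).obj, Dat R u (u.obj a.obj.left) := fun a => ⟨a, 𝟙 _⟩
  let datB : ∀ a : (Stk.sieveCat R).obj, Dat R u (u.obj a.obj.left) := fun a => dat (bOf a)
  have h0 : ∀ a, 𝟙 (u.obj a.obj.left) ≫ fd (datB a) = fd (d0 a) := fun a =>
    (Category.id_comp _).trans ((hdat (bOf a)).trans (Category.id_comp _).symm)
  have canCongr : ∀ {W W' : D} {k k' : W ⟶ W'} (d : Dat R u W) (d' : Dat R u W') (_ : k = k')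
      (e : k ≫ fd d' = fd d) (e' : k' ≫ fd d' = fd d), (exCan k d d' e).choose = (exCan k' d d' e').choose := by
    intro W W' k k' d d' hk e e'
    subst hk
    rfl
  have hiso : ∀ a, IsIso (l (d0 a)) := fun a => by
    have h1 := hl (d0 a)
    rw [show (d0 a).h = 𝟙 _ from rfl, Category.id_comp] at h1
    have := cart h𝒮 (l (d0 a)) h1
    exact IsStronglyCartesian.isIso_of_base_isIso 𝒮.p (j a) (l (d0 a))
  let χ : ∀ a, T (d0 a) ⟶ T (datB a) := fun a => (exCan (𝟙 _) (d0 a) (datB a) (h0 a)).choose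
  let pt : CategoricalPullback u 𝒮.p := ⟨U, s, eqToIso hs.symm⟩
  have hmap : ∀ a, u.map (eqToHom (H.w_obj a) ≫ a.obj.hom) ≫ pt.iso.hom =
      (H.obj a).iso.hom ≫ 𝒮.p.map (@inv _ _ _ _ (l (d0 a)) (hiso a) ≫ χ a ≫ ι (bOf a)) := fun a => by
    have := hiso a
    have : 𝒮.p.IsHomLift (𝟙 (u.obj a.obj.left)) (χ a) := (exCan (𝟙 _) (d0 a) (datB a) (h0 a)).choose_spec.1.1
    have h3 : 𝒮.p.IsHomLift (j a) (l (d0 a)) := by
      have h1 := hl (d0 a)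
      rwa [show (d0 a).h = 𝟙 _ from rfl, Category.id_comp] at h1
    have : IsIso (j a) := inferInstance
    have : 𝒮.p.IsHomLift (inv (j a)) (inv (l (d0 a))) := inferInstance
    have : 𝒮.p.IsHomLift (u.map a.obj.hom) (ι (bOf a)) := hι (bOf a)
    have h4 : 𝒮.p.IsHomLift (inv (j a) ≫ 𝟙 _ ≫ u.map a.obj.hom) (inv (l (d0 a)) ≫ χ a ≫ ι (bOf a)) := inferInstance
    rw [IsHomLift.fac' 𝒮.p (inv (j a) ≫ 𝟙 _ ≫ u.map a.obj.hom) (inv (l (d0 a)) ≫ χ a ≫ ι (bOf a))]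
    simp [j, pt, eqToHom_map]
  refine ⟨⟨pt, rfl, fun a => ⟨eqToHom (H.w_obj a) ≫ a.obj.hom,
    @inv _ _ _ _ (l (d0 a)) (hiso a) ≫ χ a ≫ ι (bOf a), hmap a⟩, fun a => ?_, fun a a' m => ?_⟩⟩
  · exact IsHomLift.of_fac' (CategoricalPullback.π₁ u 𝒮.p) _ _ (H.w_obj a) rfl (by simp [pt])
  · have := hiso a
    have := hiso a'
    have : (Stk.sieveCat R).p.IsHomLift m.hom.left m := sieveCat_isHomLift m
    have h1 : (CategoricalPullback.π₁ u 𝒮.p).IsHomLift m.hom.left (H.map m) :=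
      BasedFunctor.preserves_isHomLift H m.hom.left m
    refine CategoricalPullback.hom_ext ?_ ?_
    · change (H.map m).fst ≫ eqToHom (H.w_obj a') ≫ a'.obj.hom = eqToHom (H.w_obj a) ≫ a.obj.hom
      have e : (H.map m).fst = eqToHom (H.w_obj a) ≫ m.hom.left ≫ eqToHom (H.w_obj a').symm :=
        IsHomLift.fac' (CategoricalPullback.π₁ u 𝒮.p) m.hom.left (H.map m)
      rw [e]
      simp
    · let m' : bOf a ⟶ bOf a' := ObjectProperty.homMk (Over.homMk (u.map m.hom.left) (by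
        change u.map m.hom.left ≫ u.map a'.obj.hom = u.map a.obj.hom
        rw [← u.map_comp, Over.w m.hom]))
      have eT : (d0 a).h ≫ u.map m.hom.left = u.map m.hom.left ≫ (d0 a').h :=
        (Category.id_comp _).trans (Category.comp_id _).symm
      have hT := (exT (u.map m.hom.left) (d0 a) (d0 a') m eT).choose_spec.1.2
      have hfd : u.map m.hom.left ≫ fd (d0 a') = fd (d0 a) := by
        change u.map m.hom.left ≫ 𝟙 _ ≫ u.map a'.obj.hom = 𝟙 _ ≫ u.map a.obj.hom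
        rw [Category.id_comp, Category.id_comp, ← u.map_comp, Over.w m.hom]
      have e3 : (exT (u.map m.hom.left) (d0 a) (d0 a') m eT).choose ≫ χ a' = χ a ≫ K.map m' := by
        rw [← canSpan (u.map m.hom.left) (d0 a) (d0 a') hfd m eT]
        have hfd2 : (u.map m.hom.left ≫ 𝟙 _) ≫ fd (datB a') = fd (d0 a) := by
          rw [Category.assoc, h0 a', hfd]
        have hfd3 : (𝟙 _ ≫ m'.hom.left) ≫ fd (datB a') = fd (d0 a) := by
          rw [Category.assoc, hcond m']; exact h0 a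
        refine (canComp (u.map m.hom.left) (𝟙 _) (d0 a) (d0 a') (datB a') hfd (h0 a') hfd2).trans
          (Eq.trans ?_ (canComp (𝟙 _) m'.hom.left (d0 a) (datB a) (datB a') (h0 a) (hcond m') hfd3).symm)
        exact canCongr (d0 a) (datB a') ((Category.comp_id _).trans (Category.id_comp _).symm) hfd2 hfd3
      have e2 : (H.map m).snd ≫ inv (l (d0 a')) =
          inv (l (d0 a)) ≫ (exT (u.map m.hom.left) (d0 a) (d0 a') m eT).choose := by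
        rw [IsIso.comp_inv_eq, Category.assoc, hT, IsIso.inv_hom_id_assoc]
      change (H.map m).snd ≫ inv (l (d0 a')) ≫ χ a' ≫ ι (bOf a') = inv (l (d0 a)) ≫ χ a ≫ ι (bOf a)
      rw [reassoc_of% e2, reassoc_of% e3]
      exact congrArg (fun t => inv (l (d0 a)) ≫ χ a ≫ t) (hιw m')

omit h𝒮

/-- The base change of a stack is a stack. -/
theorem isStack_pb (J : GrothendieckTopology C) (K : GrothendieckTopology D) (hu : CoverPreserving J K u)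
    (h : Stk.IsStack K 𝒮) : Stk.IsStack J (pb u 𝒮) := by
  refine ⟨grpd h.1, fun U R hR => (isStackFor_iff (grpd h.1)).2 ?_⟩
  have hK : ∀ (X : D) (e : X ⟶ u.obj U), (R.functorPushforward u).pullback e ∈ K X := fun X e =>
    K.pullback_stable e (hu.cover_preserve hR)
  refine ⟨sep_pb h.1 fun X e _ => ((isStackFor_iff h.1).mp (h.2 _ (hK X e))).1,
    glueHom_pb h.1 fun X e _ => ((isStackFor_iff h.1).mp (h.2 _ (hK X e))).2.1, glueObj_pb h.1 ?_⟩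
  exact ((isStackFor_iff h.1).mp (h.2 _ (hu.cover_preserve hR))).2.2

end Groth.Agent.Lib.Fibred.StackPullback
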