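import Groth.Agent.Lib.Fibred.StackLocal

/-!
# Descent along a coarser sieve from descent along a finer one
-/

set_option autoImplicit false
set_option backward.isDefEq.respectTransparency false
set_option backward.isDefEq.respectTransparency.types false

universe v₂ u₂ v u

open CategoryTheory CategoryTheory.Functor Groth.Agent.Lib.Fibred.Basic
  Groth.Agent.Lib.Fibred.Descent Groth.Agent.Lib.Fibred.StackLemmas Groth.Agent.Lib.Fibred.StackLocal

namespace Groth.Agent.Lib.Fibred.StackRefine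

variable {C : Type u} [Category.{v} C] {𝒳 : BasedCategory.{v₂, u₂} C} (h : FibCat.IsFibGrpd 𝒳.p) {U : C}
  {S R : Sieve U} (hSR : S ≤ R)

include h hSR

theorem glueHom (hS : GlueHom S 𝒳) (hp : ∀ ⦃V : C⦄ (f : V ⟶ U), R f → Sep (S.pullback f) 𝒳) :
    GlueHom R 𝒳 := by
  intro ξ η hξ hη c hc
  obtain ⟨a, ha, hae⟩ := hS hξ hη (fun V f hf z ψ hψ => c f (hSR _ hf) ψ hψ)
    ⟨fun V f hf z ψ hψ => hc.lifts f (hSR _ hf) ψ hψ,
      fun V f hf z ψ hψ V' g z' ρ hρ hψ' => hc.comp f (hSR _ hf) ψ hψ g ρ hρ hψ'⟩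
  refine ⟨a, ha, fun V f hf z ψ hψ => ?_⟩
  obtain ⟨η', ω, hω⟩ := Descent.exists_lift h hη f
  obtain ⟨α, hα, hαe⟩ := exists_factor h ω hω (ψ ≫ a) inferInstance
  obtain ⟨β, hβ, hβe⟩ := exists_factor h ω hω (c f hf ψ hψ) (hc.lifts f hf ψ hψ)
  suffices e : α = β by rw [← hαe, ← hβe, e]
  refine hp f hf α β hα hβ fun W g hg w χ hχ => ?_
  refine ext_lift h ω hω (g := g) inferInstance inferInstance ?_
  have : 𝒳.p.IsHomLift (g ≫ f) (χ ≫ ψ) := inferInstance
  rw [Category.assoc, Category.assoc, hαe, hβe, ← Category.assoc, hae (g ≫ f) hg (χ ≫ ψ) inferInstance]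
  exact hc.comp f hf ψ hψ g χ hχ inferInstance

theorem glueObj (hS : GlueObj S 𝒳)
    (hp : ∀ ⦃V : C⦄ (f : V ⟶ U), R f → Sep (S.pullback f) 𝒳 ∧ GlueHom (S.pullback f) 𝒳) :
    GlueObj R 𝒳 := by
  intro H
  let incl : (Stk.sieveCat S).obj ⥤ (Stk.sieveCat R).obj :=
    { obj := fun b => ⟨b.obj, hSR _ b.property⟩
      map := fun {b b'} n => ObjectProperty.homMk n.hom }
  let HS : Stk.sieveCat S ⥤ᵇ 𝒳 :=
    { toFunctor := incl ⋙ H.toFunctor
      w := by rw [Functor.assoc, H.w]; rfl }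
  obtain ⟨⟨ξ, hξ, ι, hι, hw⟩⟩ := hS HS
  choose ξ' ω hω using fun a : (Stk.sieveCat R).obj => Descent.exists_lift h hξ a.obj.hom
  have ext : ∀ a : (Stk.sieveCat R).obj, ∃ γ : H.obj a ⟶ ξ, 𝒳.p.IsHomLift a.obj.hom γ ∧
      ∀ (b : (Stk.sieveCat S).obj) (n : incl.obj b ⟶ a), H.map n ≫ γ = ι b := by
    intro a
    let T : Sieve a.obj.left := S.pullback a.obj.hom
    let L : (Stk.sieveCat T).obj ⥤ (Stk.sieveCat S).obj :=
      { obj := fun c => arr (c.obj.hom ≫ a.obj.hom) c.property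
        map := fun {c c'} m => ObjectProperty.homMk (Over.homMk m.hom.left (by
          change m.hom.left ≫ c'.obj.hom ≫ a.obj.hom = c.obj.hom ≫ a.obj.hom
          rw [← Category.assoc, Over.w m.hom])) }
    let K : Stk.sieveCat T ⥤ᵇ 𝒳 :=
      { toFunctor := L ⋙ HS.toFunctor
        w := by rw [Functor.assoc, HS.w]; rfl }
    let toA : ∀ c, incl.obj (L.obj c) ⟶ a := fun c => ObjectProperty.homMk (Over.homMk c.obj.hom rfl)
    have htoA : ∀ c, 𝒳.p.IsHomLift c.obj.hom (H.map (toA c)) := fun c => by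
      have : (Stk.sieveCat R).p.IsHomLift c.obj.hom (toA c) := sieveCat_isHomLift (toA c)
      infer_instance
    choose μ hμ hμe using fun c : (Stk.sieveCat T).obj =>
      (show ∃ μ : HS.obj (L.obj c) ⟶ ξ' a, 𝒳.p.IsHomLift c.obj.hom μ ∧ μ ≫ ω a = ι (L.obj c) by
        have := cart h (ω a) (hω a)
        have : 𝒳.p.IsHomLift (c.obj.hom ≫ a.obj.hom) (ι (L.obj c)) := hι (L.obj c)
        exact (IsStronglyCartesian.universal_property 𝒳.p a.obj.hom (ω a) c.obj.hom
          (c.obj.hom ≫ a.obj.hom) rfl (ι (L.obj c))).exists)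
    let g₁ : Glued K :=
      { pt := H.obj a
        proj := H.w_obj a
        ι := fun c => H.map (toA c)
        lifts := htoA
        w := fun c c' m => by
          change H.map (incl.map (L.map m)) ≫ H.map (toA c') = H.map (toA c)
          rw [← H.toFunctor.map_comp]
          exact congrArg H.map (ObjectProperty.hom_ext _ (Over.OverMorphism.ext (Over.w m.hom))) }
    let g₂ : Glued K :=
      { pt := ξ' a
        proj := haveI := hω a; IsHomLift.domain_eq 𝒳.p a.obj.hom (ω a)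
        ι := μ
        lifts := hμ
        w := fun c c' m => by
          have : (Stk.sieveCat T).p.IsHomLift m.hom.left m := sieveCat_isHomLift m
          have : 𝒳.p.IsHomLift m.hom.left (K.map m) := BasedFunctor.preserves_isHomLift K m.hom.left m
          have := hμ c'
          have h1 : 𝒳.p.IsHomLift c.obj.hom (K.map m ≫ μ c') := by
            rw [← Over.w m.hom]; exact (inferInstanceAs (𝒳.p.IsHomLift (m.hom.left ≫ c'.obj.hom) _))
          refine ext_lift h (ω a) (hω a) h1 (hμ c) ?_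
          rw [Category.assoc, hμe, hμe]
          exact hw (L.map m) }
    obtain ⟨hsep, hglue⟩ := hp a.obj.hom a.property
    obtain ⟨γ₀, hγ₀, hγ₀e⟩ := exists_desc h hglue g₁ g₂
    refine ⟨γ₀ ≫ ω a, ?_, fun b n => ?_⟩
    · have := hω a
      exact IsHomLift.comp_lift_id_left' 𝒳.p a.obj.left γ₀ a.obj.hom (ω a)
    · have hn : n.hom.left ≫ a.obj.hom = b.obj.hom := Over.w n.hom
      let c : (Stk.sieveCat T).obj := arr n.hom.left (by change S (n.hom.left ≫ a.obj.hom); rw [hn]; exact b.property)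
      let e : b ⟶ L.obj c := ObjectProperty.homMk (Over.homMk (𝟙 b.obj.left) (by
        change 𝟙 _ ≫ n.hom.left ≫ a.obj.hom = b.obj.hom
        rw [Category.id_comp, hn]))
      have hne : incl.map e ≫ toA c = n :=
        ObjectProperty.hom_ext _ (Over.OverMorphism.ext (Category.id_comp _))
      rw [← hne, H.toFunctor.map_comp, Category.assoc]
      have e1 : H.map (toA c) ≫ γ₀ ≫ ω a = ι (L.obj c) := by
        have e2 := hγ₀e c
        change H.map (toA c) ≫ γ₀ = μ c at e2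
        rw [reassoc_of% e2, hμe]
      rw [e1]
      exact hw e
  choose γ hγ hγe using ext
  refine ⟨⟨ξ, hξ, γ, hγ, fun a a' m => ?_⟩⟩
  obtain ⟨hsep, -⟩ := hp a.obj.hom a.property
  have : (Stk.sieveCat R).p.IsHomLift m.hom.left m := sieveCat_isHomLift m
  have := hγ a'
  have h1 : 𝒳.p.IsHomLift a.obj.hom (H.map m ≫ γ a') := by
    rw [← Over.w m.hom]; exact (inferInstanceAs (𝒳.p.IsHomLift (m.hom.left ≫ a'.obj.hom) _))
  obtain ⟨α, hα, hαe⟩ := exists_factor h (ω a) (hω a) _ h1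
  obtain ⟨β, hβ, hβe⟩ := exists_factor h (ω a) (hω a) _ (hγ a)
  suffices e : α = β by rw [← hαe, ← hβe, e]
  refine hsep α β hα hβ fun W g hg w χ hχ => ?_
  let b : (Stk.sieveCat S).obj := arr (g ≫ a.obj.hom) hg
  let n : incl.obj b ⟶ a := ObjectProperty.homMk (Over.homMk g rfl)
  have : (Stk.sieveCat R).p.IsHomLift g n := sieveCat_isHomLift n
  obtain ⟨θ, hθ, rfl⟩ := exists_factor (f := g) h (H.map n) inferInstance χ hχ
  have := hω a
  refine ext_lift h (ω a) (hω a) (g := g) inferInstance inferInstance ?_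
  simp only [Category.assoc, hαe, hβe]
  rw [← Category.assoc (H.map n), ← H.toFunctor.map_comp, hγe a' b (n ≫ m), hγe a b n]

/-- The stack condition passes to a coarser sieve. -/
theorem isStackFor (hS : Stk.IsStackFor S 𝒳)
    (hR : ∀ ⦃V : C⦄ (f : V ⟶ U), R f → Stk.IsPrestackFor (S.pullback f) 𝒳) : Stk.IsStackFor R 𝒳 := by
  obtain ⟨s1, s2, s3⟩ := (isStackFor_iff h).mp hS
  refine (isStackFor_iff h).2 ⟨?_, glueHom h hSR s2 (fun V f hf => ((isPrestackFor_iff h).mp (hR f hf)).1),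
    glueObj h hSR s3 (fun V f hf => (isPrestackFor_iff h).mp (hR f hf))⟩
  intro ξ η a b ha hb hab
  exact s1 a b ha hb fun V f hf => hab f (hSR _ hf)

end Groth.Agent.Lib.Fibred.StackRefine
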