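import Groth.Prelude.Def_W4stkalgstUpp
import Groth.Agent.Lib.Fibred.Basic
import Mathlib.CategoryTheory.Localization.CalculusOfFractions
import Mathlib.CategoryTheory.Limits.Shapes.Pullback.HasPullback
import Mathlib.CategoryTheory.Limits.Shapes.Equalizers
import Mathlib.CategoryTheory.Limits.Shapes.Pullback.IsPullback.Basic
import Mathlib.CategoryTheory.Limits.Preserves.Shapes.Equalizers
import Mathlib.CategoryTheory.Limits.Shapes.FiniteLimits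

/-!
# The localised category of a pullback of a fibred category
-/

set_option autoImplicit false
set_option backward.isDefEq.respectTransparency false
set_option backward.isDefEq.respectTransparency.types false

universe v₃ u₃ v₂ u₂ v u

open CategoryTheory CategoryTheory.Functor CategoryTheory.Limits Groth.Agent.Lib.Fibred.Basic Stk

namespace Groth.Agent.Lib.Fibred.Upp

variable {C : Type u} [Category.{v} C] {D : Type u₂} [Category.{v₂} D] (u : C ⥤ D)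
  (𝒮 : BasedCategory.{v₃, u₃} C) [𝒮.p.IsFibered]

theorem cartesian_self {a b : 𝒮.obj} {R S : C} (f : R ⟶ S) (φ : a ⟶ b) [𝒮.p.IsCartesian f φ] :
    𝒮.p.IsStronglyCartesian (𝒮.p.map φ) φ :=
  isStronglyCartesian_self_of_isCartesian 𝒮.p f φ

variable [HasPullbacks C] [HasEqualizers C] [PreservesLimitsOfShape WalkingCospan u]
  [PreservesLimitsOfShape WalkingParallelPair u]

theorem calculus : (uppR u 𝒮).HasRightCalculusOfFractions := by
  have hid : ∀ a : UppObj u 𝒮, uppR u 𝒮 (𝟙 a) := fun a =>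
    ⟨(by
      have : 𝒮.p.IsHomLift (𝒮.p.map (𝟙 a.x)) (𝟙 a.x) := IsHomLift.map 𝒮.p (𝟙 a.x)
      exact IsStronglyCartesian.of_isIso 𝒮.p (𝒮.p.map (𝟙 a.x)) (𝟙 a.x)),
      by rw [UppObj.id_bot]; infer_instance⟩
  refine { id_mem := hid, comp_mem := ?_, exists_rightFraction := ?_, ext := ?_ }
  · rintro X Y Z f g ⟨hf, hf'⟩ ⟨hg, hg'⟩
    refine ⟨?_, by rw [UppObj.comp_bot]; infer_instance⟩
    rw [UppObj.comp_top, 𝒮.p.map_comp]
    infer_instance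
  · intro X Y φ
    obtain ⟨f, s, ⟨hs₁, hs₂⟩⟩ := φ
    let a := 𝒮.p.map f.top
    let g := 𝒮.p.map s.top
    obtain ⟨x'', π, hπ⟩ := IsPreFibered.exists_isCartesian 𝒮.p (rfl : 𝒮.p.obj X.x = _) (pullback.fst a g)
    have := hπ
    have e : 𝒮.p.obj x'' = pullback a g := IsHomLift.domain_eq 𝒮.p (pullback.fst a g) π
    obtain ⟨t, ⟨ht, hte⟩, -⟩ := IsStronglyCartesian.universal_property 𝒮.p g s.top (pullback.snd a g)
      (pullback.fst a g ≫ a) pullback.condition (π ≫ f.top)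
    have hp := (IsPullback.of_hasPullback a g).map u
    have eq : X.φ ≫ u.map a = (f.bot ≫ inv s.bot ≫ Y.φ) ≫ u.map g := by
      rw [f.w, Category.assoc, Category.assoc, s.w, IsIso.inv_hom_id_assoc]
    let X' : UppObj u 𝒮 := ⟨x'', X.V, hp.lift X.φ (f.bot ≫ inv s.bot ≫ Y.φ) eq ≫ u.map (eqToHom e.symm)⟩
    let s' : X' ⟶ X := ⟨π, 𝟙 X.V, by
      change (hp.lift _ _ eq ≫ u.map (eqToHom e.symm)) ≫ u.map (𝒮.p.map π) = 𝟙 X.V ≫ X.φ
      rw [IsHomLift.fac' 𝒮.p (pullback.fst a g) π, Category.id_comp, Category.assoc, ← u.map_comp]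
      simp⟩
    let f' : X' ⟶ Y := ⟨t, f.bot ≫ inv s.bot, by
      change (hp.lift _ _ eq ≫ u.map (eqToHom e.symm)) ≫ u.map (𝒮.p.map t) = (f.bot ≫ inv s.bot) ≫ Y.φ
      rw [IsHomLift.fac' 𝒮.p (pullback.snd a g) t, Category.assoc, ← u.map_comp]
      simp⟩
    refine ⟨⟨s', ⟨cartesian_self 𝒮 (pullback.fst a g) π, inferInstanceAs (IsIso (𝟙 X.V))⟩, f'⟩, ?_⟩
    refine UppObj.hom_ext hte.symm ?_
    change 𝟙 X.V ≫ f.bot = (f.bot ≫ inv s.bot) ≫ s.bot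
    simp
  · rintro X Y Y' f₁ f₂ s ⟨hs₁, hs₂⟩ e
    have et : f₁.top ≫ s.top = f₂.top ≫ s.top := congrArg UppObj.Hom.top e
    have eb' : f₁.bot ≫ s.bot = f₂.bot ≫ s.bot := congrArg UppObj.Hom.bot e
    have eb : f₁.bot = f₂.bot := (cancel_mono s.bot).mp eb'
    let a₁ := 𝒮.p.map f₁.top
    let a₂ := 𝒮.p.map f₂.top
    obtain ⟨x', π, hπ⟩ := IsPreFibered.exists_isCartesian 𝒮.p (rfl : 𝒮.p.obj X.x = _) (equalizer.ι a₁ a₂)
    have := hπ
    have ex : 𝒮.p.obj x' = equalizer a₁ a₂ := IsHomLift.domain_eq 𝒮.p (equalizer.ι a₁ a₂) π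
    have hl := isLimitForkMapOfIsLimit u (equalizer.condition a₁ a₂) (equalizerIsEqualizer a₁ a₂)
    obtain ⟨l, hl'⟩ := Fork.IsLimit.lift' hl X.φ (by
      change X.φ ≫ u.map (𝒮.p.map f₁.top) = X.φ ≫ u.map (𝒮.p.map f₂.top)
      rw [f₁.w, f₂.w, eb])
    let X' : UppObj u 𝒮 := ⟨x', X.V, l ≫ u.map (eqToHom ex.symm)⟩
    let t : X' ⟶ X := ⟨π, 𝟙 X.V, by
      change (l ≫ u.map (eqToHom ex.symm)) ≫ u.map (𝒮.p.map π) = 𝟙 X.V ≫ X.φ
      rw [IsHomLift.fac' 𝒮.p (equalizer.ι a₁ a₂) π, Category.id_comp, Category.assoc, ← u.map_comp]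
      simp only [eqToHom_trans_assoc, eqToHom_refl, Category.id_comp, Category.comp_id]
      exact hl'⟩
    refine ⟨X', t, ⟨cartesian_self 𝒮 (equalizer.ι a₁ a₂) π, inferInstanceAs (IsIso (𝟙 X.V))⟩, UppObj.hom_ext ?_ ?_⟩
    · change π ≫ f₁.top = π ≫ f₂.top
      have h1 : 𝒮.p.IsHomLift (equalizer.ι a₁ a₂ ≫ a₁) (π ≫ f₁.top) := inferInstance
      have h2 : 𝒮.p.IsHomLift (equalizer.ι a₁ a₂ ≫ a₁) (π ≫ f₂.top) := by
        rw [equalizer.condition a₁ a₂]; infer_instance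
      refine IsStronglyCartesian.ext 𝒮.p (𝒮.p.map s.top) s.top (equalizer.ι a₁ a₂ ≫ a₁) ?_
      rw [Category.assoc, Category.assoc, et]
    · change 𝟙 X.V ≫ f₁.bot = 𝟙 X.V ≫ f₂.bot
      rw [eb]

variable {u 𝒮}

omit [𝒮.p.IsFibered] [HasPullbacks C] [HasEqualizers C] [PreservesLimitsOfShape WalkingCospan u]
  [PreservesLimitsOfShape WalkingParallelPair u] in
theorem up_map_fac {X Y : UppObj u 𝒮} (m : X ⟶ Y) :
    (Stk.up u 𝒮).p.map ((uppR u 𝒮).Q.map m) = m.bot := by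
  have h := Functor.congr_hom
    (Localization.Construction.fac (UppObj.forget u 𝒮) (uppR_isInvertedBy u 𝒮)) m
  rw [eqToHom_refl, eqToHom_refl, Category.comp_id, Category.id_comp] at h
  exact h

omit [𝒮.p.IsFibered] [HasPullbacks C] [HasEqualizers C] [PreservesLimitsOfShape WalkingCospan u]
  [PreservesLimitsOfShape WalkingParallelPair u] in
theorem up_map_fraction {X Y : UppObj u 𝒮} (φ : (uppR u 𝒮).RightFraction X Y) :
    haveI := φ.hs.2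
    (Stk.up u 𝒮).p.map (φ.map (uppR u 𝒮).Q (Localization.inverts (uppR u 𝒮).Q (uppR u 𝒮))) =
      inv φ.s.bot ≫ φ.f.bot := by
  have := φ.hs.2
  rw [← cancel_epi φ.s.bot, IsIso.hom_inv_id_assoc]
  conv_lhs => rw [← up_map_fac φ.s]
  erw [← (Stk.up u 𝒮).p.map_comp, φ.map_s_comp_map]
  exact up_map_fac φ.f

variable (u 𝒮)

/-- The localised category is fibred. -/
theorem up_isFibered : (Stk.up u 𝒮).p.IsFibered := by
  have := calculus u 𝒮
  refine IsFibered.of_exists_isStronglyCartesian fun A R h => ?_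
  obtain ⟨X, rfl⟩ : ∃ X, (uppR u 𝒮).Q.obj X = A :=
    ⟨_, (Localization.Construction.objEquiv (uppR u 𝒮)).apply_symm_apply A⟩
  let X₀ : UppObj u 𝒮 := ⟨X.x, R, h ≫ X.φ⟩
  let m : X₀ ⟶ X := ⟨𝟙 X.x, h, by
    change (h ≫ X.φ) ≫ u.map (𝒮.p.map (𝟙 X.x)) = h ≫ X.φ
    simp⟩
  have hm : (Stk.up u 𝒮).p.IsHomLift h ((uppR u 𝒮).Q.map m) :=
    IsHomLift.of_fac (Stk.up u 𝒮).p h _ rfl rfl (by rw [up_map_fac]; simp [m])
  refine ⟨(uppR u 𝒮).Q.obj X₀, (uppR u 𝒮).Q.map m, { universal_property' := fun {A'} g ψ hψ => ?_ }⟩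
  obtain ⟨X', rfl⟩ : ∃ X', (uppR u 𝒮).Q.obj X' = A' :=
    ⟨_, (Localization.Construction.objEquiv (uppR u 𝒮)).apply_symm_apply A'⟩
  obtain ⟨φ, rfl⟩ := Localization.exists_rightFraction (uppR u 𝒮).Q (uppR u 𝒮) ψ
  have := φ.hs.2
  have hb : φ.f.bot = φ.s.bot ≫ g ≫ h := by
    have e := IsHomLift.eq_of_isHomLift (Stk.up u 𝒮).p (g ≫ h)
      (φ.map (uppR u 𝒮).Q (Localization.inverts (uppR u 𝒮).Q (uppR u 𝒮)))
    rw [e]
    erw [up_map_fraction φ]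
    rw [IsIso.hom_inv_id_assoc]
  let f' : φ.X' ⟶ X₀ := ⟨φ.f.top, φ.s.bot ≫ g, by
    change φ.X'.φ ≫ u.map (𝒮.p.map φ.f.top) = (φ.s.bot ≫ g) ≫ h ≫ X.φ
    rw [φ.f.w, hb]
    simp⟩
  let φ' : (uppR u 𝒮).RightFraction X' X₀ := ⟨φ.s, φ.hs, f'⟩
  have hχ : (Stk.up u 𝒮).p.IsHomLift g (φ'.map (uppR u 𝒮).Q (Localization.inverts (uppR u 𝒮).Q (uppR u 𝒮))) := by
    refine IsHomLift.of_fac (Stk.up u 𝒮).p g _ rfl rfl ?_
    erw [up_map_fraction φ']
    simp [φ', f']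
  have hfac : φ'.map (uppR u 𝒮).Q (Localization.inverts (uppR u 𝒮).Q (uppR u 𝒮)) ≫ (uppR u 𝒮).Q.map m =
      φ.map (uppR u 𝒮).Q (Localization.inverts (uppR u 𝒮).Q (uppR u 𝒮)) := by
    have : IsIso ((uppR u 𝒮).Q.map φ.s) := Localization.inverts (uppR u 𝒮).Q (uppR u 𝒮) φ.s φ.hs
    rw [← cancel_epi ((uppR u 𝒮).Q.map φ.s), φ.map_s_comp_map, ← Category.assoc]
    erw [φ'.map_s_comp_map]
    rw [← Functor.map_comp]
    congr 1
    exact UppObj.hom_ext (Category.comp_id _) (by simp [φ', f', m, hb])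
  refine ⟨_, ⟨hχ, hfac⟩, fun χ hχ' => ?_⟩
  obtain ⟨hχl, hχe⟩ := hχ'
  obtain ⟨φ₁, rfl⟩ := Localization.exists_rightFraction (uppR u 𝒮).Q (uppR u 𝒮) χ
  have := φ₁.hs.2
  obtain ⟨⟨q, hq, r⟩, hqr⟩ := MorphismProperty.HasRightCalculusOfFractions.exists_rightFraction
    (MorphismProperty.LeftFraction.mk φ₁.s φ.s φ.hs)
  dsimp only at hqr
  have hqs : uppR u 𝒮 (q ≫ φ₁.s) := MorphismProperty.comp_mem _ _ _ hq φ₁.hs
  have : IsIso ((uppR u 𝒮).Q.map (q ≫ φ₁.s)) := Localization.inverts (uppR u 𝒮).Q (uppR u 𝒮) _ hqs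
  rw [← cancel_epi ((uppR u 𝒮).Q.map (q ≫ φ₁.s))]
  conv_rhs => rw [hqr, Functor.map_comp, Category.assoc]
  erw [φ'.map_s_comp_map]
  rw [Functor.map_comp, Category.assoc, φ₁.map_s_comp_map, ← Functor.map_comp, ← Functor.map_comp]
  have e2 : (uppR u 𝒮).Q.map ((q ≫ φ₁.f) ≫ m) = (uppR u 𝒮).Q.map ((r ≫ f') ≫ m) := by
    have h1 := congrArg (fun t => (uppR u 𝒮).Q.map (q ≫ φ₁.s) ≫ t) (hχe.trans hfac.symm)
    simp only [← Category.assoc] at h1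
    conv_rhs at h1 => rw [hqr, Functor.map_comp]
    simp only [Functor.map_comp, Category.assoc] at h1 ⊢
    erw [φ₁.map_s_comp_map_assoc, φ'.map_s_comp_map_assoc] at h1
    exact h1
  obtain ⟨Z, t, ht, hte⟩ := (MorphismProperty.map_eq_iff_precomp (uppR u 𝒮).Q (uppR u 𝒮) _ _).mp e2
  refine (MorphismProperty.map_eq_iff_precomp (uppR u 𝒮).Q (uppR u 𝒮) _ _).mpr ⟨Z, t, ht, ?_⟩
  refine UppObj.hom_ext ?_ ?_
  · have h2 := congrArg UppObj.Hom.top hte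
    simp only [UppObj.comp_top, m, φ', X₀, Category.assoc] at h2 ⊢
    erw [Category.comp_id, Category.comp_id] at h2
    exact h2
  · have e3 : φ₁.f.bot = φ₁.s.bot ≫ g := by
      have e4 := IsHomLift.eq_of_isHomLift (Stk.up u 𝒮).p g
        (φ₁.map (uppR u 𝒮).Q (Localization.inverts (uppR u 𝒮).Q (uppR u 𝒮)))
      rw [e4]
      erw [up_map_fraction φ₁]
      rw [IsIso.hom_inv_id_assoc]
    have h5 : q.bot ≫ φ₁.s.bot = r.bot ≫ φ.s.bot := congrArg UppObj.Hom.bot hqr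
    change t.bot ≫ q.bot ≫ φ₁.f.bot = t.bot ≫ r.bot ≫ φ.s.bot ≫ g
    rw [e3, reassoc_of% h5]

/-- Over a category fibred in groupoids the localised category is fibred in groupoids. -/
theorem up_isFibGrpd (h𝒮 : FibCat.IsFibGrpd 𝒮.p) : FibCat.IsFibGrpd (Stk.up u 𝒮).p := by
  have := calculus u 𝒮
  have := up_isFibered u 𝒮
  refine grpd_of_isFibered fun U => ⟨fun {a b} ψ => ?_⟩
  obtain ⟨A, hA⟩ := a
  obtain ⟨B, hB⟩ := b
  obtain ⟨X, rfl⟩ : ∃ X, (uppR u 𝒮).Q.obj X = A :=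
    ⟨_, (Localization.Construction.objEquiv (uppR u 𝒮)).apply_symm_apply A⟩
  obtain ⟨Y, rfl⟩ : ∃ Y, (uppR u 𝒮).Q.obj Y = B :=
    ⟨_, (Localization.Construction.objEquiv (uppR u 𝒮)).apply_symm_apply B⟩
  obtain ⟨φ, hφ⟩ := Localization.exists_rightFraction (uppR u 𝒮).Q (uppR u 𝒮) (Fiber.fiberInclusion.map ψ)
  have := φ.hs.2
  have h1 : IsIso ((Stk.up u 𝒮).p.map (Fiber.fiberInclusion.map ψ)) :=
    isIso_map_of_lift_id (p := (Stk.up u 𝒮).p) U (Fiber.fiberInclusion.map ψ)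
  rw [hφ] at h1
  have h2 : IsIso φ.f.bot := by
    have e := up_map_fraction φ
    have h3 : IsIso (inv φ.s.bot ≫ φ.f.bot) := by rw [← e]; exact h1
    exact IsIso.of_isIso_comp_left (inv φ.s.bot) φ.f.bot
  have hf : uppR u 𝒮 φ.f :=
    ⟨stronglyCartesian_of_grpd h𝒮 (𝒮.p.map φ.f.top) φ.f.top, h2⟩
  have : IsIso ((uppR u 𝒮).Q.map φ.f) := Localization.inverts (uppR u 𝒮).Q (uppR u 𝒮) φ.f hf
  have : IsIso (Fiber.fiberInclusion.map ψ) := by
    rw [hφ]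
    change IsIso (φ.map _ _)
    rw [MorphismProperty.RightFraction.map]
    infer_instance
  exact isIso_fiber ψ

end Groth.Agent.Lib.Fibred.Upp
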